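import Cfsg.Agent.Lib.Classical.OrthForms

/-!
# Words in reflections: membership in the derived group, rank parity

A product of reflections lies in the derived group exactly when its length is even and the product of
the values is a square. The rank of `g - 1` has the parity of the length.
-/

set_option autoImplicit false
set_option linter.unusedSectionVars false

namespace Cfsg.Agent.Small.Orth

open Module QuadraticMap Cfsg.Agent.Classical Cfsg.Agent.Classical.OCount Cfsg.Agent.Classical.ORefl
  Cfsg.Agent.Classical.OOmega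

variable {F : Type*} [Field F] {V : Type*} [AddCommGroup V] [Module F V] [FiniteDimensional F V]
  {Q : QuadraticForm F V}

variable (Q) in
/-- The product of the reflections along a list of vectors. -/
noncomputable def prodRf (vs : List V) : ↥(Iso Q) := (vs.map (rf Q)).prod

theorem prodRf_nil : prodRf Q [] = 1 := rfl

theorem prodRf_cons (v : V) (vs : List V) : prodRf Q (v :: vs) = rf Q v * prodRf Q vs := by
  rw [prodRf, prodRf, List.map_cons, List.prod_cons]

theorem prodRf_append (vs ws : List V) : prodRf Q (vs ++ ws) = prodRf Q vs * prodRf Q ws := by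
  rw [prodRf, prodRf, prodRf, List.map_append, List.prod_append]

theorem prodRf_pair (v w : V) : prodRf Q [v, w] = rf Q v * rf Q w := by
  rw [prodRf_cons, prodRf_cons, prodRf_nil, mul_one]

theorem prodRf_reverse (vs : List V) : prodRf Q vs.reverse = (prodRf Q vs)⁻¹ := by
  induction vs with
  | nil => rw [List.reverse_nil, prodRf_nil, inv_one]
  | cons v vs ih =>
    rw [List.reverse_cons, prodRf_append, ih, prodRf_cons, prodRf_nil, mul_one, prodRf_cons,
      _root_.mul_inv_rev, rf_inv]

theorem conj_prodRf (g : ↥(Iso Q)) (vs : List V) : g * prodRf Q vs * g⁻¹ = prodRf Q (vs.map fun v => g.1 v) := by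
  induction vs with
  | nil => rw [List.map_nil, prodRf_nil, mul_one, mul_inv_cancel]
  | cons v vs ih => rw [List.map_cons, prodRf_cons, prodRf_cons, ← ih, ← conj_rf]; group

/-- Every isometry is a product of reflections. -/
theorem exists_list (hQ : PND Q) (h : Nat.card F ≠ 2 ∨ finrank F V ≠ 4) (g : ↥(Iso Q)) :
    ∃ vs : List V, (∀ v ∈ vs, Q v ≠ 0) ∧ prodRf Q vs = g := by
  refine OOmega.induction_on (motive := fun g => ∃ vs : List V, (∀ v ∈ vs, Q v ≠ 0) ∧ prodRf Q vs = g)
    hQ h g ⟨[], by simp, rfl⟩ fun v g hv ih => ?_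
  obtain ⟨vs, hvs, rfl⟩ := ih
  exact ⟨v :: vs, by simpa using ⟨hv, hvs⟩, prodRf_cons v vs⟩

/-- Squares are cancellable. -/
theorem isSquare_mul_iff {a s : F} (hs : IsSquare s) (hs0 : s ≠ 0) : IsSquare (a * s) ↔ IsSquare a :=
  ⟨fun h => by simpa [hs0] using h.mul hs.inv, fun h => h.mul hs⟩

/-- A transitivity of square classes. -/
theorem isSquare_trans {a b c : F} (hb : b ≠ 0) (h₁ : IsSquare (a * b)) (h₂ : IsSquare (b * c)) : IsSquare (a * c) := by
  have h := h₁.mul h₂
  rw [show a * b * (b * c) = a * c * (b * b) by ring] at h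
  exact (isSquare_mul_iff (IsSquare.mul_self b) (mul_ne_zero hb hb)).1 h

theorem isSquare_all [Finite F] (h2 : (2 : F) = 0) (a : F) : IsSquare a := by
  haveI : CharP F 2 := CharTwo.of_one_ne_zero_of_two_eq_zero one_ne_zero h2
  haveI := Fintype.ofFinite F
  exact FiniteField.isSquare_of_char_two (ringChar.eq F 2) a

theorem values_ne {vs : List V} (hvs : ∀ v ∈ vs, Q v ≠ 0) : (vs.map fun v => Q v).prod ≠ 0 := by
  refine List.prod_ne_zero fun h => ?_
  obtain ⟨w, hw, e⟩ := List.mem_map.mp h
  exact hvs w hw e

/-- A product of reflections lies in the derived group iff it is even with square value product. -/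
theorem mem_commutator_iff [Finite F] (hQ : PND Q) (vs : List V) (hvs : ∀ v ∈ vs, Q v ≠ 0) :
    prodRf Q vs ∈ commutator ↥(Iso Q) ↔ Even vs.length ∧ IsSquare (vs.map fun v => Q v).prod := by
  classical
  haveI := Fintype.ofFinite F
  by_cases h2 : (2 : F) = 0
  · haveI : CharP F 2 := CharTwo.of_one_ne_zero_of_two_eq_zero one_ne_zero h2
    refine ⟨fun hm => ⟨?_, isSquare_all h2 _⟩, fun ⟨he, _⟩ => ?_⟩
    · obtain ⟨D, hD⟩ := exists_dickson (Q := Q) hQ
      have key : D (prodRf Q vs) = Multiplicative.ofAdd ((vs.length : ℕ) : F) := by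
        clear hm
        induction vs with
        | nil => rw [prodRf_nil, map_one, List.length_nil, Nat.cast_zero]; rfl
        | cons v vs ih =>
          rw [prodRf_cons, map_mul, hD v (hvs v List.mem_cons_self),
            ih fun w hw => hvs w (List.mem_cons_of_mem _ hw), List.length_cons, Nat.cast_succ, ← ofAdd_add,
            add_comm]
      have h1 := Abelianization.commutator_subset_ker D hm
      rw [MonoidHom.mem_ker, key, ← ofAdd_zero] at h1
      rw [even_iff_two_dvd]
      exact (CharP.cast_eq_zero_iff F 2 _).1 (Multiplicative.ofAdd.injective h1)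
    · rw [← Abelianization.ker_of, MonoidHom.mem_ker]
      cases vs with
      | nil => rw [prodRf_nil, map_one]
      | cons u us =>
        have hu := hvs u List.mem_cons_self
        have key : ∀ l : List V, (∀ v ∈ l, Q v ≠ 0) →
            Abelianization.of (prodRf Q l) = Abelianization.of (rf Q u) ^ l.length := by
          intro l hl
          induction l with
          | nil => rw [prodRf_nil, map_one, List.length_nil, pow_zero]
          | cons w l ih =>
            rw [prodRf_cons, map_mul, ih fun x hx => hl x (List.mem_cons_of_mem _ hx), List.length_cons, pow_succ',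
              map_rf_isSquare hQ Abelianization.of hu (hl w List.mem_cons_self) (isSquare_all h2 _)]
        obtain ⟨k, hk⟩ := he
        rw [key _ hvs, hk, pow_add, ← mul_pow, ← map_mul, rf_mul_self, map_one, one_pow]
  by_cases hn : 2 ≤ finrank F V
  · rw [commutator_eq h2 hQ hn, MonoidHom.mem_ker]
    suffices H : both Q h2 hQ (prodRf Q vs) =
        (if Even vs.length then 1 else -1, if IsSquare (vs.map fun w => Q w).prod then 1 else -1) by
      rw [H]
      split_ifs with h h' <;> simp [Prod.ext_iff, h, *]
    induction vs with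
    | nil => rw [prodRf_nil, map_one]; simp; rfl
    | cons v l ih =>
      have hv := hvs v List.mem_cons_self
      have hl := values_ne (Q := Q) fun w hw => hvs w (List.mem_cons_of_mem _ hw)
      rw [prodRf_cons, map_mul, ih (fun w hw => hvs w (List.mem_cons_of_mem _ hw)), List.map_cons,
        List.prod_cons, List.length_cons]
      have e : both Q h2 hQ (rf Q v) = (-1, if IsSquare (Q v) then 1 else -1) := by
        refine Prod.ext (dsign_rf h2 hQ hv) ?_
        change spinor Q (rf Q v) = _
        split_ifs with h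
        · exact (spinor_rf h2 hQ hn hv).mpr h
        · exact (Int.units_eq_one_or _).resolve_left fun e => h ((spinor_rf h2 hQ hn hv).mp e)
      rw [e]
      refine Prod.ext ?_ ?_
      · simp only [Prod.mk_mul_mk, Nat.even_add_one]
        split_ifs <;> simp_all
      · simp only [Prod.mk_mul_mk, isSquare_iff_mul h2 hv hl]
        split_ifs <;> simp_all
  -- dimension at most one
  have hd : ∀ l : List V, dsign h2 hQ (prodRf Q l) = (-1) ^ l.length ∨ ∃ v ∈ l, Q v = 0 := by
    intro l
    induction l with
    | nil => exact Or.inl (by rw [prodRf_nil, map_one, List.length_nil, pow_zero])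
    | cons v l ih =>
      rcases ih with ih | ⟨w, hw, h0⟩
      · by_cases hv : Q v = 0
        · exact Or.inr ⟨v, List.mem_cons_self, hv⟩
        · exact Or.inl (by rw [prodRf_cons, map_mul, dsign_rf h2 hQ hv, ih, List.length_cons, pow_succ'])
      · exact Or.inr ⟨w, List.mem_cons_of_mem _ hw, h0⟩
  have hline : ∀ v w, Q v ≠ 0 → Q w ≠ 0 → ∃ t : F, t ≠ 0 ∧ w = t • v := by
    intro v w hv hw
    have hv0 : v ≠ 0 := fun e => hv (by rw [e, QuadraticMap.map_zero])
    have htop : Submodule.span F {v} = ⊤ := Submodule.eq_top_of_finrank_eq (by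
      have := (Submodule.span F {v}).finrank_le
      rw [finrank_span_singleton hv0] at this ⊢
      omega)
    obtain ⟨t, ht⟩ := Submodule.mem_span_singleton.1 (htop ▸ Submodule.mem_top : w ∈ Submodule.span F {v})
    exact ⟨t, fun e => hw (by rw [← ht, e, zero_smul, QuadraticMap.map_zero]), ht.symm⟩
  constructor
  · intro hm
    have h1 := (hd vs).resolve_right (by rintro ⟨v, hv, h0⟩; exact hvs v hv h0)
    have h3 := Abelianization.commutator_subset_ker (dsign h2 hQ) hm
    rw [MonoidHom.mem_ker, h1] at h3
    have he : Even vs.length := by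
      by_contra hc
      rw [(Nat.not_even_iff_odd.1 hc).neg_one_pow] at h3
      exact absurd h3 (by decide)
    refine ⟨he, ?_⟩
    cases vs with
    | nil => simp
    | cons u us =>
      have hu := hvs u List.mem_cons_self
      have key : ∀ l : List V, (∀ v ∈ l, Q v ≠ 0) → IsSquare ((l.map fun v => Q v).prod * Q u ^ l.length) := by
        intro l hl
        induction l with
        | nil => simp
        | cons w l ih =>
          obtain ⟨t, -, ht⟩ := hline u w hu (hl w List.mem_cons_self)
          rw [List.map_cons, List.prod_cons, List.length_cons, pow_succ',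
            show Q w * (l.map fun v => Q v).prod * (Q u * Q u ^ l.length) =
              (t * Q u) * (t * Q u) * ((l.map fun v => Q v).prod * Q u ^ l.length) by
              rw [ht, QuadraticMap.map_smul, smul_eq_mul]; ring]
          exact (IsSquare.mul_self _).mul (ih fun x hx => hl x (List.mem_cons_of_mem _ hx))
      exact (isSquare_mul_iff (he.isSquare_pow _) (pow_ne_zero _ hu)).1 (key _ hvs)
  · rintro ⟨he, -⟩
    cases vs with
    | nil => exact one_mem _
    | cons u us =>
      have hu := hvs u List.mem_cons_self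
      have key : ∀ l : List V, (∀ v ∈ l, Q v ≠ 0) → prodRf Q l = rf Q u ^ l.length := by
        intro l hl
        induction l with
        | nil => rfl
        | cons w l ih =>
          obtain ⟨t, ht0, ht⟩ := hline u w hu (hl w List.mem_cons_self)
          rw [prodRf_cons, ih fun x hx => hl x (List.mem_cons_of_mem _ hx), List.length_cons, pow_succ', ht,
            rf_smul ht0]
      obtain ⟨k, hk⟩ := he
      rw [key _ hvs, hk, ← two_mul, pow_mul, _root_.sq, rf_mul_self, one_pow]
      exact one_mem _

/-- A Siegel transformation is an even word with square value product. -/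
theorem siegel_list (hQ : PND Q) (h : Nat.card F ≠ 2 ∨ finrank F V ≠ 4) {e v : V} (he : Q e = 0)
    (hv : polar Q e v = 0) :
    ∃ vs : List V, (∀ w ∈ vs, Q w ≠ 0) ∧ prodRf Q vs = ⟨siegel he hv, siegel_mem he hv⟩ ∧ Even vs.length ∧
      IsSquare (vs.map fun w => Q w).prod := by
  have key : ∀ u (hu : polar Q e u = 0), Q u ≠ 0 → ∃ vs : List V, (∀ w ∈ vs, Q w ≠ 0) ∧
      prodRf Q vs = ⟨siegel he hu, siegel_mem he hu⟩ ∧ Even vs.length ∧ IsSquare (vs.map fun w => Q w).prod := by
    intro u hu hQu
    obtain ⟨-, hval⟩ := siegel_eq_refl he hu hQu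
    refine ⟨[u - Q u • e, u], ?_, ?_, ⟨1, rfl⟩, ?_⟩
    · simp [hval, hQu]
    · rw [prodRf_pair, siegel_eq_rf he hu hQu]
    · simp only [List.map_cons, List.map_nil, List.prod_cons, List.prod_nil, mul_one, hval]
      exact IsSquare.mul_self _
  by_cases hQv : Q v = 0
  · rcases siegel_cases hQ h he hv hQv with h1 | ⟨z, hez, hQz, hQvz⟩
    · exact ⟨[], by simp, Subtype.ext h1.symm, ⟨0, rfl⟩, by simp⟩
    · have hvz : polar Q e (v - z) = 0 := by rw [polar_sub_right, hv, hez, sub_zero]
      obtain ⟨as, ha1, ha2, ha3, ha4⟩ := key _ hvz hQvz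
      obtain ⟨bs, hb1, hb2, hb3, hb4⟩ := key _ hez hQz
      refine ⟨as ++ bs, fun w hw => (List.mem_append.1 hw).elim (ha1 w) (hb1 w), ?_, ?_, ?_⟩
      · rw [prodRf_append, ha2, hb2]
        exact Subtype.ext (siegel_split he hv hez).symm
      · rw [List.length_append]; exact ha3.add hb3
      · rw [List.map_append, List.prod_append]; exact ha4.mul hb4
  · exact key v hv hQv

/-- Scaling a hyperbolic pair is a product of two reflections. -/
theorem pair_scale {e f : V} (he : Q e = 0) (hf : Q f = 0) (hef : polar Q e f = 1) {c : F} (hc : c ≠ 0) :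
    Q (e - f) = -1 ∧ Q (e - c • f) = -c ∧ (prodRf Q [e - f, e - c • f]).1 e = c • e ∧
      (prodRf Q [e - f, e - c • f]).1 f = c⁻¹ • f ∧
      ∀ x, polar Q e x = 0 → polar Q f x = 0 → (prodRf Q [e - f, e - c • f]).1 x = x := by
  have hfe : polar Q f e = 1 := by rw [polar_comm, hef]
  have h1 : Q (e - f) = -1 := by rw [map_sub_two, he, hf, hef]; ring
  have h2 : Q (e - c • f) = -c := by
    rw [map_sub_two, QuadraticMap.map_smul, he, hf, polar_smul_right, hef]; simp
  have hsw : ∀ x, (prodRf Q [e - f, e - c • f]).1 x = refl Q (e - f) (refl Q (e - c • f) x) := fun x => by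
    rw [prodRf_pair]; rfl
  have hee : polar Q e e = 0 := polar_self_zero he
  have hff : polar Q f f = 0 := polar_self_zero hf
  refine ⟨h1, h2, ?_, ?_, fun x hx hy => ?_⟩
  · rw [hsw]
    simp only [refl_apply, polar_sub_left, polar_sub_right, polar_smul_left, polar_smul_right, hee, hff, hef, hfe, h1, h2,
      smul_eq_mul]
    match_scalars <;> field_simp <;> ring
  · rw [hsw]
    simp only [refl_apply, polar_sub_left, polar_sub_right, polar_smul_left, polar_smul_right, hee, hff, hef, hfe, h1, h2,
      smul_eq_mul]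
    match_scalars <;> field_simp <;> ring
  · rw [hsw, refl_fix, refl_fix]
    · rw [polar_sub_left, polar_smul_left, hx, hy, smul_zero, sub_zero]
    · rw [refl_fix (by rw [polar_sub_left, polar_smul_left, hx, hy, smul_zero, sub_zero]), polar_sub_left, hx, hy,
        sub_zero]

/-- The orthogonal space of the fixed space is the image of `g - 1`. -/
theorem mem_range_iff (hQ : PND Q) (g : ↥(Iso Q)) (v : V) :
    v ∈ LinearMap.range ((g.1 : V →ₗ[F] V) - 1) ↔ ∀ x, g.1 x = x → polar Q v x = 0 := by
  have hsub : ∀ v ∈ LinearMap.range ((g.1 : V →ₗ[F] V) - 1), ∀ x, g.1 x = x → polar Q v x = 0 := by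
    rintro _ ⟨y, rfl⟩ x hx
    change polar Q (g.1 y - y) x = 0
    rw [polar_sub_left, ← polar_iso g.2 y x, hx, sub_self]
  refine ⟨hsub v, fun hv => ?_⟩
  have hle : LinearMap.range ((g.1 : V →ₗ[F] V) - 1) ≤
      LinearMap.BilinForm.orthogonal Q.polarBilin (LinearMap.ker ((g.1 : V →ₗ[F] V) - 1)) := fun w hw x hx => by
    change polar Q x w = 0
    rw [polar_comm]
    exact hsub w hw x (sub_eq_zero.1 (by simpa using hx))
  rw [Submodule.eq_of_le_of_finrank_eq hle (by
    rw [LinearMap.BilinForm.finrank_orthogonal (nondeg hQ)]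
    have := LinearMap.finrank_range_add_finrank_ker ((g.1 : V →ₗ[F] V) - 1)
    omega)]
  intro x hx
  change polar Q x v = 0
  rw [polar_comm]
  exact hv x (sub_eq_zero.1 (by simpa using hx))

/-- One reflection changes the parity of the rank of `g - 1`. -/
theorem even_rank_step (hQ : PND Q) (g : ↥(Iso Q)) {v : V} (hv : Q v ≠ 0) :
    Even (finrank F (LinearMap.range (((rf Q v * g : ↥(Iso Q)).1 : V →ₗ[F] V) - 1))) ↔
      ¬ Even (finrank F (LinearMap.range ((g.1 : V →ₗ[F] V) - 1))) := by
  set f : V →ₗ[F] V := (g.1 : V →ₗ[F] V) - 1 with hf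
  set f' : V →ₗ[F] V := (((rf Q v * g : ↥(Iso Q)).1 : V →ₗ[F] V) - 1) with hf'
  have hkf : ∀ x, x ∈ LinearMap.ker f ↔ g.1 x = x := fun x => by
    rw [hf, LinearMap.mem_ker, LinearMap.sub_apply, sub_eq_zero]; rfl
  have hkf' : ∀ x, x ∈ LinearMap.ker f' ↔ refl Q v (g.1 x) = x := fun x => by
    rw [hf', LinearMap.mem_ker, LinearMap.sub_apply, sub_eq_zero]; rfl
  have hr := LinearMap.finrank_range_add_finrank_ker f
  have hr' := LinearMap.finrank_range_add_finrank_ker f'
  have hv0 : v ≠ 0 := fun e => hv (by rw [e, QuadraticMap.map_zero])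
  suffices H : finrank F (LinearMap.ker f') = finrank F (LinearMap.ker f) + 1 ∨
      finrank F (LinearMap.ker f) = finrank F (LinearMap.ker f') + 1 by
    rw [Nat.even_iff, Nat.even_iff]; omega
  by_cases hmem : v ∈ LinearMap.range f
  · left
    obtain ⟨x₀, hx₀⟩ := hmem
    have hgx : g.1 x₀ = x₀ + v := by rw [← hx₀, hf]; simp
    have hpol : polar Q v x₀ = -Q v := by
      have := g.2 x₀
      rw [hgx, map_two, polar_comm Q x₀ v] at this
      linear_combination this
    have hx₀' : x₀ ∈ LinearMap.ker f' := by
      rw [hkf', hgx, refl_apply, polar_add_right, hpol, polar_self_two,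
        show (Q v)⁻¹ * (-Q v + 2 * Q v) = 1 by field_simp; ring, one_smul, add_sub_cancel_right]
    have hx₀n : x₀ ∉ LinearMap.ker f := by
      rw [hkf, hgx]; simpa using hv0
    have hle : LinearMap.ker f ≤ LinearMap.ker f' := fun x hx => by
      rw [hkf] at hx
      rw [hkf', hx, refl_fix ((mem_range_iff hQ g v).1 ⟨x₀, hx₀⟩ x hx)]
    have heq : LinearMap.ker f' = LinearMap.ker f ⊔ Submodule.span F {x₀} := by
      refine le_antisymm (fun x hx => ?_) (sup_le hle (by simpa using hx₀'))
      rw [hkf'] at hx
      obtain ⟨s, hs⟩ : ∃ s : F, g.1 x = x + s • v := by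
        refine ⟨(Q v)⁻¹ * polar Q v (g.1 x), ?_⟩
        rw [refl_apply, sub_eq_iff_eq_add] at hx
        exact hx
      have : x - s • x₀ ∈ LinearMap.ker f := by
        rw [hkf, map_sub, map_smul, hs, hgx, smul_add]; abel
      rw [← sub_add_cancel x (s • x₀)]
      exact Submodule.add_mem_sup this (Submodule.smul_mem _ _ (Submodule.mem_span_singleton_self _))
    have hlt : LinearMap.ker f < LinearMap.ker f' := lt_of_le_of_ne hle fun e => hx₀n (e ▸ hx₀')
    have h1 := Submodule.finrank_lt_finrank_of_lt hlt
    have h3 : finrank F (LinearMap.ker f') ≤ finrank F (LinearMap.ker f) + 1 := by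
      rw [heq]
      refine (Submodule.finrank_add_le_finrank_add_finrank _ _).trans ?_
      rw [finrank_span_singleton (fun e : x₀ = 0 => hx₀n (by rw [e]; exact Submodule.zero_mem _))]
    omega
  · right
    have heq : LinearMap.ker f' = LinearMap.ker f ⊓ LinearMap.ker (Q.polarBilin v) := by
      ext x
      rw [Submodule.mem_inf, hkf', hkf, LinearMap.mem_ker, polarBilin_apply_apply]
      constructor
      · intro hx
        rw [refl_apply, sub_eq_iff_eq_add] at hx
        have hs : (Q v)⁻¹ * polar Q v (g.1 x) = 0 := by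
          by_contra hs
          refine hmem ⟨((Q v)⁻¹ * polar Q v (g.1 x))⁻¹ • x, ?_⟩
          rw [map_smul, hf, LinearMap.sub_apply,
            show (g.1 : V →ₗ[F] V) x - (1 : V →ₗ[F] V) x = g.1 x - x from rfl]
          conv_lhs => arg 2; rw [sub_eq_iff_eq_add'.2 hx]
          rw [inv_smul_smul₀ hs]
        rw [hs, zero_smul, add_zero] at hx
        refine ⟨hx, ?_⟩
        rw [hx] at hs
        exact (mul_eq_zero.1 hs).resolve_left (inv_ne_zero hv)
      · rintro ⟨hx, hp⟩
        rw [hx, refl_fix hp]
    obtain ⟨x₁, hx₁, hx₁'⟩ : ∃ x, g.1 x = x ∧ polar Q v x ≠ 0 := by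
      by_contra hc
      push Not at hc
      exact hmem ((mem_range_iff hQ g v).2 hc)
    have hlt : LinearMap.ker f' < LinearMap.ker f := lt_of_le_of_ne (heq ▸ inf_le_left) fun e => by
      have := (hkf x₁).2 hx₁
      rw [← e, heq, Submodule.mem_inf] at this
      exact hx₁' (LinearMap.mem_ker.1 this.2)
    have h1 := Submodule.finrank_lt_finrank_of_lt hlt
    have h3 := Submodule.finrank_sup_add_finrank_inf_eq (LinearMap.ker f) (LinearMap.ker (Q.polarBilin v))
    have h4 := (LinearMap.ker f ⊔ LinearMap.ker (Q.polarBilin v)).finrank_le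
    have h5 := LinearMap.finrank_range_add_finrank_ker (Q.polarBilin v)
    have h6 : finrank F (LinearMap.range (Q.polarBilin v)) ≤ 1 :=
      (Submodule.finrank_le _).trans_eq (finrank_self F)
    rw [← heq] at h3
    omega

/-- The rank of `g - 1` has the parity of the length. -/
theorem even_rank_iff (hQ : PND Q) (vs : List V) (hvs : ∀ v ∈ vs, Q v ≠ 0) :
    Even (finrank F (LinearMap.range (((prodRf Q vs).1 : V →ₗ[F] V) - 1))) ↔ Even vs.length := by
  induction vs with
  | nil =>
    rw [prodRf_nil, show (((1 : ↥(Iso Q)).1 : V →ₗ[F] V) - 1) = 0 from sub_self _, LinearMap.range_zero,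
      finrank_bot, List.length_nil]
  | cons v vs ih =>
    rw [prodRf_cons, even_rank_step hQ _ (hvs v List.mem_cons_self),
      ih fun w hw => hvs w (List.mem_cons_of_mem _ hw), List.length_cons, Nat.even_add_one]

end Cfsg.Agent.Small.Orth
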