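import Cfsg.Agent.Lib.Small.Orth.SimPlus

/-!
# Similitudes of the minus form

The classes are read over a quadratic extension.
-/

set_option autoImplicit false
set_option linter.unusedSectionVars false

namespace Cfsg.Agent.Small.Orth

open Module QuadraticMap Matrix Cfsg.Agent.Classical Cfsg.Agent.Classical.OCount Cfsg.Agent.Classical.ORefl
  Cfsg.Agent.Classical.OOmega

universe u

variable {F : Type u} [Field F] [Fintype F]

/-- The minus form as a quadratic form. -/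
noncomputable abbrev qMinus (m : ℕ) (a b : F) : QuadraticForm F ((Fin m ⊕ Fin m) ⊕ Fin 2 → F) :=
  formOf m (Equiv.refl ((Fin m ⊕ Fin m) ⊕ Fin 2)) (planeForm a b)

theorem qMinus_apply (m : ℕ) (a b : F) (v : (Fin m ⊕ Fin m) ⊕ Fin 2 → F) :
    qMinus m a b v = (∑ i : Fin m, v (.inl (.inl i)) * v (.inl (.inr i))) +
      (v (.inr 0) ^ 2 + a * v (.inr 0) * v (.inr 1) + b * v (.inr 1) ^ 2) := by
  rw [coe_minus]; rfl

/-- A non-degenerate plane. -/
theorem pnd_plane_disc (h2 : (2 : F) ≠ 0) {a b : F} (hD : 4 * b - a * a ≠ 0) : PND (planeForm a b) := fun z hz => by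
  have e1 := hz ![1, 0]
  have e2 := hz ![0, 1]
  simp [plane_polar] at e1 e2
  have h1 : z 1 = 0 := (mul_eq_zero.mp (show (4 * b - a * a) * z 1 = 0 by linear_combination 2 * e2 - a * e1)).resolve_left hD
  have h0 : z 0 = 0 := (mul_eq_zero.mp (show 2 * z 0 = 0 by rw [h1] at e1; linear_combination e1)).resolve_left h2
  funext i; fin_cases i <;> assumption

theorem disc_ne (h2 : (2 : F) ≠ 0) {a b : F} (hab : ∀ z₁ z₂ : F, z₁ ^ 2 + a * z₁ * z₂ + b * z₂ ^ 2 = 0 → z₁ = 0 ∧ z₂ = 0) :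
    4 * b - a * a ≠ 0 := fun e => by
  have := (hab (-a / 2) 1 (by field_simp; linear_combination e)).2
  exact one_ne_zero this

/-- The standard similitude of the minus form. -/
abbrev dMinus (m : ℕ) (a b c u v : F) : Matrix ((Fin m ⊕ Fin m) ⊕ Fin 2) ((Fin m ⊕ Fin m) ⊕ Fin 2) F :=
  Matrix.fromBlocks (dPlus m c) 0 0 !![u, -b * v; v, u + a * v]

theorem det_dMinus (m : ℕ) (a b c u v : F) :
    (dMinus m a b c u v).det = c ^ m * (u ^ 2 + a * u * v + b * v ^ 2) := by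
  rw [Matrix.det_fromBlocks_zero₂₁, det_dPlus, Matrix.det_fin_two_of]
  ring

theorem dMinus_mulVec (m : ℕ) (a b c u v : F) (x : (Fin m ⊕ Fin m) ⊕ Fin 2 → F) :
    (∀ i, (dMinus m a b c u v *ᵥ x) (.inl (.inl i)) = c * x (.inl (.inl i))) ∧
      (∀ i, (dMinus m a b c u v *ᵥ x) (.inl (.inr i)) = x (.inl (.inr i))) ∧
      (dMinus m a b c u v *ᵥ x) (.inr 0) = u * x (.inr 0) - b * v * x (.inr 1) ∧
      (dMinus m a b c u v *ᵥ x) (.inr 1) = v * x (.inr 0) + (u + a * v) * x (.inr 1) := by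
  refine ⟨fun i => ?_, fun i => ?_, ?_, ?_⟩ <;> rw [Matrix.fromBlocks_mulVec] <;>
    simp [Matrix.mulVec_diagonal, Matrix.mulVec, dotProduct, Fin.sum_univ_two, Matrix.diagonal_apply]
  ring

theorem dMinus_sim (m : ℕ) (a b c u v : F) (hc : u ^ 2 + a * u * v + b * v ^ 2 = c)
    (x : (Fin m ⊕ Fin m) ⊕ Fin 2 → F) : qMinus m a b (dMinus m a b c u v *ᵥ x) = c * qMinus m a b x := by
  obtain ⟨h1, h2, h3, h4⟩ := dMinus_mulVec m a b c u v x
  simp only [qMinus_apply, h1, h2, h3, h4, mul_assoc, ← Finset.mul_sum]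
  linear_combination (x (.inr 0) ^ 2 + a * x (.inr 0) * x (.inr 1) + b * x (.inr 1) ^ 2) * hc

theorem exists_uv (h2 : (2 : F) ≠ 0) {a b : F}
    (hab : ∀ z₁ z₂ : F, z₁ ^ 2 + a * z₁ * z₂ + b * z₂ ^ 2 = 0 → z₁ = 0 ∧ z₂ = 0) (c : F) :
    ∃ u v : F, u ^ 2 + a * u * v + b * v ^ 2 = c := by
  obtain ⟨w, hw⟩ := exists_value h2 (pnd_plane hab) (by simp) c
  exact ⟨w 0, w 1, by rw [← planeForm_apply]; exact hw⟩

theorem setupMinus (hodd : Odd (Fintype.card F)) {m : ℕ} (hm : 3 ≤ m) {a b : F}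
    (hab : ∀ z₁ z₂ : F, z₁ ^ 2 + a * z₁ * z₂ + b * z₂ ^ 2 = 0 → z₁ = 0 ∧ z₂ = 0) :
    SimSetup (qMinus m a b) (m + 1) where
  h2 := two_ne_of_odd hodd
  pnd := formOf_pnd (pnd_plane hab)
  hcard := by simp; omega
  hN := by omega
  hker := ker_rho_standard rfl (pnd_plane hab) hm
  hD c := by
    obtain ⟨u, v, huv⟩ := exists_uv (two_ne_of_odd hodd) hab (c : F)
    have hdet : (dMinus m a b (c : F) u v).det = (c : F) ^ (m + 1) := by rw [det_dMinus, huv, pow_succ]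
    obtain ⟨D, hD⟩ := exists_GO (Q := qMinus m a b) _ (by rw [hdet]; exact pow_ne_zero _ c.ne_zero) c
      (dMinus_sim m a b (c : F) u v huv)
    exact ⟨D, fun x => by rw [hD]; exact dMinus_sim m a b (c : F) u v huv x, by rw [hD]; exact hdet⟩

/-- The coordinates vanishing on the singular subspace. -/
def uMap (K : Type*) [Field K] (m : ℕ) (r : K) : ((Fin m ⊕ Fin m) ⊕ Fin 2 → K) →ₗ[K] Fin m ⊕ Unit → K :=
  LinearMap.pi fun k => match k with
    | Sum.inl i => LinearMap.proj (φ := fun _ => K) (Sum.inl (Sum.inr i))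
    | Sum.inr _ => LinearMap.proj (φ := fun _ => K) (Sum.inr 0) - r • LinearMap.proj (φ := fun _ => K) (Sum.inr 1)

/-- `u₀ = r u₁`, `y = 0`. -/
def uMinus (K : Type*) [Field K] (m : ℕ) (r : K) : Submodule K ((Fin m ⊕ Fin m) ⊕ Fin 2 → K) :=
  LinearMap.ker (uMap K m r)

theorem mem_uMinus {K : Type*} [Field K] {m : ℕ} {r : K} (x : (Fin m ⊕ Fin m) ⊕ Fin 2 → K) :
    x ∈ uMinus K m r ↔ (∀ i, x (.inl (.inr i)) = 0) ∧ x (.inr 0) = r * x (.inr 1) := by
  rw [uMinus, LinearMap.mem_ker, funext_iff, Sum.forall]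
  simp [uMap, sub_eq_zero]

theorem finrank_uMinus {K : Type*} [Field K] {m : ℕ} (r : K) : finrank K (uMinus K m r) = m + 1 := by
  obtain ⟨f, hf⟩ : ∃ f, f = uMap K m r := ⟨_, rfl⟩
  have hsurj : Function.Surjective f := fun w =>
    ⟨Sum.elim (Sum.elim (fun _ => 0) fun i => w (.inl i)) ![w (.inr ()), 0], funext fun k => by rcases k with k | k <;> simp [hf, uMap]⟩
  have h := LinearMap.finrank_range_add_finrank_ker f
  rw [LinearMap.range_eq_top.2 hsurj, finrank_top] at h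
  simp [Module.finrank_fintype_fun_eq_card] at h
  rw [uMinus, ← hf]
  omega

section Extension

variable {K : Type*} [Field K] [Fintype K] {m : ℕ} {a b : F} (σ : F →+* K)

theorem qMinus_map (v : (Fin m ⊕ Fin m) ⊕ Fin 2 → F) :
    qMinus m (σ a) (σ b) (σ ∘ v) = σ (qMinus m a b v) := by
  simp [qMinus_apply]

theorem prodRf_map (vs : List ((Fin m ⊕ Fin m) ⊕ Fin 2 → F)) (x : (Fin m ⊕ Fin m) ⊕ Fin 2 → F) :
    (prodRf (qMinus m (σ a) (σ b)) (vs.map fun v => σ ∘ v)).1 (σ ∘ x) = σ ∘ (prodRf (qMinus m a b) vs).1 x := by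
  induction vs with
  | nil => rw [List.map_nil, prodRf_nil, prodRf_nil]; rfl
  | cons v vs ih =>
    rw [List.map_cons, prodRf_cons, prodRf_cons]
    show refl (qMinus m (σ a) (σ b)) (σ ∘ v) ((prodRf (qMinus m (σ a) (σ b)) (vs.map fun v => σ ∘ v)).1 (σ ∘ x)) =
      σ ∘ refl (qMinus m a b) v ((prodRf (qMinus m a b) vs).1 x)
    rw [ih, refl_apply, refl_apply, polar, polar,
      show ∀ y z : (Fin m ⊕ Fin m) ⊕ Fin 2 → F, σ ∘ y + σ ∘ z = σ ∘ (y + z) from fun y z => funext fun i => (map_add σ _ _).symm,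
      qMinus_map, qMinus_map, qMinus_map]
    funext i
    simp

theorem preserves_ext (hodd : Odd (Fintype.card F)) (hab : ∀ z₁ z₂ : F, z₁ ^ 2 + a * z₁ * z₂ + b * z₂ ^ 2 = 0 → z₁ = 0 ∧ z₂ = 0)
    (S : SimSetup (qMinus m a b) (m + 1)) (g : ↥(GO ⇑(qMinus m a b))) (r : K) (hr : r ^ 2 + σ a * r + σ b = 0) :
    Cfsg.PreservesSingularClasses (Cfsg.quadFormMinus m K (σ a) (σ b)) ((g : GL ((Fin m ⊕ Fin m) ⊕ Fin 2) F).1.map σ) ↔
      S.delta g = 1 := by
  have h2 : (2 : K) ≠ 0 := fun e => S.h2 (σ.injective (by rw [map_ofNat, map_zero, e]))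
  have hP : PND (planeForm (σ a) (σ b)) := pnd_plane_disc h2 fun e => disc_ne S.h2 hab (σ.injective (by
    simpa [map_ofNat] using e))
  have hQ : PND (qMinus m (σ a) (σ b)) := formOf_pnd hP
  obtain ⟨u, v, huv⟩ := exists_uv S.h2 hab (mult g : F)
  have hdetD : (dMinus m a b (mult g : F) u v).det = (mult g : F) ^ (m + 1) := by rw [det_dMinus, huv, pow_succ]
  obtain ⟨D, hD⟩ := exists_GO (Q := qMinus m a b) _ (by rw [hdetD]; exact pow_ne_zero _ (Units.ne_zero _)) (mult g)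
    (dMinus_sim m a b _ u v huv)
  have hDm : mult D = mult g := Units.ext (S.mult_eq D fun x => by rw [hD]; exact dMinus_sim m a b _ u v huv x)
  obtain ⟨W, hW, hWD⟩ : ∃ W : ↥(Cfsg.isometryGroup F ⇑(qMinus m a b)), True ∧ g = incl ⇑(qMinus m a b) W * D :=
    ⟨⟨((g * D⁻¹ : ↥(GO ⇑(qMinus m a b))) : GL ((Fin m ⊕ Fin m) ⊕ Fin 2) F), fun x _ => by
      show qMinus m a b (((g * D⁻¹ : ↥(GO ⇑(qMinus m a b))) : GL ((Fin m ⊕ Fin m) ⊕ Fin 2) F).1 *ᵥ x) = _
      rw [mult_spec, S.mult_mul, show mult D⁻¹ = (mult D)⁻¹ from map_inv S.multHom D, hDm, mul_inv_cancel,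
        Units.val_one, one_mul]⟩, trivial, (inv_mul_cancel_right g D).symm⟩
  obtain ⟨vs, hvs, hM⟩ := exists_list_mat (Q := qMinus m a b) rfl S.pnd S.gen W
  have hgmat : (g : GL ((Fin m ⊕ Fin m) ⊕ Fin 2) F).1 = W.1.1 * dMinus m a b (mult g : F) u v := by
    rw [← hD]
    exact congrArg (fun h : ↥(GO ⇑(qMinus m a b)) => (h : GL ((Fin m ⊕ Fin m) ⊕ Fin 2) F).1) hWD
  have hDK : (dMinus m a b (mult g : F) u v).map σ = dMinus m (σ a) (σ b) (σ (mult g : F)) (σ u) (σ v) := by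
    rw [Matrix.fromBlocks_map]
    congr 1
    · rw [Matrix.diagonal_map (map_zero σ)]
      congr 1
      funext i; rcases i with i | i <;> simp
    · exact Matrix.map_zero _ (map_zero σ)
    · exact Matrix.map_zero _ (map_zero σ)
    · ext i j; fin_cases i <;> fin_cases j <;> simp
  have huvK : σ u ^ 2 + σ a * σ u * σ v + σ b * σ v ^ 2 = σ (mult g : F) := by rw [← huv]; simp
  have hWK : ∀ x, (W.1.1.map σ) *ᵥ x = (prodRf (qMinus m (σ a) (σ b)) (vs.map fun v => σ ∘ v)).1 x := by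
    suffices h : W.1.1.map σ = LinearMap.toMatrix'
        ((prodRf (qMinus m (σ a) (σ b)) (vs.map fun v => σ ∘ v)).1 : _ →ₗ[K] _) from fun x => by
      rw [h, LinearMap.toMatrix'_mulVec]; rfl
    refine Matrix.ext_of_mulVec_single fun i => ?_
    rw [LinearMap.toMatrix'_mulVec,
      show (Pi.single i 1 : (Fin m ⊕ Fin m) ⊕ Fin 2 → K) = σ ∘ Pi.single i 1 from funext fun j => by
        simp [Pi.single_apply, apply_ite σ]]
    show _ = (prodRf (qMinus m (σ a) (σ b)) (vs.map fun v => σ ∘ v)).1 (σ ∘ Pi.single i 1)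
    rw [prodRf_map, ← hM]
    funext j
    exact (RingHom.map_mulVec σ _ _ j).symm
  have hc0 : σ (mult g : F) ≠ 0 := fun e => Units.ne_zero (mult g) (σ.injective (by rw [e, map_zero]))
  have hdetK : (dMinus m (σ a) (σ b) (σ (mult g : F)) (σ u) (σ v)).det = σ (mult g : F) ^ (m + 1) := by
    rw [det_dMinus, huvK, pow_succ]
  rw [← coe_minus m, preserves_iff h2 hQ S.hcard (U₀ := uMinus K m r) ?_ (finrank_uMinus r) _ _ hc0 ?_
    (GeneralLinearGroup.mkOfDetNeZero (dMinus m (σ a) (σ b) (σ (mult g : F)) (σ u) (σ v))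
      (hdetK.trans_ne (pow_ne_zero _ hc0)))
    (dMinus_sim m (σ a) (σ b) _ (σ u) (σ v) huvK) ?_ hdetK, S.delta_eq_one]
  · rw [show ((g : GL ((Fin m ⊕ Fin m) ⊕ Fin 2) F).1.map σ).det = σ (g : GL ((Fin m ⊕ Fin m) ⊕ Fin 2) F).1.det from
      (RingHom.map_det σ _).symm, ← map_pow]
    exact σ.injective.eq_iff
  · intro x hx
    obtain ⟨h1, h3⟩ := (mem_uMinus x).1 hx
    rw [qMinus_apply]
    simp only [h1, h3, mul_zero, Finset.sum_const_zero, zero_add]
    linear_combination x (.inr 1) ^ 2 * hr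
  · intro x
    rw [hgmat, Matrix.map_mul, ← Matrix.mulVec_mulVec, hWK, (prodRf (qMinus m (σ a) (σ b)) _).2, hDK]
    exact dMinus_sim m (σ a) (σ b) _ (σ u) (σ v) huvK x
  · intro x hx
    obtain ⟨h1, h3⟩ := (mem_uMinus x).1 hx
    obtain ⟨-, k2, k3, k4⟩ := dMinus_mulVec m (σ a) (σ b) (σ (mult g : F)) (σ u) (σ v) x
    refine (mem_uMinus _).2 ⟨fun i => (k2 i).trans (h1 i), ?_⟩
    show (dMinus m (σ a) (σ b) (σ (mult g : F)) (σ u) (σ v) *ᵥ x) (.inr 0) =
      r * (dMinus m (σ a) (σ b) (σ (mult g : F)) (σ u) (σ v) *ᵥ x) (.inr 1)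
    rw [k3, k4, h3]
    linear_combination -(σ v * x (.inr 1)) * hr

end Extension

theorem preserves_minus (hodd : Odd (Fintype.card F)) {m : ℕ} {a b : F}
    (hab : ∀ z₁ z₂ : F, z₁ ^ 2 + a * z₁ * z₂ + b * z₂ ^ 2 = 0 → z₁ = 0 ∧ z₂ = 0)
    (S : SimSetup (qMinus m a b) (m + 1)) (g : ↥(GO ⇑(qMinus m a b))) :
    Cfsg.PreservesSingularClassesMinus m a b (g : GL ((Fin m ⊕ Fin m) ⊕ Fin 2) F).1 ↔ S.delta g = 1 := by
  open Polynomial in
  obtain ⟨P, hP⟩ : ∃ P : F[X], P = X ^ 2 + C a * X + C b := ⟨_, rfl⟩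
  open Polynomial in
  have hm : P.Monic := by rw [hP]; monicity!
  have hd : P.natDegree = 2 := by rw [hP]; compute_degree!
  have hirr : Irreducible P := by
    rw [hm.irreducible_iff_roots_eq_zero_of_degree_le_three (by omega) (by omega)]
    refine Multiset.eq_zero_of_forall_notMem fun z hz => ?_
    rw [Polynomial.mem_roots hm.ne_zero, Polynomial.IsRoot.def, hP] at hz
    have := hab z 1 (by simpa using hz)
    exact one_ne_zero this.2
  haveI : Fact (Irreducible P) := ⟨hirr⟩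
  have h1 : Module.finrank F (AdjoinRoot P) = 2 := by
    rw [(AdjoinRoot.powerBasis hm.ne_zero).finrank, AdjoinRoot.powerBasis_dim, hd]
  have hroot : (AdjoinRoot.root P) ^ 2 + algebraMap F (AdjoinRoot P) a * AdjoinRoot.root P +
      algebraMap F (AdjoinRoot P) b = 0 := by
    have h : Polynomial.aeval (AdjoinRoot.root P) P = 0 := by rw [AdjoinRoot.aeval_eq, AdjoinRoot.mk_self]
    conv_lhs at h => arg 2; rw [hP]
    simpa using h
  constructor
  · rintro ⟨K, _, _, hK, hg⟩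
    haveI : Module.Finite F K := Module.finite_of_finrank_eq_succ hK
    haveI : Finite K := Module.finite_of_finite F
    haveI := Fintype.ofFinite K
    haveI : Module.Finite F (AdjoinRoot P) := Module.finite_of_finrank_eq_succ h1
    haveI : Finite (AdjoinRoot P) := Module.finite_of_finite F
    obtain ⟨φ⟩ := FiniteField.nonempty_algHom_of_finrank_dvd (F := F) (K := AdjoinRoot P) (L := K) (by rw [h1, hK])
    refine (preserves_ext (algebraMap F K) hodd hab S g (φ (AdjoinRoot.root P)) ?_).1 hg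
    have h := congrArg φ hroot
    rw [map_add, map_add, map_mul, map_pow, φ.commutes, φ.commutes, map_zero] at h
    exact h
  · intro hg
    haveI : Module.Finite F (AdjoinRoot P) := Module.finite_of_finrank_eq_succ h1
    haveI : Finite (AdjoinRoot P) := Module.finite_of_finite F
    haveI := Fintype.ofFinite (AdjoinRoot P)
    exact ⟨AdjoinRoot P, inferInstance, inferInstance, h1,
      (preserves_ext (algebraMap F (AdjoinRoot P)) hodd hab S g _ hroot).2 hg⟩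

theorem negMem_minus (hodd : Odd (Fintype.card F)) {m : ℕ} {a b : F}
    (hab : ∀ z₁ z₂ : F, z₁ ^ 2 + a * z₁ * z₂ + b * z₂ ^ 2 = 0 → z₁ = 0 ∧ z₂ = 0) :
    NegMem (qMinus m a b) ↔ Even m ∧ Fintype.card F % 4 = 3 := by
  refine (exists_neg_iff (qMinus m a b)).trans ((negI_minus hodd (m := m + 1) (by omega) a b hab).trans ?_)
  rw [(pow_mod_four hodd (m + 1)).2, Nat.odd_add_one, Nat.not_odd_iff_even]

/-- A similitude with non-square multiplier and the class of its square. -/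
theorem exists_minus_D {m : ℕ} {a b : F}
    (hab : ∀ z₁ z₂ : F, z₁ ^ 2 + a * z₁ * z₂ + b * z₂ ^ 2 = 0 → z₁ = 0 ∧ z₂ = 0)
    (S : SimSetup (qMinus m a b) (m + 1)) :
    ∃ (D : ↥(GO ⇑(qMinus m a b))) (k : ↥(Cfsg.isometryGroup F ⇑(qMinus m a b))) (c : Fˣ),
      ¬ IsSquare (mult D : F) ∧ S.delta D = 1 ∧ D * D = scalarG (qMinus m a b) c * incl ⇑(qMinus m a b) k ∧
        (Even m → k ∉ Cfsg.Omega F ⇑(qMinus m a b)) := by
  obtain ⟨ν, hν⟩ := S.exists_nonsquare
  obtain ⟨u, v, huv⟩ := exists_uv S.h2 hab (ν : F)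
  have hdet : (dMinus m a b (ν : F) u v).det = (ν : F) ^ (m + 1) := by rw [det_dMinus, huv, pow_succ]
  obtain ⟨D, hD⟩ := exists_GO (Q := qMinus m a b) _ (by rw [hdet]; exact pow_ne_zero _ ν.ne_zero) ν
    (dMinus_sim m a b (ν : F) u v huv)
  have hm : mult D = ν := Units.ext (S.mult_eq D fun x => by rw [hD]; exact dMinus_sim m a b (ν : F) u v huv x)
  obtain ⟨k, hk, hk'⟩ := S.sq_decomp D
  refine ⟨D, k, mult D, hm ▸ hν, (S.delta_eq_one D).2 (by rw [hD, hdet, hm]), hk, fun hem hkΩ => ?_⟩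
  obtain ⟨z, hz⟩ : ∃ z : (Fin m ⊕ Fin m) ⊕ Fin 2 → F, z = Sum.elim (fun _ : Fin m ⊕ Fin m => (0 : F)) ![u, v] := ⟨_, rfl⟩
  obtain ⟨e, he⟩ : ∃ e : (Fin m ⊕ Fin m) ⊕ Fin 2 → F, e = Sum.elim (fun _ : Fin m ⊕ Fin m => (0 : F)) ![1, 0] := ⟨_, rfl⟩
  have hQz : qMinus m a b z = ν := by rw [qMinus_apply, hz, ← huv]; simp
  have hQe : qMinus m a b e = 1 := by rw [qMinus_apply, he]; simp
  have hpol : ∀ (w : Fin 2 → F) (x : (Fin m ⊕ Fin m) ⊕ Fin 2 → F),
      polar (qMinus m a b) (Sum.elim (fun _ : Fin m ⊕ Fin m => (0 : F)) w) x =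
        2 * w 0 * x (.inr 0) + a * (w 0 * x (.inr 1) + w 1 * x (.inr 0)) + 2 * b * w 1 * x (.inr 1) := fun w x => by
    simp [polar, qMinus_apply]
    ring
  obtain ⟨vs, w1, w2, w3, w4⟩ := hasWord_of_det S.pnd (Or.inl (card_field_ne_two S.h2))
    (hfam_formOf (Equiv.refl ((Fin m ⊕ Fin m) ⊕ Fin 2)) (planeForm a b)) (Matrix.diagonal fun _ : Fin m => (ν : F))
    (by rw [Matrix.det_diagonal, Finset.prod_const]; exact pow_ne_zero _ ν.ne_zero)
  have hL : ∀ x, (prodRf (qMinus m a b) vs).1 x =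
      Matrix.diagonal (Sum.elim (Sum.elim (fun _ : Fin m => (ν : F)) fun _ => (ν : F)⁻¹) fun _ : Fin 2 => (1 : F)) *ᵥ x :=
    w4.unique (hfam_formOf (Equiv.refl ((Fin m ⊕ Fin m) ⊕ Fin 2)) (planeForm a b))
      (acts_diagonal _ _ _ _ (fun _ => ν.ne_zero) (fun i => rfl) (fun i => rfl) fun r => rfl)
  have hkw : ∀ x, k.1.1 *ᵥ x = (prodRf (qMinus m a b) (vs ++ [z, e])).1 x := fun x => by
    have h := hk' x
    rw [hD, hm] at h
    obtain ⟨p1, p2, p3, p4⟩ := dMinus_mulVec m a b (ν : F) u v x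
    obtain ⟨r1, r2, r3, r4⟩ := dMinus_mulVec m a b (ν : F) u v (dMinus m a b (ν : F) u v *ᵥ x)
    refine smul_right_injective _ ν.ne_zero (h.trans ?_)
    rw [prodRf_append]
    show _ = (ν : F) • (prodRf (qMinus m a b) vs).1 (refl (qMinus m a b) z (refl (qMinus m a b) e x))
    rw [hL, refl_apply, refl_apply, hQe, hQz, he, hz, hpol, hpol]
    funext l
    have hν0 : (ν : F) ≠ 0 := ν.ne_zero
    rcases l with (l | l) | l
    · rw [r1, p1]; simp [Matrix.mulVec_diagonal]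
    · rw [r2, p2]; simp [Matrix.mulVec_diagonal]
    · revert l
      refine Fin.forall_fin_two.2 ⟨?_, ?_⟩
      · rw [r3, p3, p4]; simp [Matrix.mulVec_diagonal]
        field_simp
        rw [← huv]
        ring
      · rw [r4, p3, p4]; simp [Matrix.mulVec_diagonal]
        field_simp
        rw [← huv]
        ring
  have hne : ∀ w ∈ vs ++ [z, e], qMinus m a b w ≠ 0 := fun w hw =>
    (List.mem_append.1 hw).elim (w1 w) (by simp only [List.mem_cons, List.not_mem_nil, or_false]; rintro (rfl | rfl) <;> simp [hQz, hQe])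
  have hsq := ((mem_omega rfl S.pnd k _ hne hkw).1 hkΩ).2
  simp only [List.map_append, List.prod_append, List.map_cons, List.map_nil, List.prod_cons, List.prod_nil, hQz, hQe,
    mul_one, Matrix.det_diagonal, Finset.prod_const, Finset.card_univ, Fintype.card_fin] at hsq w3
  rw [isSquare_iff_mul S.h2 (values_ne w1) ν.ne_zero] at hsq
  rw [isSquare_iff_mul S.h2 (pow_ne_zero _ ν.ne_zero) (values_ne w1)] at w3
  exact hν (hsq.1 (w3.1 (hem.isSquare_pow _)))

/-- Inndiag of the minus type group modulo the inner automorphisms. -/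
theorem inndiag_minus (hodd : Odd (Fintype.card F)) {m : ℕ} (hm : 3 ≤ m) (a b : F)
    (hab : ∀ z₁ z₂ : F, z₁ ^ 2 + a * z₁ * z₂ + b * z₂ ^ 2 = 0 → z₁ = 0 ∧ z₂ = 0) :
    let T := Cfsg.inndiagPOmegaMinus m F a b
    let I := (Cfsg.Inn (Cfsg.POmega F (Cfsg.quadFormMinus m F a b))).subgroupOf T
    ((Even m ∧ Fintype.card F % 4 = 3) → ∃ φ : ↥T →* Multiplicative (ZMod 4), Function.Surjective φ ∧ φ.ker = I) ∧
    (¬ (Even m ∧ Fintype.card F % 4 = 3) → ∃ φ : ↥T →* Multiplicative (ZMod 2), Function.Surjective φ ∧ φ.ker = I) := by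
  intro T I
  have S := setupMinus hodd hm hab
  have h := S.delta_inn_of (coe_minus m a b)
    (fun g => Cfsg.PreservesSingularClassesMinus m a b g.1) (preserves_minus hodd hab S) T rfl
  obtain ⟨D, k, c, h1, h2, h3, h4⟩ := exists_minus_D hab S
  have hN := negMem_minus hodd hab (m := m)
  exact ⟨fun hc => (h.2 (hN.2 hc) D k c h1 h2 h3).2 (h4 hc.1), fun hc => h.1 fun hn => hc (hN.1 hn)⟩

end Cfsg.Agent.Small.Orth
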