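import Cfsg.Agent.Lib.Small.Orth.Standard
import Cfsg.Agent.Lib.Classical.OrthPOmega

/-!
# `diag(A, A⁻ᵀ, 1)` in `Ω` of a standard form
-/

set_option autoImplicit false
set_option linter.unusedSectionVars false

namespace Cfsg.Agent.Small.Orth

open Module QuadraticMap Matrix Cfsg.Agent.Classical Cfsg.Agent.Classical.OCount Cfsg.Agent.Classical.ORefl
  Cfsg.Agent.Classical.OOmega

variable {F : Type*} [Field F] [Finite F] {R : Type} [Fintype R] [DecidableEq R] {ι : Type} [Fintype ι]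
  [DecidableEq ι] {m : ℕ} {ε : ι ≃ (Fin m ⊕ Fin m) ⊕ R} {P : QuadraticForm F (R → F)} {q : (ι → F) → F}

/-- A matrix acting as `diag(A, A⁻ᵀ, 1)` lies in `Ω` iff `det A` is a square. -/
theorem exists_levi_iff (hq : ⇑(formOf m ε P) = q) (hP : PND P) (h : Nat.card F ≠ 2 ∨ Fintype.card ι ≠ 4)
    (A : Matrix (Fin m) (Fin m) F) (hA : A.det ≠ 0) (M : Matrix ι ι F)
    (hM : Acts (formOf m ε P) (fun i => bv ε (.inl (.inl i))) (fun i => bv ε (.inl (.inr i))) A (Matrix.mulVecLin M)) :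
    (∃ g : ↥(Cfsg.isometryGroup F q), g ∈ Cfsg.Omega F q ∧ (g.1.1 : Matrix ι ι F) = M) ↔ IsSquare A.det := by
  have hQ : PND (formOf m ε P) := formOf_pnd hP
  obtain ⟨vs, h1, h2, h3, h4⟩ := hasWord_of_det hQ
    (by rwa [Module.finrank_fintype_fun_eq_card]) (hfam_formOf ε P) A hA
  rw [exists_iff hq hQ vs h1 fun x => hM.unique (hfam_formOf ε P) h4 x]
  refine ⟨fun h => (isSquare_mul_iff h.2 (values_ne h1)).1 h3, fun h => ⟨h2, ?_⟩⟩
  rw [mul_comm] at h3
  exact (isSquare_mul_iff h hA).1 h3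

theorem det_neg_first (i : ℕ) (hi : i ≤ m) :
    (Matrix.diagonal fun j : Fin m => if (j : ℕ) < i then (-1 : F) else 1).det = (-1) ^ i := by
  rw [Matrix.det_diagonal, Fin.prod_univ_eq_prod_range (fun j => if j < i then (-1 : F) else 1) m, Finset.prod_ite,
    Finset.prod_const, Finset.prod_const_one, mul_one,
    show (Finset.range m).filter (fun j => j < i) = Finset.range i by ext j; simp; omega, Finset.card_range]

end Cfsg.Agent.Small.Orth
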