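import Cfsg.Agent.Lib.Small.Orth.SimClasses
import Cfsg.Agent.Lib.Small.Orth.LeviMat

/-!
# Similitudes of the plus form
-/

set_option autoImplicit false
set_option linter.unusedSectionVars false

namespace Cfsg.Agent.Small.Orth

open Module QuadraticMap Matrix Cfsg.Agent.Classical Cfsg.Agent.Classical.OCount Cfsg.Agent.Classical.ORefl
  Cfsg.Agent.Classical.OOmega

variable {F : Type*} [Field F] [Fintype F]

/-- `q^m mod 4` for odd `q`. -/
theorem pow_mod_four {q : ℕ} (h : Odd q) (m : ℕ) :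
    (q ^ m % 4 = 1 ↔ ¬ (Odd m ∧ q % 4 = 3)) ∧ (q ^ m % 4 = 3 ↔ Odd m ∧ q % 4 = 3) := by
  have hq : q % 4 = 1 ∨ q % 4 = 3 := by have := Nat.odd_iff.mp h; omega
  rw [Nat.pow_mod]
  rcases hq with e | e <;> rw [e]
  · simp
  · rcases Nat.even_or_odd m with ⟨k, rfl⟩ | ⟨k, rfl⟩
    · have : ((3 : ℕ) ^ (k + k)) % 4 = 1 := by rw [← two_mul, pow_mul, Nat.pow_mod]; norm_num
      simp [this, Nat.not_odd_iff_even, Even.add_self]
    · have : ((3 : ℕ) ^ (2 * k + 1)) % 4 = 3 := by rw [pow_succ, pow_mul, Nat.mul_mod, Nat.pow_mod]; norm_num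
      simp [this]

theorem negMem_plus (hodd : Odd (Fintype.card F)) {m : ℕ} (hm : 1 ≤ m) :
    NegMem (qPlus F m) ↔ ¬ (Odd m ∧ Fintype.card F % 4 = 3) :=
  ((exists_neg_iff (qPlus F m)).trans (negI_plus hodd hm)).trans (pow_mod_four hodd m).1

/-- The standard similitude of multiplier `c`. -/
abbrev dPlus (m : ℕ) (c : F) : Matrix (Fin m ⊕ Fin m) (Fin m ⊕ Fin m) F :=
  Matrix.diagonal (Sum.elim (fun _ => c) fun _ => 1)

theorem det_dPlus (m : ℕ) (c : F) : (dPlus m c).det = c ^ m := by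
  rw [Matrix.det_diagonal, Fintype.prod_sum_type]
  simp

theorem dPlus_sim (m : ℕ) (c : F) (v : Fin m ⊕ Fin m → F) :
    qPlus F m (dPlus m c *ᵥ v) = c * qPlus F m v := by
  rw [coe_plus, Cfsg.quadFormPlus, Cfsg.quadFormPlus, Finset.mul_sum]
  refine Finset.sum_congr rfl fun i _ => ?_
  rw [Matrix.mulVec_diagonal, Matrix.mulVec_diagonal, Sum.elim_inl, Sum.elim_inr]
  ring

theorem setupPlus (hodd : Odd (Fintype.card F)) {m : ℕ} (hm : 3 ≤ m) : SimSetup (qPlus F m) m where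
  h2 := two_ne_of_odd hodd
  pnd := qPlus_pnd F m
  hcard := by simp; omega
  hN := by omega
  hker := ker_rho_standard rfl pnd_empty hm
  hD c := by
    obtain ⟨D, hD⟩ := exists_GO (Q := qPlus F m) (dPlus m (c : F)) (by rw [det_dPlus]; exact pow_ne_zero _ c.ne_zero) c
      (dPlus_sim m (c : F))
    exact ⟨D, fun v => by rw [hD]; exact dPlus_sim m (c : F) v, by rw [hD]; exact det_dPlus m (c : F)⟩

theorem preserves_plus (hodd : Odd (Fintype.card F)) {m : ℕ} (S : SimSetup (qPlus F m) m) (g : ↥(GO ⇑(qPlus F m))) :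
    Cfsg.PreservesSingularClasses (Cfsg.quadFormPlus m F) (g : GL (Fin m ⊕ Fin m) F).1 ↔ S.delta g = 1 := by
  rw [← coe_plus m, S.delta_eq_one]
  refine preserves_iff S.h2 S.pnd S.hcard (zeroRight_singular F) (finrank_zeroRight F m) _ _ (Units.ne_zero _)
    (mult_spec g) (GeneralLinearGroup.mkOfDetNeZero (dPlus m (mult g : F))
      (by rw [det_dPlus]; exact pow_ne_zero _ (Units.ne_zero _))) (dPlus_sim m _) (fun u hu => ?_) (det_dPlus m _)
  rw [mem_zeroRight] at hu ⊢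
  intro i
  show (dPlus m (mult g : F) *ᵥ u) (Sum.inr i) = 0
  rw [Matrix.mulVec_diagonal, hu, mul_zero]

/-- A similitude with non-square multiplier and the class of its square. -/
theorem exists_plus_D (hodd : Odd (Fintype.card F)) {m : ℕ} (S : SimSetup (qPlus F m) m) :
    ∃ (D : ↥(GO ⇑(qPlus F m))) (k : ↥(Cfsg.isometryGroup F ⇑(qPlus F m))) (c : Fˣ),
      ¬ IsSquare (mult D : F) ∧ S.delta D = 1 ∧ D * D = scalarG (qPlus F m) c * incl ⇑(qPlus F m) k ∧
        (k ∈ Cfsg.Omega F ⇑(qPlus F m) ↔ Even m) := by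
  obtain ⟨ν, hν⟩ := S.exists_nonsquare
  obtain ⟨D, hD⟩ := exists_GO (Q := qPlus F m) (dPlus m (ν : F)) (by rw [det_dPlus]; exact pow_ne_zero _ ν.ne_zero) ν
    (dPlus_sim m (ν : F))
  have hm : mult D = ν := Units.ext (S.mult_eq D fun v => by rw [hD]; exact dPlus_sim m (ν : F) v)
  obtain ⟨k, hk, hk'⟩ := S.sq_decomp D
  refine ⟨D, k, mult D, hm ▸ hν, (S.delta_eq_one D).2 (by rw [hD, det_dPlus, hm]), hk, ?_⟩
  have hkM : k.1.1 = Matrix.diagonal (Sum.elim (fun _ : Fin m => (ν : F)) fun _ => (ν : F)⁻¹) := by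
    refine Matrix.ext_of_mulVec_single fun i => ?_
    have h := hk' (Pi.single i 1)
    rw [hD, hm, Matrix.mulVec_mulVec, Matrix.diagonal_mul_diagonal] at h
    funext l
    refine mul_left_cancel₀ ν.ne_zero ?_
    have h' := congrFun h l
    simp only [Pi.smul_apply, smul_eq_mul, Matrix.mulVec_diagonal] at h'
    rw [h', Matrix.mulVec_diagonal]
    rcases l with l | l <;> simp [mul_assoc]
  have hiff := exists_levi_iff (q := ⇑(qPlus F m)) (ε := (Equiv.sumEmpty (Fin m ⊕ Fin m) Empty).symm) rfl pnd_empty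
    S.gen (Matrix.diagonal fun _ : Fin m => (ν : F))
    (by rw [Matrix.det_diagonal, Finset.prod_const]; exact pow_ne_zero _ ν.ne_zero) k.1.1
    (by rw [hkM]; exact acts_diagonal _ _ _ _ (fun _ => ν.ne_zero) (fun i => rfl) (fun i => rfl) fun r => r.elim)
  rw [Matrix.det_diagonal, Finset.prod_const, Finset.card_univ, Fintype.card_fin] at hiff
  have hs : IsSquare ((ν : F) ^ m) ↔ Even m := by
    refine ⟨fun h => ?_, fun he => he.isSquare_pow _⟩
    by_contra ho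
    obtain ⟨j, rfl⟩ := Nat.not_even_iff_odd.1 ho
    rw [pow_succ, isSquare_iff_mul S.h2 (pow_ne_zero _ ν.ne_zero) ν.ne_zero] at h
    exact hν (h.1 ((even_two_mul j).isSquare_pow _))
  rw [← hs, ← hiff]
  exact ⟨fun h => ⟨k, h, rfl⟩, fun ⟨g, hg, he⟩ => Subtype.ext (Units.ext he) ▸ hg⟩

/-- Inndiag of the plus type group modulo the inner automorphisms. -/
theorem inndiag_plus (hodd : Odd (Fintype.card F)) {m : ℕ} (hm : 3 ≤ m) :
    let T := Cfsg.inndiagPOmegaPlus m F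
    let I := (Cfsg.Inn (Cfsg.POmega F (Cfsg.quadFormPlus m F))).subgroupOf T
    ((Odd m ∧ Fintype.card F % 4 = 3) → ∃ φ : ↥T →* Multiplicative (ZMod 2), Function.Surjective φ ∧ φ.ker = I) ∧
    ((Odd m ∧ Fintype.card F % 4 = 1) → ∃ φ : ↥T →* Multiplicative (ZMod 4), Function.Surjective φ ∧ φ.ker = I) ∧
    (Even m → ∃ φ : ↥T →* Multiplicative (ZMod 2 × ZMod 2), Function.Surjective φ ∧ φ.ker = I) := by
  intro T I
  have S := setupPlus hodd hm
  have h := S.delta_inn_of (coe_plus m)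
    (fun g => Cfsg.PreservesSingularClasses (Cfsg.quadFormPlus m F) g.1) (preserves_plus hodd S) T rfl
  obtain ⟨D, k, c, h1, h2, h3, h4⟩ := exists_plus_D hodd S
  have hN := negMem_plus hodd (by omega : 1 ≤ m)
  refine ⟨fun hc => h.1 fun hn => (hN.1 hn) hc, fun hc => ?_, fun hc => ?_⟩
  · exact (h.2 (hN.2 fun h' => by omega) D k c h1 h2 h3).2 fun hk => Nat.not_even_iff_odd.2 hc.1 (h4.1 hk)
  · exact (h.2 (hN.2 fun h' => Nat.not_even_iff_odd.2 h'.1 hc) D k c h1 h2 h3).1 (h4.2 hc)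

end Cfsg.Agent.Small.Orth
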