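import Cfsg.Agent.Lib.Small.Orth.SimRoot
import Cfsg.Agent.Lib.Small.OrthogonalSemisimple
import Cfsg.Agent.Lib.Small.InvolutionRing
import Cfsg.Agent.Lib.Small.SymplecticClasses
import Cfsg.Agent.Lib.Small.SymplecticSemisimple
import Cfsg.Agent.Lib.Small.Gram.Standard
import Cfsg.Agent.Lib.Small.Semisimple

/-!
# The centraliser of an isometry of odd order prime to the characteristic
-/

set_option autoImplicit false
set_option linter.unusedSectionVars false
set_option linter.style.haveILetI false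

namespace Cfsg.Agent.Small.Orth

open Module QuadraticMap Matrix Cfsg.Agent.Classical Cfsg.Agent.Classical.OCount Cfsg.Agent.Classical.ORefl
  Cfsg.Agent.Classical.OOmega
open Cfsg.Agent.Small.OrthogonalSemisimple (gram adj)

variable {F : Type*} [Field F] [Finite F] {ι : Type} [Fintype ι] [DecidableEq ι] {Q : QuadraticForm F (ι → F)}

/-- An isometry of odd order prime to the characteristic, as a matrix. -/
structure OddIso (Q : QuadraticForm F (ι → F)) (a : Matrix ι ι F) (r : ℕ) : Prop where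
  iso : ∀ v, Q (a *ᵥ v) = Q v
  pow : a ^ r = 1
  odd : Odd r
  unit : (r : F) ≠ 0

variable {a : Matrix ι ι F} {r : ℕ}

theorem OddIso.mul_inv' (A : OddIso Q a r) : a * a ^ (r - 1) = 1 ∧ a ^ (r - 1) * a = 1 := by
  have := A.odd.pos
  exact ⟨by rw [← pow_succ', Nat.sub_add_cancel this, A.pow], by rw [← pow_succ, Nat.sub_add_cancel this, A.pow]⟩

theorem OddIso.pol (A : OddIso Q a r) (u v : ι → F) : polar Q (a *ᵥ u) (a *ᵥ v) = polar Q u v := by
  simp only [QuadraticMap.polar, ← Matrix.mulVec_add, A.iso]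

theorem OddIso.pol_left (A : OddIso Q a r) (u v : ι → F) :
    polar Q (a *ᵥ u) v = polar Q u (a ^ (r - 1) *ᵥ v) := by
  conv_lhs => rw [show v = a *ᵥ (a ^ (r - 1) *ᵥ v) by rw [Matrix.mulVec_mulVec, A.mul_inv'.1, Matrix.one_mulVec]]
  rw [A.pol]

theorem OddIso.fix_of_diff (A : OddIso Q a r) {v : ι → F} (h : (a - a ^ (r - 1)) *ᵥ v = 0) : a *ᵥ v = v := by
  rw [Matrix.sub_mulVec, sub_eq_zero] at h
  have h2 : (a * a) *ᵥ v = v := by
    rw [← Matrix.mulVec_mulVec, h, Matrix.mulVec_mulVec, A.mul_inv'.1, Matrix.one_mulVec]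
  obtain ⟨k, hk⟩ := A.odd
  have h3 : ∀ j, (a ^ (2 * j)) *ᵥ v = v := by
    intro j
    induction j with
    | zero => simp
    | succ j ih => rw [show 2 * (j + 1) = 2 * j + 2 by ring, pow_add, ← Matrix.mulVec_mulVec, pow_two, h2, ih]
  have h4 : a ^ r *ᵥ v = a *ᵥ v := by rw [hk, pow_succ', ← Matrix.mulVec_mulVec, h3]
  rw [← h4, A.pow, Matrix.one_mulVec]

theorem OddIso.alt (A : OddIso Q a r) (v : ι → F) : polar Q v ((a - a ^ (r - 1)) *ᵥ v) = 0 := by
  rw [Matrix.sub_mulVec, polar_sub_right, ← A.pol_left, polar_comm, sub_self]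

/-- Without fixed vectors the determinant of a commuting similitude is the positive one. -/
theorem OddIso.det_of_commute (A : OddIso Q a r) (hQ : PND Q) (hfix : ∀ v, a *ᵥ v = v → v = 0) {N : ℕ}
    (hcard : Fintype.card ι = 2 * N) {g : Matrix ι ι F} {ν : F} (hν : ν ≠ 0) (hg : ∀ v, Q (g *ᵥ v) = ν * Q v)
    (hc : g * a = a * g) : g.det = ν ^ N := by
  have hnd : (polarBilin Q).Nondegenerate := nondeg hQ
  obtain ⟨K, hK⟩ : ∃ K, K = gram Q * (a - a ^ (r - 1)) := ⟨_, rfl⟩
  have hKp : ∀ u v, u ⬝ᵥ (K *ᵥ v) = polar Q u ((a - a ^ (r - 1)) *ᵥ v) := fun u v => by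
    rw [OrthogonalSemisimple.polar_eq, Matrix.mulVec_mulVec, hK]
  have halt : ∀ v, v ⬝ᵥ (K *ᵥ v) = 0 := fun v => (hKp v v).trans (A.alt v)
  have hKu : IsUnit K.det := by
    rw [hK, Matrix.det_mul]
    refine (OrthogonalSemisimple.gram_det Q hnd).mul (isUnit_iff_ne_zero.2 fun h0 => ?_)
    obtain ⟨v, hv, hv0⟩ := Matrix.exists_mulVec_eq_zero_iff.2 h0
    exact hv (hfix v (A.fix_of_diff hv0))
  have hcb : g * a ^ (r - 1) = a ^ (r - 1) * g := (Commute.pow_right (show Commute g a from hc) _).eq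
  have hgK : gᵀ * K * g = ν • K := by
    have h : ∀ u v, u ⬝ᵥ ((gᵀ * K * g) *ᵥ v) = u ⬝ᵥ ((ν • K) *ᵥ v) := fun u v => by
      rw [← Matrix.mulVec_mulVec, ← Matrix.mulVec_mulVec, Matrix.dotProduct_mulVec u gᵀ, Matrix.vecMul_transpose, hKp,
        Matrix.mulVec_mulVec, show (a - a ^ (r - 1)) * g = g * (a - a ^ (r - 1)) by
          rw [Matrix.sub_mul, Matrix.mul_sub, hc, hcb],
        ← Matrix.mulVec_mulVec, polar_gg hg, Matrix.smul_mulVec, dotProduct_smul, smul_eq_mul, hKp]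
    ext i j
    simpa using h (Pi.single i 1) (Pi.single j 1)
  obtain ⟨m, P, P', hm, hP, hPP', hP'P⟩ := SymplecticSemisimple.exists_std K halt hKu
  obtain rfl : m = N := by omega
  obtain ⟨H, hH⟩ : ∃ H, H = P' * g * P := ⟨_, rfl⟩
  have hHdet : H.det = g.det := by rw [hH]; exact Matrix.det_conj_of_mul_eq_one hP'P hPP'
  have hHJ : Hᵀ * Matrix.J (Fin m) F * H = ν • Matrix.J (Fin m) F := by
    calc Hᵀ * Matrix.J (Fin m) F * H = Pᵀ * (gᵀ * ((P * P')ᵀ * K * (P * P')) * g) * P := by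
          rw [hH, ← hP]; simp only [Matrix.transpose_mul, Matrix.mul_assoc]
      _ = ν • Matrix.J (Fin m) F := by
          rw [hPP', Matrix.transpose_one, Matrix.one_mul, Matrix.mul_one, hgK, Matrix.mul_smul, Matrix.smul_mul, hP]
  have hmem : H * Gram.dC m ν⁻¹ ∈ Matrix.symplecticGroup (Fin m) F := by
    rw [SymplecticGroup.mem_iff', Matrix.transpose_mul]
    calc (Gram.dC m ν⁻¹)ᵀ * Hᵀ * Matrix.J (Fin m) F * (H * Gram.dC m ν⁻¹)
        = (Gram.dC m ν⁻¹)ᵀ * (Hᵀ * Matrix.J (Fin m) F * H) * Gram.dC m ν⁻¹ := by simp only [Matrix.mul_assoc]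
      _ = Matrix.J (Fin m) F := by
          rw [hHJ, Matrix.mul_smul, Matrix.smul_mul, Gram.dC_spec, smul_smul, mul_inv_cancel₀ hν, one_smul]
  have h1 := SymplecticClasses.det_eq_one ⟨_, hmem⟩
  simp only [Matrix.det_mul, Gram.det_dC, hHdet] at h1
  rw [_root_.inv_pow, mul_inv_eq_one₀ (pow_ne_zero _ hν)] at h1
  exact h1

/-- The space of fixed vectors is not a line. -/
theorem OddIso.two_le_fixed (A : OddIso Q a r) (hQ : PND Q) (h2 : (2 : F) ≠ 0) {N : ℕ} (hcard : Fintype.card ι = 2 * N)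
    {X : Submodule F (ι → F)} (hX : ∀ v, v ∈ X ↔ a *ᵥ v = v) (hne : ∃ v ∈ X, v ≠ 0) :
    2 ≤ finrank F X ∧ X ⊓ LinearMap.BilinForm.orthogonal Q.polarBilin X = ⊥ := by
  have hnd : (polarBilin Q).Nondegenerate := nondeg hQ
  have hfixpow : ∀ j, ∀ v ∈ X, a ^ j *ᵥ v = v := fun j v hv => by
    induction j with
    | zero => simp
    | succ j ih => rw [pow_succ, ← Matrix.mulVec_mulVec, (hX v).1 hv, ih]
  have hperp : X ⊓ LinearMap.BilinForm.orthogonal Q.polarBilin X = ⊥ := by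
    rw [eq_bot_iff]
    rintro x ⟨hx, hx'⟩
    rw [Submodule.mem_bot]
    refine hQ x fun w => ?_
    obtain ⟨e, he⟩ : ∃ e, e = ∑ i ∈ Finset.range r, a ^ i *ᵥ w := ⟨_, rfl⟩
    have heX : e ∈ X := by
      have h := congrArg (fun f : Matrix ι ι F => f *ᵥ w) (geom_sum_mul (a) r)
      simp only [A.pow, sub_self, Matrix.zero_mulVec] at h
      rw [(show (∑ i ∈ Finset.range r, a ^ i) * (a - 1) = (a - 1) * ∑ i ∈ Finset.range r, a ^ i from
          (Commute.sum_left _ _ _ fun i _ => ((Commute.refl a).pow_left i).sub_right (Commute.one_right _)).eq),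
        ← Matrix.mulVec_mulVec, Matrix.sum_mulVec, ← he, Matrix.sub_mulVec, Matrix.one_mulVec, sub_eq_zero] at h
      exact (hX e).2 h
    have h1 : polar Q e x = 0 := hx' e heX
    have h2' : polar Q x e = (r : F) * polar Q x w := by
      rw [he, ← polarBilin_apply_apply, map_sum]
      simp only [polarBilin_apply_apply]
      have hxi : ∀ i, polar Q x (a ^ i *ᵥ w) = polar Q x w := fun i => by
        induction i with
        | zero => simp
        | succ i ih => rw [pow_succ', ← Matrix.mulVec_mulVec, ← ih]; nth_rw 1 [← (hX x).1 hx]; rw [A.pol]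
      rw [Finset.sum_congr rfl (fun i _ => hxi i),
        Finset.sum_const, Finset.card_range, nsmul_eq_mul]
    rw [polar_comm, h1] at h2'
    exact (mul_eq_zero.1 h2'.symm).resolve_left A.unit
  refine ⟨?_, hperp⟩
  by_contra hlt
  obtain ⟨v, hv, hv0⟩ := hne
  haveI : Nontrivial X := ⟨⟨⟨v, hv⟩, 0, fun h => hv0 (congrArg Subtype.val h)⟩⟩
  have hd : finrank F X = 1 := by
    have := Module.finrank_pos (R := F) (M := X)
    omega
  have hXv : ∀ x ∈ X, ∃ c : F, x = c • v := fun x hx => by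
    obtain ⟨c, hc⟩ := (finrank_eq_one_iff_of_nonzero' (⟨v, hv⟩ : X) fun h => hv0 (congrArg Subtype.val h)).1 hd ⟨x, hx⟩
    exact ⟨c, (congrArg Subtype.val hc).symm⟩
  have hvv : polar Q v v ≠ 0 := fun h0 => hv0 <| by
    have : v ∈ X ⊓ LinearMap.BilinForm.orthogonal Q.polarBilin X := ⟨hv, fun x hx => by
      obtain ⟨c, rfl⟩ := hXv x hx
      show polar Q (c • v) v = 0
      rw [polar_smul_left, h0, smul_zero]⟩
    rwa [hperp, Submodule.mem_bot] at this
  -- the bordered alternating matrix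
  obtain ⟨K, hK⟩ : ∃ K, K = gram Q * (a - a ^ (r - 1)) := ⟨_, rfl⟩
  have hKp : ∀ u w, u ⬝ᵥ (K *ᵥ w) = polar Q u ((a - a ^ (r - 1)) *ᵥ w) := fun u w => by
    rw [OrthogonalSemisimple.polar_eq, Matrix.mulVec_mulVec, hK]
  have hKskew : ∀ i j, K j i = - K i j := fun i j => by
    have h1 := (hKp (Pi.single i 1 + Pi.single j 1) (Pi.single i 1 + Pi.single j 1)).trans (A.alt _)
    have h3 := (hKp (Pi.single i 1) (Pi.single i 1)).trans (A.alt _)
    have h4 := (hKp (Pi.single j 1) (Pi.single j 1)).trans (A.alt _)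
    simp [Matrix.mulVec_add] at h1 h3 h4
    linear_combination h1 - h3 - h4
  obtain ⟨c, hc⟩ : ∃ c, c = gram Q *ᵥ v := ⟨_, rfl⟩
  obtain ⟨M, hM⟩ : ∃ M : Matrix (ι ⊕ Unit) (ι ⊕ Unit) F,
      M = Matrix.fromBlocks K (Matrix.replicateCol Unit c) (-Matrix.replicateRow Unit c) 0 := ⟨_, rfl⟩
  have hdet : M.det = 0 := by
    refine det_eq_zero_of_alternating_of_odd (by simp [hcard]) M ?_ ?_
    · rintro (i | i) (j | j) <;> simp [hM]
      exact hKskew i j
    · rintro (i | i)
      · simp [hM]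
        have h := (hKp (Pi.single i 1) (Pi.single i 1)).trans (A.alt _)
        simpa using h
      · simp [hM]
  obtain ⟨w, hw, hw0⟩ := Matrix.exists_mulVec_eq_zero_iff.2 hdet
  obtain ⟨x, t, rfl⟩ : ∃ (x : ι → F) (t : F), w = Sum.elim x fun _ => t :=
    ⟨w ∘ Sum.inl, w (Sum.inr ()), funext fun k => by rcases k with k | ⟨⟩ <;> rfl⟩
  rw [hM, Matrix.fromBlocks_mulVec] at hw0
  have e1 : (a - a ^ (r - 1)) *ᵥ x + t • v = 0 := by
    refine hQ _ fun u => ?_
    have h := congrArg (fun y : ι → F => u ⬝ᵥ y) (funext fun i => congrFun hw0 (Sum.inl i) :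
      K *ᵥ x + Matrix.replicateCol Unit c *ᵥ (fun _ => t) = 0)
    simp only [dotProduct_add, dotProduct_zero, hKp] at h
    rw [polar_comm, polar_add_right, polar_smul_right, smul_eq_mul, OrthogonalSemisimple.polar_eq Q u v, ← hc, ← h]
    congr 1
    simp [dotProduct, Matrix.mulVec, Finset.mul_sum, mul_comm, mul_left_comm]
  have e2 : polar Q x v = 0 := by
    have h := congrFun hw0 (Sum.inr ())
    simp [Matrix.mulVec, dotProduct] at h
    rw [OrthogonalSemisimple.polar_eq, ← hc]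
    simpa [dotProduct, mul_comm] using h
  have e3 : t = 0 := by
    have h := congrArg (polar Q v) e1
    rw [polar_add_right, Matrix.sub_mulVec, polar_sub_right, ← A.pol_left, (hX v).1 hv, polar_zero_right,
      polar_smul_right] at h
    have h5 : polar Q v (a *ᵥ x) = polar Q v x := by nth_rw 1 [← (hX v).1 hv]; rw [A.pol]
    rw [h5, sub_self, zero_add, smul_eq_mul] at h
    exact (mul_eq_zero.1 h).resolve_right hvv
  subst e3
  rw [zero_smul, add_zero] at e1
  obtain ⟨d, rfl⟩ := hXv x ((hX x).2 (A.fix_of_diff e1))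
  rw [polar_smul_left, smul_eq_mul] at e2
  obtain rfl : d = 0 := (mul_eq_zero.1 e2).resolve_right hvv
  exact hw (funext fun k => by rcases k with k | k <;> simp)

/-- A reflection along a fixed vector commutes with the isometry. -/
theorem OddIso.refl_fixed (A : OddIso Q a r) {v : ι → F} (hv : a *ᵥ v = v) (w : ι → F) :
    refl Q v (a *ᵥ w) = a *ᵥ refl Q v w := by
  rw [refl_apply, refl_apply, Matrix.mulVec_sub, Matrix.mulVec_smul, hv,
    show polar Q v (a *ᵥ w) = polar Q v w by nth_rw 1 [← hv]; rw [A.pol]]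

section Negate

variable {V : Type*} [AddCommGroup V] [Module F V] [FiniteDimensional F V] {Q' : QuadraticForm F V}

/-- The word of an orthogonal family negates its members and fixes its orthogonal space. -/
theorem prodRf_orth : ∀ (vs : List V), (∀ v ∈ vs, Q' v ≠ 0) → vs.Pairwise (fun u v => polar Q' u v = 0) →
    (∀ v ∈ vs, (prodRf Q' vs).1 v = -v) ∧ ∀ x, (∀ v ∈ vs, polar Q' v x = 0) → (prodRf Q' vs).1 x = x := by
  intro vs
  induction vs with
  | nil => exact fun _ _ => ⟨by simp, fun x _ => rfl⟩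
  | cons u vs ih =>
    intro hne hp
    rw [List.pairwise_cons] at hp
    obtain ⟨i1, i2⟩ := ih (fun v hv => hne v (List.mem_cons_of_mem _ hv)) hp.2
    have hu := hne u (List.mem_cons_self ..)
    have hap : ∀ x, (prodRf Q' (u :: vs)).1 x = refl Q' u ((prodRf Q' vs).1 x) := fun x => by
      rw [prodRf_cons]; rfl
    refine ⟨fun v hv => ?_, fun x hx => ?_⟩
    · rw [hap]
      rcases List.mem_cons.1 hv with rfl | hv
      · rw [i2 v fun w hw => by rw [polar_comm]; exact hp.1 w hw, refl_apply, polar_self_two]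
        match_scalars
        field_simp
        ring
      · rw [i1 v hv, refl_apply, polar_neg_right, hp.1 v hv, neg_zero, mul_zero, zero_smul, sub_zero]
    · rw [hap, i2 x fun v hv => hx v (List.mem_cons_of_mem _ hv), refl_apply, hx u (List.mem_cons_self ..), mul_zero,
        zero_smul, sub_zero]

/-- An orthogonal basis of anisotropic vectors. -/
theorem exists_orth_basis (h2 : (2 : F) ≠ 0) (W : Submodule F V) (hW : ∀ x ∈ W, (∀ y ∈ W, polar Q' x y = 0) → x = 0) :
    ∃ b : Basis (Fin (finrank F W)) F W, (∀ i, Q' (b i : V) ≠ 0) ∧ ∀ i j, i ≠ j → polar Q' (b i : V) (b j) = 0 := by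
  haveI : Invertible (2 : F) := invertibleOfNonzero h2
  obtain ⟨β, hβ⟩ : ∃ β : LinearMap.BilinForm F W, β = LinearMap.BilinForm.restrict Q'.polarBilin W := ⟨_, rfl⟩
  have hap : ∀ x y : W, β x y = polar Q' (x : V) y := fun x y => by rw [hβ]; rfl
  obtain ⟨b, hb⟩ := LinearMap.BilinForm.exists_orthogonal_basis (B := β)
    ⟨fun x y => by simp only [RingHom.id_apply, hap]; exact polar_comm _ _ _⟩
  have ho : ∀ i j, i ≠ j → polar Q' (b i : V) (b j) = 0 := fun i j h => (hap _ _).symm.trans (hb h)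
  refine ⟨b, fun i hi => b.ne_zero i (Subtype.ext (hW _ (b i).2 fun y hy => ?_)), ho⟩
  have e : β (b i) = 0 := b.ext fun j => by
    rw [LinearMap.zero_apply, hap]
    rcases eq_or_ne i j with rfl | h
    · rw [polar_self, hi, smul_zero]
    · exact ho i j h
  rw [← hap (b i) ⟨y, hy⟩, e]; rfl

end Negate

/-- Every element of the algebra of the isometry is fixed by a power of the Frobenius map. -/
theorem OddIso.exists_frob (A : OddIso Q a r) :
    ∃ M : ℕ, 1 < M ∧ (∀ x ∈ Algebra.adjoin F {a}, x ^ M = x) ∧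
      Squarefree ((Polynomial.X ^ M - Polynomial.X : Polynomial F)) := by
  haveI := Fintype.ofFinite F
  obtain ⟨p, hp⟩ := CharP.exists F
  haveI : Fact p.Prime := ⟨CharP.char_is_prime F p⟩
  obtain ⟨f, -, hF⟩ := FiniteField.card F p
  have hco : Nat.Coprime (Fintype.card F) r := by
    rw [hF]
    refine Nat.Coprime.pow_left _ ((Fact.out : p.Prime).coprime_iff_not_dvd.2 fun h => A.unit ?_)
    exact (CharP.cast_eq_zero_iff F p r).2 h
  obtain ⟨t, ht⟩ : ∃ t, t = r.totient := ⟨_, rfl⟩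
  have ht0 : 0 < t := ht ▸ Nat.totient_pos.2 A.odd.pos
  obtain ⟨M, hM⟩ : ∃ M, M = Fintype.card F ^ t := ⟨_, rfl⟩
  have hM1 : 1 < M := hM ▸ Nat.one_lt_pow ht0.ne' Fintype.one_lt_card
  have hMp : M = p ^ ((f : ℕ) * t) := by rw [hM, hF, ← pow_mul]
  refine ⟨M, hM1, fun x hx => ?_, ?_⟩
  · cases isEmpty_or_nonempty ι
    · exact Matrix.ext fun i => isEmptyElim i
    haveI : CharP (Matrix ι ι F) p := inferInstance
    induction hx using Algebra.adjoin_induction with
    | mem x hx =>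
      obtain rfl : x = a := hx
      have h : M % r = 1 % r := hM ▸ ht ▸ Nat.ModEq.pow_totient hco
      rw [pow_eq_pow_mod M A.pow, h, ← pow_eq_pow_mod 1 A.pow, pow_one]
    | algebraMap c => rw [← map_pow, hM, FiniteField.pow_card_pow]
    | add x y hx' hy' ihx ihy =>
      have hxy : Commute x y := Algebra.commute_of_mem_adjoin_singleton_of_commute hy'
        (Algebra.commute_of_mem_adjoin_singleton_of_commute hx' (Commute.refl a)).symm
      rw [hMp, add_pow_char_pow_of_commute _ _ hxy, ← hMp, ihx, ihy]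
    | mul x y hx' hy' ihx ihy =>
      have hxy : Commute x y := Algebra.commute_of_mem_adjoin_singleton_of_commute hy'
        (Algebra.commute_of_mem_adjoin_singleton_of_commute hx' (Commute.refl a)).symm
      rw [hxy.mul_pow, ihx, ihy]
  · exact (galois_poly_separable p M (hMp ▸ dvd_pow_self p (mul_ne_zero f.ne_zero ht0.ne'))).squarefree

set_option maxHeartbeats 2000000 in
/-- Without fixed vectors some even word of non-square class commutes with the isometry. -/
theorem OddIso.exists_word (A : OddIso Q a r) (hQ : PND Q) (h2 : (2 : F) ≠ 0) (hfix : ∀ v, a *ᵥ v = v → v = 0)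
    (hι : 1 ≤ Fintype.card ι) :
    ∃ vs : List (ι → F), (∀ v ∈ vs, Q v ≠ 0) ∧ Even vs.length ∧ ¬ IsSquare (vs.map fun v => Q v).prod ∧
      ∀ w, (prodRf Q vs).1 (a *ᵥ w) = a *ᵥ (prodRf Q vs).1 w := by
  classical
  haveI := Fintype.ofFinite F
  have hnd : (polarBilin Q).Nondegenerate := nondeg hQ
  obtain ⟨M, hM1, hMx, hMs⟩ := A.exists_frob
  obtain ⟨z, hz⟩ := exists_nonsing' hQ hι
  obtain ⟨R, hR⟩ : ∃ R, R = Algebra.adjoin F ({a} : Set (Matrix ι ι F)) := ⟨_, rfl⟩
  rw [← hR] at hMx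
  have haR : a ∈ R := hR ▸ Algebra.subset_adjoin rfl
  have hbR : a ^ (r - 1) ∈ R := pow_mem haR _
  have hcomm : ∀ x ∈ R, ∀ y ∈ R, x * y = y * x := fun x hx y hy =>
    (Algebra.commute_of_mem_adjoin_singleton_of_commute (hR ▸ hy)
      (Algebra.commute_of_mem_adjoin_singleton_of_commute (hR ▸ hx) (Commute.refl a)).symm).eq
  have hadja : adj Q a = a ^ (r - 1) := OrthogonalSemisimple.eq_of_polar hnd fun u v => by
    rw [← OrthogonalSemisimple.polar_adj hnd, A.pol_left]
  have hadd : ∀ X Y : Matrix ι ι F, adj Q (X + Y) = adj Q X + adj Q Y := fun X Y => by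
    simp only [adj, Matrix.transpose_add, Matrix.mul_add, Matrix.add_mul]
  have halg : ∀ c : F, adj Q (algebraMap F (Matrix ι ι F) c) = algebraMap F (Matrix ι ι F) c := fun c =>
    OrthogonalSemisimple.eq_of_polar hnd fun u v => by
      rw [← OrthogonalSemisimple.polar_adj hnd]
      simp [Algebra.algebraMap_eq_smul_one, Matrix.smul_mulVec, polar_smul_left, polar_smul_right]
  have hstab : ∀ x ∈ R, adj Q x ∈ R := by
    intro x hx
    rw [hR] at hx
    induction hx using Algebra.adjoin_induction with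
    | mem x h => obtain rfl : x = a := h; rw [hadja]; exact hbR
    | algebraMap c => rw [halg]; exact R.algebraMap_mem c
    | add x y _ _ hx hy => rw [hadd]; exact add_mem hx hy
    | mul x y _ _ hx hy => rw [OrthogonalSemisimple.adj_mul hnd]; exact mul_mem hy hx
  letI : CommRing ↥R :=
    { (inferInstance : Ring ↥R) with mul_comm := fun x y => Subtype.ext (hcomm x x.2 y y.2) }
  haveI : Finite ↥R := Finite.of_injective _ Subtype.val_injective
  letI : Fintype ↥R := Fintype.ofFinite ↥R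
  let φ : ↥R →+* ↥R :=
    { toFun := fun x => ⟨adj Q x.1, hstab x x.2⟩
      map_one' := Subtype.ext (OrthogonalSemisimple.adj_one hnd)
      map_mul' := fun x y => Subtype.ext (by
        show adj Q (x.1 * y.1) = adj Q x.1 * adj Q y.1
        rw [OrthogonalSemisimple.adj_mul hnd, hcomm _ (hstab _ y.2) _ (hstab _ x.2)])
      map_zero' := Subtype.ext (show adj Q (0 : Matrix ι ι F) = 0 by simp [adj])
      map_add' := fun x y => Subtype.ext (hadd _ _) }
  have hφφ : ∀ x, φ (φ x) = x := fun x => Subtype.ext (OrthogonalSemisimple.adj_adj hnd _)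
  have hadj : ∀ (x : ↥R) u v, polar Q (x.1 *ᵥ u) v = polar Q u ((φ x).1 *ᵥ v) := fun x u v =>
    OrthogonalSemisimple.polar_adj hnd x.1 u v
  have hmv : ∀ (x y : ↥R) (v : ι → F), (x * y).1 *ᵥ v = x.1 *ᵥ (y.1 *ᵥ v) := fun x y v =>
    (Matrix.mulVec_mulVec v x.1 y.1).symm
  -- the radical of the functional and the cut down vector
  have hTφ : ∀ (x : ↥R) v, polar Q v ((φ x).1 *ᵥ v) = polar Q v (x.1 *ᵥ v) := fun x v => by
    rw [← hadj, polar_comm]
  let J : Ideal ↥R :=
    { carrier := {x | ∀ y : ↥R, polar Q z ((x * y).1 *ᵥ z) = 0}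
      add_mem' := fun {x x'} hx hx' y => by
        rw [add_mul]; show polar Q z (((x * y).1 + (x' * y).1) *ᵥ z) = 0
        rw [Matrix.add_mulVec, polar_add_right, hx y, hx' y, add_zero]
      zero_mem' := fun y => by rw [zero_mul]; show polar Q z ((0 : Matrix ι ι F) *ᵥ z) = 0; simp
      smul_mem' := fun c x hx y => by rw [smul_eq_mul, mul_comm c x, mul_assoc]; exact hx _ }
  obtain ⟨Pr, hPr⟩ : ∃ Pr, Pr = ∏ x ∈ Finset.univ.filter (fun x => x ∈ J), (1 - x ^ (M - 1)) := ⟨_, rfl⟩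
  obtain ⟨f, hf⟩ : ∃ f : ↥R, f = 1 - Pr := ⟨_, rfl⟩
  have hfJ : f ∈ J := by
    rw [← Ideal.Quotient.eq_zero_iff_mem, hf, hPr, map_sub, map_one, map_prod, Finset.prod_eq_one (fun x hx => ?_),
      sub_self]
    rw [map_sub, map_one, sub_eq_self, Ideal.Quotient.eq_zero_iff_mem]
    exact J.pow_mem_of_mem (Finset.mem_filter.1 hx).2 _ (by omega)
  have hxf : ∀ x ∈ J, x * f = x := fun x hx => by
    have h0 : x * Pr = 0 := by
      rw [hPr, ← Finset.mul_prod_erase _ _ (Finset.mem_filter.2 ⟨Finset.mem_univ x, hx⟩), ← mul_assoc, mul_sub, mul_one,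
        ← pow_succ', Nat.sub_add_cancel (by omega),
        show x ^ M = x from Subtype.ext (by rw [SubmonoidClass.coe_pow]; exact hMx _ x.2), sub_self, zero_mul]
    rw [hf, mul_sub, mul_one, h0, sub_zero]
  have hφJ : ∀ x ∈ J, φ x ∈ J := fun x hx y => by
    rw [← hTφ, map_mul, hφφ]
    exact hx _
  have hff : f * f = f := hxf f hfJ
  have hφf : φ f = f := by
    have h1 := hxf _ (hφJ f hfJ)
    have h2 := congrArg φ h1
    rw [map_mul, hφφ] at h2
    rw [← h1, mul_comm, h2]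
  obtain ⟨e, he⟩ : ∃ e : ↥R, e = 1 - f := ⟨_, rfl⟩
  have hee : e * e = e := by rw [he]; linear_combination hff
  have hφe : φ e = e := by rw [he, map_sub, map_one, hφf]
  have hef : e * f = 0 := by rw [he]; linear_combination -hff
  obtain ⟨z', hz'⟩ : ∃ z', z' = e.1 *ᵥ z := ⟨_, rfl⟩
  have hT' : ∀ x : ↥R, polar Q z' (x.1 *ᵥ z') = polar Q z ((x * e).1 *ᵥ z) := fun x => by
    rw [hz', hadj, hφe, ← hmv, ← hmv, show e * x * e = x * e by linear_combination x * hee]
  have hez : e.1 *ᵥ z' = z' := by rw [hz', ← hmv, hee]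
  have hQz : Q z' ≠ 0 := by
    have h := hT' 1
    rw [one_mul, show ((1 : ↥R).1) *ᵥ z' = z' from Matrix.one_mulVec z', polar_self_two, he] at h
    rw [show ((1 - f : ↥R) : Matrix ι ι F) = 1 - f.1 from rfl, Matrix.sub_mulVec, polar_sub_right, Matrix.one_mulVec,
      show polar Q z (f.1 *ᵥ z) = 0 by simpa using hfJ 1, sub_zero, polar_self_two] at h
    intro h0
    rw [h0, mul_zero] at h
    exact hz ((mul_eq_zero.1 h.symm).resolve_left h2)
  have hz'0 : z' ≠ 0 := fun h => hQz (by rw [h, QuadraticMap.map_zero])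
  have hfaith : ∀ x : ↥R, (∀ y : ↥R, polar Q z' ((x * y).1 *ᵥ z') = 0) → x * e = 0 := fun x hx => by
    have hJ : x * e ∈ J := fun y => by
      rw [show x * e * y = x * y * e by ring, ← hT']
      exact hx y
    rw [← hxf _ hJ, mul_assoc, hef, mul_zero]
  have hann : ∀ x : ↥R, x.1 *ᵥ z' = 0 → x * e = 0 := fun x hx => hfaith x fun y => by
    rw [mul_comm, hmv, hx, Matrix.mulVec_zero, polar_zero_right]
  have hze : ∀ x : ↥R, (x * e).1 *ᵥ z' = x.1 *ᵥ z' := fun x => by rw [hmv, hez]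
  have hpair : ∀ x y : ↥R, polar Q (x.1 *ᵥ z') (y.1 *ᵥ z') = polar Q z' ((φ x * y).1 *ᵥ z') := fun x y => by
    rw [hadj, hmv]
  have hskew : ∀ d : ↥R, φ d = -d → polar Q z' (d.1 *ᵥ z') = 0 := fun d hd => by
    have h := hTφ d z'
    rw [hd, show ((-d : ↥R) : Matrix ι ι F) = -d.1 from rfl, Matrix.neg_mulVec, polar_neg_right] at h
    exact (mul_eq_zero.1 (show 2 * polar Q z' (d.1 *ᵥ z') = 0 by linear_combination -h)).resolve_left h2
  -- the generators
  obtain ⟨α, hα⟩ : ∃ α : ↥R, α.1 = a := ⟨⟨a, haR⟩, rfl⟩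
  obtain ⟨c, hc⟩ : ∃ c : ↥R, c = α - φ α := ⟨_, rfl⟩
  obtain ⟨H, hH⟩ : ∃ H : ↥R, H = α + φ α := ⟨_, rfl⟩
  have hφα : (φ α).1 = a ^ (r - 1) := by show adj Q α.1 = _; rw [hα, hadja]
  have hαα : α * φ α = 1 := Subtype.ext (by
    show α.1 * (φ α).1 = 1
    rw [hα, hφα, A.mul_inv'.1])
  have hφc : φ c = -c := by rw [hc, map_sub, hφφ, neg_sub]
  have hcu : IsUnit c := by
    have hinj : Function.Injective fun x : ↥R => c * x := (injective_iff_map_eq_zero (AddMonoidHom.mulLeft c)).2 fun x hx => by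
      refine Subtype.ext (Matrix.ext_of_mulVec_single fun i => ?_)
      show x.1 *ᵥ _ = (0 : Matrix ι ι F) *ᵥ _
      rw [Matrix.zero_mulVec]
      refine hfix _ (A.fix_of_diff ?_)
      rw [← hα, show α.1 - α.1 ^ (r - 1) = c.1 by rw [hc]; show _ = α.1 - (φ α).1; rw [hφα, hα],
        Matrix.mulVec_mulVec, show c.1 * x.1 = (c * x).1 from rfl, show c * x = 0 from hx]
      exact Matrix.zero_mulVec _
    obtain ⟨d, hd⟩ := Finite.injective_iff_surjective.1 hinj 1
    exact .of_mul_eq_one d hd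
  obtain ⟨ci, hci⟩ := hcu.exists_left_inv
  have hφci : φ ci = -ci := by
    have h1 := congrArg φ hci
    rw [map_mul, map_one, hφc] at h1
    linear_combination (-ci) * h1 - φ ci * hci
  obtain ⟨hf', hhf'⟩ : ∃ u : ↥R, 2 * u = 1 :=
    ⟨algebraMap F ↥R (2 : F)⁻¹, by rw [← map_ofNat (algebraMap F ↥R) 2, ← map_mul, mul_inv_cancel₀ h2, map_one]⟩
  have hφh : φ hf' = hf' := by
    have h1 := congrArg φ hhf'
    rw [map_mul, map_ofNat, map_one] at h1
    linear_combination hf' * h1 - φ hf' * hhf'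
  have hsplit : ∀ x : ↥R, ∃ p q : ↥R, φ p = p ∧ φ q = q ∧ x = p + q * c := fun x =>
    ⟨hf' * (x + φ x), hf' * (x - φ x) * ci, by rw [map_mul, map_add, hφh, hφφ, add_comm],
      by rw [map_mul, map_mul, map_sub, hφh, hφφ, hφci]; ring,
      by linear_combination (-x) * hhf' - hf' * (x - φ x) * hci⟩
  have hzero : ∀ p q : ↥R, φ p = p → φ q = q → p + q * c = 0 → p = 0 ∧ q = 0 := fun p q hp hq h => by
    have h1 := congrArg φ h
    rw [map_add, map_mul, map_zero, hp, hq, hφc] at h1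
    have e1 : p = 0 := by linear_combination hf' * h + hf' * h1 - p * hhf'
    refine ⟨e1, ?_⟩
    rw [e1, zero_add] at h
    linear_combination ci * h - q * hci
  -- the subspace of the fixed elements
  let L : Submodule F (ι → F) :=
    { carrier := {v | ∃ p : ↥R, φ p = p ∧ v = p.1 *ᵥ z'}
      add_mem' := by
        rintro _ _ ⟨p, hp, rfl⟩ ⟨q, hq, rfl⟩
        exact ⟨p + q, by rw [map_add, hp, hq], (Matrix.add_mulVec _ _ _).symm⟩
      zero_mem' := ⟨0, map_zero φ, (Matrix.zero_mulVec z').symm⟩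
      smul_mem' := by
        rintro k _ ⟨p, hp, rfl⟩
        refine ⟨algebraMap F ↥R k * p, ?_, ?_⟩
        · rw [map_mul, hp, show φ (algebraMap F ↥R k) = algebraMap F ↥R k from Subtype.ext (halg k)]
        · show _ = (algebraMap F (Matrix ι ι F) k * p.1) *ᵥ z'
          rw [Algebra.algebraMap_eq_smul_one, Matrix.smul_mul, Matrix.one_mul, Matrix.smul_mulVec] }
  have hmemL : ∀ p : ↥R, φ p = p → ∀ u ∈ L, p.1 *ᵥ u ∈ L := by
    rintro p hp _ ⟨q, hq, rfl⟩
    exact ⟨p * q, by rw [map_mul, hp, hq], (hmv p q z').symm⟩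
  have hLe : ∀ u ∈ L, e.1 *ᵥ u = u := by
    rintro _ ⟨q, hq, rfl⟩
    rw [← hmv, mul_comm, hze]
  have hLnd : ∀ x ∈ L, (∀ y ∈ L, polar Q x y = 0) → x = 0 := by
    rintro _ ⟨p, hp, rfl⟩ hx
    rw [← hze, show p * e = 0 from hfaith p fun y => ?_]
    · exact Matrix.zero_mulVec z'
    obtain ⟨s, q, hs, hq, rfl⟩ := hsplit y
    rw [mul_add, show ((p * s + p * (q * c) : ↥R) : Matrix ι ι F) = (p * s).1 + (p * (q * c)).1 from rfl,
      Matrix.add_mulVec, polar_add_right, hskew (p * (q * c)) (by rw [map_mul, map_mul, hp, hq, hφc]; ring), add_zero]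
    have h := hx _ ⟨s, hs, rfl⟩
    rwa [hpair, hp] at h
  -- fixed elements are polynomials in the trace of the isometry
  have hαR : ∀ (x : Matrix ι ι F) (hx : x ∈ R), ∃ p q : ↥R, p ∈ Algebra.adjoin F ({H} : Set ↥R) ∧
      q ∈ Algebra.adjoin F ({H} : Set ↥R) ∧ (⟨x, hx⟩ : ↥R) = p + q * α := by
    intro x hx
    have hx' : x ∈ Algebra.adjoin F ({a} : Set (Matrix ι ι F)) := hR ▸ hx
    induction hx' using Algebra.adjoin_induction with
    | mem x h =>
      obtain rfl : x = a := h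
      exact ⟨0, 1, zero_mem _, one_mem _, Subtype.ext (by rw [one_mul, zero_add]; exact hα.symm)⟩
    | algebraMap k =>
      exact ⟨algebraMap F ↥R k, 0, Subalgebra.algebraMap_mem _ k, zero_mem _, by rw [zero_mul, add_zero]; rfl⟩
    | add x y hx' hy' ihx ihy =>
      obtain ⟨p, q, hp, hq, e1⟩ := ihx (hR ▸ hx')
      obtain ⟨p', q', hp', hq', e2⟩ := ihy (hR ▸ hy')
      refine ⟨p + p', q + q', add_mem hp hp', add_mem hq hq', ?_⟩
      rw [show (⟨x + y, hx⟩ : ↥R) = ⟨x, hR ▸ hx'⟩ + ⟨y, hR ▸ hy'⟩ from rfl, e1, e2]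
      ring
    | mul x y hx' hy' ihx ihy =>
      obtain ⟨p, q, hp, hq, e1⟩ := ihx (hR ▸ hx')
      obtain ⟨p', q', hp', hq', e2⟩ := ihy (hR ▸ hy')
      refine ⟨p * p' - q * q', p * q' + q * p' + q * q' * H, sub_mem (mul_mem hp hp') (mul_mem hq hq'),
        add_mem (add_mem (mul_mem hp hq') (mul_mem hq hp')) (mul_mem (mul_mem hq hq') (Algebra.subset_adjoin rfl)), ?_⟩
      rw [show (⟨x * y, hx⟩ : ↥R) = ⟨x, hR ▸ hx'⟩ * ⟨y, hR ▸ hy'⟩ from rfl, e1, e2, hH]
      linear_combination (-(q * q')) * hαα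
  have hφH : ∀ p ∈ Algebra.adjoin F ({H} : Set ↥R), φ p = p := fun p hp => by
    induction hp using Algebra.adjoin_induction with
    | mem x h => obtain rfl : x = H := h; rw [hH, map_add, hφφ, add_comm]
    | algebraMap k => exact Subtype.ext (halg k)
    | add x y _ _ hx hy => rw [map_add, hx, hy]
    | mul x y _ _ hx hy => rw [map_mul, hx, hy]
  have hfixed : ∀ x : ↥R, φ x = x → x ∈ Algebra.adjoin F ({H} : Set ↥R) := fun x hx => by
    obtain ⟨p, q, hp, hq, e1⟩ := hαR x.1 x.2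
    have e2 : x = p + q * α := e1
    rw [e2, map_add, map_mul, hφH p hp, hφH q hq] at hx
    have hq0 : q = 0 := by
      have h : q * c = 0 := by rw [hc]; linear_combination -hx
      linear_combination ci * h - q * hci
    rw [e2, hq0, zero_mul, add_zero]
    exact hp
  -- a fixed element with non-square determinant on the subspace
  have hφH' : φ H = H := hφH H (Algebra.subset_adjoin rfl)
  let HL : Module.End F L := (Matrix.toLin' H.1).restrict fun u hu => by
    rw [Matrix.toLin'_apply]; exact hmemL H hφH' u hu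
  have hHLk : ∀ (k : ℕ) (u : L), (((HL ^ k) u : L) : ι → F) = (H.1 ^ k) *ᵥ (u : ι → F) := fun k => by
    induction k with
    | zero => intro u; simp
    | succ k ih =>
      intro u
      rw [pow_succ, pow_succ, Module.End.mul_apply, ih, ← Matrix.mulVec_mulVec]
      rfl
  have hss : HL.IsSemisimple := Module.End.isSemisimple_of_squarefree_aeval_eq_zero hMs (by
    simp only [map_sub, map_pow, Polynomial.aeval_X]
    exact LinearMap.ext fun u => Subtype.ext (by
      simp only [LinearMap.sub_apply, LinearMap.zero_apply, AddSubgroupClass.coe_sub, hHLk, hMx _ H.2]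
      exact sub_self _))
  have hpos : 0 < finrank F L := by
    haveI : Nontrivial L := ⟨⟨⟨z', 1, map_one φ, (Matrix.one_mulVec z').symm⟩, 0,
      fun h => hz'0 (congrArg Subtype.val h)⟩⟩
    exact Module.finrank_pos
  obtain ⟨ν, hν⟩ : ∃ ν : F, ¬ IsSquare ν := FiniteField.exists_nonsquare fun h => h2 (by
    haveI := ringChar.of_eq h
    exact CharTwo.two_eq_zero)
  obtain ⟨y, hyc, hyd⟩ := Semisimple.exists_commute_det HL hss hpos ν
  have hν0 : ν ≠ 0 := fun h => hν (h ▸ IsSquare.zero)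
  have hyu : IsUnit y := by
    rw [LinearMap.isUnit_iff_isUnit_det, hyd]; exact isUnit_iff_ne_zero.2 hν0
  have hyinj : Function.Injective y := ((Module.End.isUnit_iff _).1 hyu).1
  have hysurj : Function.Surjective y := ((Module.End.isUnit_iff _).1 hyu).2
  have hycomm : ∀ p ∈ Algebra.adjoin F ({H} : Set ↥R), ∀ (u : L) (hu : p.1 *ᵥ (u : ι → F) ∈ L),
      (y ⟨_, hu⟩ : ι → F) = p.1 *ᵥ (y u : ι → F) := fun p hp => by
    induction hp using Algebra.adjoin_induction with
    | mem x h =>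
      intro u hu
      obtain rfl : x = H := h
      rw [show (⟨_, hu⟩ : L) = HL u from rfl, ← Module.End.mul_apply, hyc]
      rfl
    | algebraMap k =>
      intro u hu
      have e3 : ∀ v, (algebraMap F ↥R k).1 *ᵥ v = k • v := fun v => by
        show (algebraMap F (Matrix ι ι F) k) *ᵥ v = _
        rw [Algebra.algebraMap_eq_smul_one, Matrix.smul_mulVec, Matrix.one_mulVec]
      rw [show (⟨_, hu⟩ : L) = k • u from Subtype.ext (e3 _), map_smul, e3]
      rfl
    | add x x' hx hx' ih ih' =>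
      intro u hu
      have h1 := hmemL x (hφH x hx) u u.2
      have h3 := hmemL x' (hφH x' hx') u u.2
      rw [show (⟨_, hu⟩ : L) = (⟨_, h1⟩ : L) + ⟨_, h3⟩ from Subtype.ext (Matrix.add_mulVec _ _ _), map_add,
        Submodule.coe_add, ih u h1, ih' u h3]
      exact (Matrix.add_mulVec _ _ _).symm
    | mul x x' hx hx' ih ih' =>
      intro u hu
      have h3 := hmemL x' (hφH x' hx') u u.2
      have h1 := hmemL x (hφH x hx) _ h3
      rw [show (⟨_, hu⟩ : L) = ⟨_, h1⟩ from Subtype.ext (hmv x x' _), ih ⟨_, h3⟩ h1, ih' u h3]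
      exact (hmv x x' _).symm
  obtain ⟨x, hx, hxy⟩ : ∃ x : ↥R, φ x = x ∧ ∀ u : L, (y u : ι → F) = x.1 *ᵥ (u : ι → F) := by
    obtain ⟨x, hx, hxy⟩ := (y ⟨z', 1, map_one φ, (Matrix.one_mulVec z').symm⟩).2
    refine ⟨x, hx, fun u => ?_⟩
    obtain ⟨u, p, hp, rfl⟩ := u
    rw [show (⟨p.1 *ᵥ z', _⟩ : L) = ⟨p.1 *ᵥ ((⟨z', 1, map_one φ, (Matrix.one_mulVec z').symm⟩ : L) : ι → F), ⟨p, hp, rfl⟩⟩
      from rfl, hycomm p (hfixed p hp), hxy, ← hmv, ← hmv, mul_comm]
  -- a norm and its word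
  obtain ⟨w, hw⟩ : ∃ w : ↥R, w = x * e + f := ⟨_, rfl⟩
  have hφw : φ w = w := by rw [hw, map_add, map_mul, hx, hφe, hφf]
  have hwu : IsUnit w := by
    have hinj : Function.Injective fun v : ↥R => w * v := (injective_iff_map_eq_zero (AddMonoidHom.mulLeft w)).2 fun v hv => by
      have hv' : w * v = 0 := hv
      rw [hw] at hv'
      have h1 : f * v = 0 := by linear_combination f * hv' - v * hff - x * v * hef
      have h3 : x * e * v = 0 := by linear_combination hv' - h1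
      obtain ⟨p, q, hp, hq, rfl⟩ := hsplit v
      obtain ⟨e1, e2⟩ := hzero (x * e * p) (x * e * q) (by rw [map_mul, map_mul, hx, hφe, hp])
        (by rw [map_mul, map_mul, hx, hφe, hq]) (by linear_combination h3)
      have hkill : ∀ p : ↥R, φ p = p → x * e * p = 0 → p * e = 0 := fun p hp h => by
        refine hann p ?_
        have h0 : y ⟨p.1 *ᵥ z', p, hp, rfl⟩ = y 0 := Subtype.ext (by
          rw [map_zero, hxy, ← hmv, ← hze, show x * p * e = x * e * p by ring, h]
          exact Matrix.zero_mulVec z')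
        exact congrArg Subtype.val (hyinj h0)
      have e4 : (p + q * c) * e = 0 := by rw [add_mul, hkill p hp e1, mul_right_comm, hkill q hq e2, zero_mul, add_zero]
      rw [he] at e4
      linear_combination e4 + h1
    obtain ⟨d, hd⟩ := Finite.injective_iff_surjective.1 hinj 1
    exact .of_mul_eq_one d hd
  obtain ⟨β, hβ⟩ := InvolutionRing.exists_norm φ hφφ (ω := α) (t := hf') (hc ▸ hcu)
    (by rw [hφh]; linear_combination hhf') hφw hwu
  obtain ⟨βi, hβi⟩ : ∃ βi : ↥R, βi * β = 1 :=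
    (isUnit_of_mul_isUnit_left (hβ ▸ hwu)).exists_left_inv
  have hwL : ∀ u : L, w.1 *ᵥ (u : ι → F) = (y u : ι → F) := fun u => by
    have h1 : f.1 *ᵥ (u : ι → F) = 0 := by
      rw [← hLe u u.2, ← hmv, mul_comm, hef]
      exact Matrix.zero_mulVec _
    rw [hw, show ((x * e + f : ↥R) : Matrix ι ι F) = (x * e).1 + f.1 from rfl, Matrix.add_mulVec, h1, add_zero, hmv,
      hLe u u.2, hxy]
  have hβpol : ∀ u v : L, polar Q (β.1 *ᵥ (u : ι → F)) (β.1 *ᵥ (v : ι → F)) = polar Q (u : ι → F) (y v : ι → F) :=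
    fun u v => by rw [hadj, ← hmv, mul_comm, hβ, hwL]
  obtain ⟨L2, hL2⟩ : ∃ L2, L2 = L.map (Matrix.toLin' β.1) := ⟨_, rfl⟩
  have hL2mem : ∀ u : L, β.1 *ᵥ (u : ι → F) ∈ L2 := fun u => hL2 ▸ ⟨u, u.2, Matrix.toLin'_apply _ _⟩
  let E : L →ₗ[F] L2 := ((Matrix.toLin' β.1).comp L.subtype).codRestrict L2 fun u => by
    rw [LinearMap.comp_apply, Matrix.toLin'_apply]; exact hL2mem u
  have hEv : ∀ u : L, ((E u : L2) : ι → F) = β.1 *ᵥ (u : ι → F) := fun u => Matrix.toLin'_apply _ _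
  have hEinj : Function.Injective E := fun u v h => Subtype.ext (by
    have h' := congrArg (fun t : L2 => βi.1 *ᵥ (t : ι → F)) h
    simp only [hEv, ← hmv, hβi] at h'
    rwa [show ((1 : ↥R) : Matrix ι ι F) = 1 from rfl, Matrix.one_mulVec, Matrix.one_mulVec] at h')
  have hEsurj : Function.Surjective E := fun ⟨v, hv⟩ => by
    rw [hL2] at hv
    obtain ⟨u, hu, rfl⟩ := hv
    exact ⟨⟨u, hu⟩, rfl⟩
  let E' := LinearEquiv.ofBijective E ⟨hEinj, hEsurj⟩
  have hL2nd : ∀ v ∈ L2, (∀ v' ∈ L2, polar Q v v' = 0) → v = 0 := fun v hv hv' => by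
    obtain ⟨u, hu⟩ := hEsurj ⟨v, hv⟩
    have hv2 : v = β.1 *ᵥ (u : ι → F) := (congrArg Subtype.val hu).symm.trans (hEv u)
    have : (u : ι → F) = 0 := hLnd _ u.2 fun t ht => by
      obtain ⟨t', ht'⟩ := hysurj ⟨t, ht⟩
      rw [show t = (y t' : ι → F) from (congrArg Subtype.val ht').symm, ← hβpol, ← hv2]
      exact hv' _ (hL2mem t')
    rw [hv2, this, Matrix.mulVec_zero]
  obtain ⟨ub, hub, hub'⟩ := exists_orth_basis (Q' := Q) h2 L hLnd
  obtain ⟨vb, hvb, hvb'⟩ := exists_orth_basis (Q' := Q) h2 L2 hL2nd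
  obtain ⟨us, hus⟩ : ∃ us, us = List.ofFn fun i => (ub i : ι → F) := ⟨_, rfl⟩
  obtain ⟨ws, hws⟩ : ∃ ws, ws = List.ofFn fun i => (vb i : ι → F) := ⟨_, rfl⟩
  have hd2 : finrank F L2 = finrank F L := (LinearEquiv.finrank_eq E').symm
  obtain ⟨j1, k1⟩ := prodRf_orth (Q' := Q) us (by simp [hus, List.mem_ofFn, hub]) (by
    rw [hus, List.pairwise_ofFn]; exact fun i j h => hub' i j (ne_of_lt h))
  obtain ⟨j2, k2⟩ := prodRf_orth (Q' := Q) ws (by simp [hws, List.mem_ofFn, hvb]) (by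
    rw [hws, List.pairwise_ofFn]; exact fun i j h => hvb' i j (ne_of_lt h))
  have hneg : ∀ (W : Submodule F (ι → F)) {d : ℕ} (b : Basis (Fin d) F W) (g : ↥(Iso Q)),
      (∀ i, g.1 (b i : ι → F) = -(b i : ι → F)) → ∀ u ∈ W, g.1 u = -u := fun W d b g hg u hu => by
    have h : (g.1 : (ι → F) →ₗ[F] (ι → F)).comp W.subtype = -W.subtype := b.ext fun i => hg i
    exact LinearMap.congr_fun h ⟨u, hu⟩
  have hneg1 := hneg L ub (prodRf Q us) fun i => j1 _ (by rw [hus]; exact List.mem_ofFn.2 ⟨i, rfl⟩)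
  have hneg2 := hneg L2 vb (prodRf Q ws) fun i => j2 _ (by rw [hws]; exact List.mem_ofFn.2 ⟨i, rfl⟩)
  have husL : ∀ v ∈ us, v ∈ L := fun v hv => by
    rw [hus, List.mem_ofFn] at hv; obtain ⟨i, rfl⟩ := hv; exact (ub i).2
  have hwsL : ∀ v ∈ ws, v ∈ L2 := fun v hv => by
    rw [hws, List.mem_ofFn] at hv; obtain ⟨i, rfl⟩ := hv; exact (vb i).2
  have hfix1 : ∀ q : ↥R, φ q = q → (prodRf Q us).1 ((q * c).1 *ᵥ z') = (q * c).1 *ᵥ z' := fun q hq => k1 _ fun v hv => by
    obtain ⟨p, hp, rfl⟩ := husL v hv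
    rw [hpair, hp]
    exact hskew _ (by rw [map_mul, map_mul, hp, hq, hφc]; ring)
  have hfix2 : ∀ q : ↥R, φ q = q → (prodRf Q ws).1 ((β * (q * c)).1 *ᵥ z') = (β * (q * c)).1 *ᵥ z' :=
    fun q hq => k2 _ fun v hv => by
      have hv' := hwsL v hv
      rw [hL2] at hv'
      obtain ⟨_, ⟨p, hp, rfl⟩, rfl⟩ := hv'
      rw [Matrix.toLin'_apply, ← hmv, hpair, map_mul, hp]
      refine hskew _ ?_
      rw [map_mul, map_mul, map_mul, map_mul, hφφ, hp, hq, hφc]
      ring
  have hact : ∀ v : ↥R, (prodRf Q (ws ++ us)).1 (v.1 *ᵥ z') = (β * φ βi * v).1 *ᵥ z' := by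
    intro v
    rw [prodRf_append]
    show (prodRf Q ws).1 ((prodRf Q us).1 _) = _
    obtain ⟨p, q, hp, hq, rfl⟩ := hsplit v
    have hadd' : ∀ (g : ↥(Iso Q)) (s t : ↥R), g.1 ((s + t).1 *ᵥ z') = g.1 (s.1 *ᵥ z') + g.1 (t.1 *ᵥ z') := fun g s t => by
      rw [show ((s + t : ↥R) : Matrix ι ι F) = s.1 + t.1 from rfl, Matrix.add_mulVec, map_add]
    have hnegv : ∀ s : ↥R, -(s.1 *ᵥ z') = (-s).1 *ᵥ z' := fun s => (Matrix.neg_mulVec z' s.1).symm
    rw [hadd', hneg1 _ ⟨p, hp, rfl⟩, hfix1 q hq, hnegv, ← Matrix.add_mulVec,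
      show (-p).1 + (q * c).1 = (-p + q * c : ↥R).1 from rfl]
    obtain ⟨p', q', hp', hq', e1⟩ := hsplit (βi * (-p + q * c))
    have e2 : -p + q * c = β * p' + β * (q' * c) := by linear_combination β * e1 - (-p + q * c) * hβi
    rw [e2, hadd', hfix2 q' hq', hneg2 _ (by
      rw [hmv]; exact hL2mem ⟨_, p', hp', rfl⟩), hnegv, ← Matrix.add_mulVec]
    show (-(β * p') + β * (q' * c) : ↥R).1 *ᵥ z' = _
    have e3 := congrArg φ e1
    rw [map_mul, map_add, map_add, map_neg, map_mul, map_mul, hp, hq, hp', hq', hφc] at e3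
    congr 2
    linear_combination β * e3
  obtain ⟨W, hW⟩ : ∃ W : Submodule F (ι → F), ∀ v, v ∈ W ↔ ∃ p : ↥R, v = p.1 *ᵥ z' :=
    ⟨LinearMap.range (({ toFun := fun p : ↥R => p.1 *ᵥ z'
                         map_add' := fun p q => Matrix.add_mulVec _ _ _
                         map_smul' := fun k p => Matrix.smul_mulVec _ _ _ } : ↥R →ₗ[F] (ι → F))),
      fun v => ⟨fun ⟨p, hp⟩ => ⟨p, hp.symm⟩, fun ⟨p, hp⟩ => ⟨p, hp.symm⟩⟩⟩
  have hWinf : W ⊓ LinearMap.BilinForm.orthogonal Q.polarBilin W = ⊥ := by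
    rw [eq_bot_iff]
    rintro v ⟨hv, hv'⟩
    obtain ⟨p, rfl⟩ := (hW v).1 hv
    rw [Submodule.mem_bot, ← hze, show p * e = 0 from hfaith p fun y => by
      have h : polar Q ((φ y).1 *ᵥ z') (p.1 *ᵥ z') = 0 := hv' _ ((hW _).2 ⟨_, rfl⟩)
      rw [hpair, hφφ, mul_comm] at h
      exact h]
    exact Matrix.zero_mulVec z'
  have hWsup : W ⊔ LinearMap.BilinForm.orthogonal Q.polarBilin W = ⊤ := by
    refine Submodule.eq_top_of_finrank_eq ?_
    have h1 := Submodule.finrank_sup_add_finrank_inf_eq W (LinearMap.BilinForm.orthogonal Q.polarBilin W)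
    rw [hWinf, finrank_bot, LinearMap.BilinForm.finrank_orthogonal hnd] at h1
    have h3 := W.finrank_le
    omega
  have hWfix : ∀ v ∈ LinearMap.BilinForm.orthogonal Q.polarBilin W, (prodRf Q (ws ++ us)).1 v = v := fun v hv => by
    rw [prodRf_append]
    show (prodRf Q ws).1 ((prodRf Q us).1 v) = _
    rw [k1 v fun u hu => ?_, k2 v fun u hu => ?_]
    · have hu' := hwsL u hu
      rw [hL2] at hu'
      obtain ⟨_, ⟨p, hp, rfl⟩, rfl⟩ := hu'
      rw [Matrix.toLin'_apply, ← hmv]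
      exact hv _ ((hW _).2 ⟨β * p, rfl⟩)
    · obtain ⟨p, hp, rfl⟩ := husL u hu
      exact hv _ ((hW _).2 ⟨p, rfl⟩)
  refine ⟨ws ++ us, ?_, ?_, ?_, fun v => ?_⟩
  · rintro v hv
    rcases List.mem_append.1 hv with h | h
    · rw [hws, List.mem_ofFn] at h; obtain ⟨i, rfl⟩ := h; exact hvb i
    · rw [hus, List.mem_ofFn] at h; obtain ⟨i, rfl⟩ := h; exact hub i
  · rw [List.length_append, hws, hus, List.length_ofFn, List.length_ofFn, hd2]; exact ⟨_, rfl⟩
  · -- the Gram determinants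
    let vb' : Basis (Fin (finrank F L)) F L := (vb.reindex (finCongr hd2)).map E'.symm
    have hvb'' : ∀ i, β.1 *ᵥ (vb' i : ι → F) = (vb (Fin.cast hd2.symm i) : ι → F) := fun i => by
      rw [← hEv, show E (vb' i) = E' (E'.symm ((vb.reindex (finCongr hd2)) i)) from rfl, E'.apply_symm_apply,
        Basis.reindex_apply]
      rfl
    let G : LinearMap.BilinForm F L := ((Q.polarBilin).compl₁₂ L.subtype L.subtype).compl₂ y
    have hG : ∀ u v : L, G u v = polar Q (u : ι → F) (y v : ι → F) := fun u v => rfl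
    have hGu : LinearMap.toMatrix₂ ub ub G =
        Matrix.diagonal (fun i => 2 * Q (ub i : ι → F)) * LinearMap.toMatrix ub ub y := by
      ext i j
      rw [LinearMap.toMatrix₂_apply, hG, Matrix.diagonal_mul, LinearMap.toMatrix_apply]
      conv_lhs => rw [← ub.sum_repr (y (ub j))]
      rw [Submodule.coe_sum, ← polarBilin_apply_apply, map_sum,
        Finset.sum_eq_single i (fun k _ hk => by
          rw [Submodule.coe_smul, map_smul, polarBilin_apply_apply, hub' i k (Ne.symm hk), smul_zero]) (by simp),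
        Submodule.coe_smul, map_smul, polarBilin_apply_apply, polar_self_two, smul_eq_mul, mul_comm]
    have hGv : LinearMap.toMatrix₂ vb' vb' G = Matrix.diagonal (fun i => 2 * Q (vb (Fin.cast hd2.symm i) : ι → F)) := by
      ext i j
      rw [LinearMap.toMatrix₂_apply, hG, ← hβpol, hvb'', hvb'']
      rcases eq_or_ne i j with rfl | h
      · rw [Matrix.diagonal_apply_eq, polar_self_two]
      · rw [Matrix.diagonal_apply_ne _ h, hvb' _ _ (fun h' => h (Fin.cast_injective _ h'))]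
    obtain ⟨D, hD⟩ : ∃ D, D = (ub.toMatrix vb').det := ⟨_, rfl⟩
    have hdet := congrArg Matrix.det (LinearMap.toMatrix₂_mul_basis_toMatrix ub ub vb' vb' G)
    rw [Matrix.det_mul, Matrix.det_mul, Matrix.det_transpose, hGu, hGv, Matrix.det_mul, Matrix.det_diagonal,
      Matrix.det_diagonal, LinearMap.det_toMatrix, hyd, ← hD, Finset.prod_mul_distrib, Finset.prod_mul_distrib,
      Finset.prod_const] at hdet
    rw [List.map_append, List.prod_append, hws, hus, List.map_ofFn, List.map_ofFn, List.prod_ofFn, List.prod_ofFn]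
    simp only [Function.comp_apply]
    obtain ⟨P, hP⟩ : ∃ P, P = ∏ i, Q (ub i : ι → F) := ⟨_, rfl⟩
    have hP0 : P ≠ 0 := hP ▸ Finset.prod_ne_zero_iff.2 fun i _ => hub i
    have hprod : ∏ i, Q (vb (Fin.cast hd2.symm i) : ι → F) = ∏ i, Q (vb i : ι → F) :=
      Equiv.prod_comp (finCongr hd2.symm) fun i => Q (vb i : ι → F)
    rw [hprod] at hdet
    rw [← hP] at hdet ⊢
    obtain ⟨n, hn⟩ : ∃ n, n = (Finset.univ : Finset (Fin (finrank F L))).card := ⟨_, rfl⟩
    rw [← hn] at hdet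
    have e : ∏ i, Q (vb i : ι → F) = D * D * P * ν :=
      mul_left_cancel₀ (pow_ne_zero n h2) (by linear_combination -hdet)
    rintro ⟨s, hs⟩
    rw [e] at hs
    have hD0 : D ≠ 0 := fun h0 => by
      rw [h0, mul_zero, zero_mul, zero_mul] at e
      exact Finset.prod_ne_zero_iff.2 (fun i _ => hvb i) e
    exact hν ⟨s / (D * P), by field_simp; linear_combination hs⟩
  · obtain ⟨u, hu, t, ht, rfl⟩ := Submodule.mem_sup.1 (hWsup ▸ Submodule.mem_top (x := v))
    obtain ⟨p, rfl⟩ := (hW u).1 hu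
    have hat : a *ᵥ t ∈ LinearMap.BilinForm.orthogonal Q.polarBilin W := fun u hu => by
      obtain ⟨q, rfl⟩ := (hW u).1 hu
      show polar Q (q.1 *ᵥ z') (a *ᵥ t) = 0
      rw [← hα, ← hφφ α, ← hadj, ← hmv]
      exact ht _ ((hW _).2 ⟨_, rfl⟩)
    rw [Matrix.mulVec_add, map_add, map_add, Matrix.mulVec_add, hWfix t ht, hWfix _ hat, ← hα, ← hmv, hact, hact,
      ← hmv, mul_left_comm]

end Cfsg.Agent.Small.Orth
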