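import Cfsg.Agent.Lib.Small.Orth.Words

/-!
# Words in reflections moving subspaces

Parity of the intersection of maximal totally singular subspaces, words stabilising a subspace with
prescribed parity and square class.
-/

set_option autoImplicit false
set_option linter.unusedSectionVars false

namespace Cfsg.Agent.Small.Orth

open Module QuadraticMap Cfsg.Agent.Classical Cfsg.Agent.Classical.OCount Cfsg.Agent.Classical.ORefl
  Cfsg.Agent.Classical.OOmega

variable {F : Type*} [Field F] {V : Type*} [AddCommGroup V] [Module F V] [FiniteDimensional F V]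
  {Q : QuadraticForm F V}

/-- A totally singular subspace of half the dimension is its own orthogonal. -/
theorem orth_eq_self (hQ : PND Q) {m : ℕ} (hV : finrank F V = 2 * m) {W : Submodule F V}
    (hW : ∀ w ∈ W, Q w = 0) (hWd : finrank F W = m) : LinearMap.BilinForm.orthogonal Q.polarBilin W = W :=
  (Submodule.eq_of_le_of_finrank_eq (Witt.le_orth Q hW)
    (by rw [LinearMap.BilinForm.finrank_orthogonal (nondeg hQ)]; omega)).symm

/-- An isometry maps totally singular subspaces to totally singular subspaces of the same dimension. -/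
theorem ts_map (g : ↥(Iso Q)) {W : Submodule F V} (hW : ∀ w ∈ W, Q w = 0) :
    (∀ w ∈ W.map (g.1 : V →ₗ[F] V), Q w = 0) ∧ finrank F (W.map (g.1 : V →ₗ[F] V)) = finrank F W := by
  refine ⟨?_, LinearEquiv.finrank_map_eq g.1 W⟩
  rintro _ ⟨x, hx, rfl⟩
  exact (g.2 x).trans (hW x hx)

/-- A reflection moves a maximal totally singular subspace to a neighbour on the other side. -/
theorem even_inter_step (hQ : PND Q) {m : ℕ} (hV : finrank F V = 2 * m) {U W : Submodule F V}
    (hU : ∀ w ∈ U, Q w = 0) (hUd : finrank F U = m) (hW : ∀ w ∈ W, Q w = 0) (hWd : finrank F W = m) {v : V}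
    (hv : Q v ≠ 0) :
    Even (m - finrank F ↥(U ⊓ W.map (refl Q v : V →ₗ[F] V))) ↔ ¬ Even (m - finrank F ↥(U ⊓ W)) := by
  obtain ⟨hW', hW'd⟩ := ts_map (rf Q v) hW
  change ∀ w ∈ W.map (refl Q v : V →ₗ[F] V), Q w = 0 at hW'
  change finrank F (W.map (refl Q v : V →ₗ[F] V)) = finrank F W at hW'd
  rw [hWd] at hW'd
  set W' := W.map (refl Q v : V →ₗ[F] V) with hW'def
  set B : LinearMap.BilinForm F V := Q.polarBilin with hB
  have hvW : v ∉ W := fun h => hv (hW v h)
  obtain ⟨w₁, hw₁, hw₁'⟩ : ∃ w ∈ W, polar Q v w ≠ 0 := by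
    by_contra hc
    push Not at hc
    refine hvW ((orth_eq_self hQ hV hW hWd).le fun y hy => ?_)
    change polar Q y v = 0
    rw [polar_comm]; exact hc y hy
  set H := W ⊓ LinearMap.ker (B v) with hH
  have hHd : finrank F H + 1 = m := by
    have h1 := Submodule.finrank_sup_add_finrank_inf_eq W (LinearMap.ker (B v))
    have h2 := (W ⊔ LinearMap.ker (B v)).finrank_le
    have h3 := LinearMap.finrank_range_add_finrank_ker (B v)
    have h4 : finrank F (LinearMap.range (B v)) ≤ 1 := (Submodule.finrank_le _).trans_eq (finrank_self F)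
    have h5 : H < W := lt_of_le_of_ne inf_le_left fun e => by
      have := e.symm ▸ hw₁
      exact hw₁' (LinearMap.mem_ker.1 this.2)
    have h6 := Submodule.finrank_lt_finrank_of_lt h5
    rw [← hH] at h1
    omega
  have hHW' : H ≤ W' := fun x hx => ⟨x, hx.1, refl_fix (LinearMap.mem_ker.1 hx.2)⟩
  have hne : W ≠ W' := fun e => by
    have h1 : refl Q v w₁ ∈ W := e.symm ▸ ⟨w₁, hw₁, rfl⟩
    rw [refl_apply, Submodule.sub_mem_iff_right _ hw₁] at h1
    exact hvW ((Submodule.smul_mem_iff _ (mul_ne_zero (inv_ne_zero hv) hw₁')).1 h1)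
  have hHeq : W ⊓ W' = H := by
    refine (Submodule.eq_of_le_of_finrank_le (le_inf inf_le_left hHW') ?_).symm
    have hlt : W ⊓ W' < W := lt_of_le_of_ne inf_le_left fun e => hne
      (Submodule.eq_of_le_of_finrank_eq (e ▸ inf_le_right) (by rw [hWd, hW'd]))
    have := Submodule.finrank_lt_finrank_of_lt hlt
    change finrank F ↥(W ⊓ W') ≤ finrank F ↥H
    omega
  have hHts : ∀ w ∈ H, Q w = 0 := fun w hw => hW w hw.1
  set K := U ⊓ B.orthogonal H with hK
  have hKeq : K = B.orthogonal (U ⊔ H) := by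
    refine le_antisymm (fun x hx y hy => ?_) fun x hx => ?_
    · obtain ⟨a, ha, b, hb, rfl⟩ := Submodule.mem_sup.1 hy
      change B (a + b) x = 0
      have e1 : B a x = 0 := Witt.le_orth Q hU hx.1 a ha
      have e2 : B b x = 0 := hx.2 b hb
      rw [map_add, LinearMap.add_apply, e1, e2, add_zero]
    · exact ⟨(orth_eq_self hQ hV hU hUd).le fun y hy => hx y (Submodule.mem_sup_left hy),
        fun y hy => hx y (Submodule.mem_sup_right hy)⟩
  have hKd : finrank F K = finrank F ↥(U ⊓ H) + 1 := by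
    have h1 := Submodule.finrank_sup_add_finrank_inf_eq U H
    have h2 := (U ⊔ H).finrank_le
    rw [hKeq, LinearMap.BilinForm.finrank_orthogonal (nondeg hQ)]
    omega
  have hmemK : ∀ x ∈ K, x ∈ W ∨ x ∈ W' := by
    intro x hx
    by_cases hxH : x ∈ H
    · exact Or.inl hxH.1
    by_contra hc
    push Not at hc
    set S := H ⊔ Submodule.span F {x} with hS
    have hSts : ∀ w ∈ S, Q w = 0 := by
      intro w hw
      obtain ⟨a, ha, b, hb, rfl⟩ := Submodule.mem_sup.1 hw
      obtain ⟨t, rfl⟩ := Submodule.mem_span_singleton.1 hb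
      have hp : polar Q a x = 0 := hx.2 a ha
      rw [map_two, hHts a ha, QuadraticMap.map_smul, hU x hx.1, polar_smul_right, hp]
      simp
    have hSd : finrank F S = m := by
      have hlt : H < S := lt_of_le_not_ge le_sup_left fun h =>
        hxH (h (Submodule.mem_sup_right (Submodule.mem_span_singleton_self x)))
      have h1 := Submodule.finrank_lt_finrank_of_lt hlt
      have h2 : finrank F S ≤ finrank F H + finrank F (Submodule.span F {x}) :=
        Submodule.finrank_add_le_finrank_add_finrank _ _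
      rw [finrank_span_singleton fun e : x = 0 => hxH (by rw [e]; exact Submodule.zero_mem _)] at h2
      omega
    have hcard := Witt.card_two Q (nondeg hQ) hV hHts hHd hW hWd
    have hall : ∀ X : Submodule F V, finrank F X = m → (∀ w ∈ X, Q w = 0) → H ≤ X → X = W ∨ X = W' := by
      intro X h1 h2 h3
      by_contra hX
      push Not at hX
      rw [Nat.card_eq_two_iff] at hcard
      obtain ⟨a, b, -, hab⟩ := hcard
      have hm : ∀ z : {X : Submodule F V // finrank F X = m ∧ (∀ w ∈ X, Q w = 0) ∧ H ≤ X}, z = a ∨ z = b :=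
        fun z => by
          have : z ∈ ({a, b} : Set _) := hab ▸ Set.mem_univ z
          simpa using this
      rcases hm ⟨W, hWd, hW, inf_le_left⟩ with hA | hA <;> rcases hm ⟨W', hW'd, hW', hHW'⟩ with hB' | hB' <;>
        rcases hm ⟨X, h1, h2, h3⟩ with hC | hC <;>
        first
        | exact hne (congrArg Subtype.val (hA.trans hB'.symm))
        | exact hX.1 (congrArg Subtype.val (hC.trans hA.symm))
        | exact hX.2 (congrArg Subtype.val (hC.trans hB'.symm))
    rcases hall S hSd hSts le_sup_left with h | h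
    · exact hc.1 (h ▸ Submodule.mem_sup_right (Submodule.mem_span_singleton_self x))
    · exact hc.2 (h ▸ Submodule.mem_sup_right (Submodule.mem_span_singleton_self x))
  have hinW : U ⊓ W ≤ K := fun x hx => ⟨hx.1, fun y hy => Witt.le_orth Q hW hx.2 y hy.1⟩
  have hinW' : U ⊓ W' ≤ K := fun x hx => ⟨hx.1, fun y hy => Witt.le_orth Q hW' hx.2 y (hHW' hy)⟩
  have hor : K ≤ W ∨ K ≤ W' := by
    by_contra hc
    rw [not_or, SetLike.not_le_iff_exists, SetLike.not_le_iff_exists] at hc
    obtain ⟨⟨a, ha, haW⟩, b, hb, hbW'⟩ := hc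
    rcases hmemK (a + b) (K.add_mem ha hb) with h | h
    · exact haW ((Submodule.add_mem_iff_left _ ((hmemK b hb).resolve_right hbW')).1 h)
    · exact hbW' ((Submodule.add_mem_iff_right _ ((hmemK a ha).resolve_left haW)).1 h)
  have hdW : finrank F ↥(U ⊓ W) ≤ m := (Submodule.finrank_mono inf_le_left).trans hUd.le
  have hdW' : finrank F ↥(U ⊓ W') ≤ m := (Submodule.finrank_mono inf_le_left).trans hUd.le
  rw [Nat.even_iff, Nat.even_iff]
  rcases hor with h | h
  · have e1 : U ⊓ W = K := le_antisymm hinW (le_inf inf_le_left h)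
    have e2 : U ⊓ W' = U ⊓ H := le_antisymm
      (le_inf inf_le_left (hHeq ▸ le_inf ((hinW'.trans h)) inf_le_right)) (inf_le_inf_left _ hHW')
    rw [e1] at hdW ⊢
    rw [e2] at hdW' ⊢
    omega
  · have e1 : U ⊓ W' = K := le_antisymm hinW' (le_inf inf_le_left h)
    have e2 : U ⊓ W = U ⊓ H := le_antisymm
      (le_inf inf_le_left (hHeq ▸ le_inf inf_le_right (hinW.trans h))) (inf_le_inf_left _ inf_le_left)
    rw [e1] at hdW' ⊢
    rw [e2] at hdW ⊢
    omega

/-- The parity of the intersection with the image is the parity of the length. -/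
theorem even_inter_iff (hQ : PND Q) {m : ℕ} (hV : finrank F V = 2 * m) {U : Submodule F V}
    (hU : ∀ w ∈ U, Q w = 0) (hUd : finrank F U = m) (vs : List V) (hvs : ∀ v ∈ vs, Q v ≠ 0) :
    Even (m - finrank F ↥(U ⊓ U.map ((prodRf Q vs).1 : V →ₗ[F] V))) ↔ Even vs.length := by
  induction vs with
  | nil =>
    rw [prodRf_nil, show ((1 : ↥(Iso Q)).1 : V →ₗ[F] V) = LinearMap.id from rfl, Submodule.map_id, inf_idem, hUd,
      Nat.sub_self, List.length_nil]
  | cons v vs ih =>
    have e : U.map ((prodRf Q (v :: vs)).1 : V →ₗ[F] V) =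
        (U.map ((prodRf Q vs).1 : V →ₗ[F] V)).map (refl Q v : V →ₗ[F] V) := by
      rw [← Submodule.map_comp, prodRf_cons]; rfl
    obtain ⟨h1, h2⟩ := ts_map (prodRf Q vs) hU
    rw [e, even_inter_step hQ hV hU hUd h1 (h2.trans hUd) (hvs v List.mem_cons_self),
      ih fun w hw => hvs w (List.mem_cons_of_mem _ hw), List.length_cons, Nat.even_add_one]

/-- Reflections in vectors inside or orthogonal to a subspace stabilise it. -/
theorem prodRf_mem {U : Submodule F V} (ws : List V) (h : ∀ w ∈ ws, w ∈ U ∨ ∀ u ∈ U, polar Q w u = 0) {u : V}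
    (hu : u ∈ U) : (prodRf Q ws).1 u ∈ U := by
  induction ws with
  | nil => exact hu
  | cons w ws ih =>
    rw [prodRf_cons, show ((rf Q w * prodRf Q ws : ↥(Iso Q)).1 u) = refl Q w ((prodRf Q ws).1 u) from rfl]
    have hi := ih fun z hz => h z (List.mem_cons_of_mem _ hz)
    rcases h w List.mem_cons_self with hw | hw
    · rw [refl_apply]; exact U.sub_mem hi (U.smul_mem _ hw)
    · rw [refl_fix (hw _ hi)]; exact hi

/-- Scaling along a totally singular subspace: an even word of given square class stabilising it. -/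
theorem exists_scale (hQ : PND Q) {U : Submodule F V} (hU : ∀ w ∈ U, Q w = 0) (hUne : U ≠ ⊥) {c : F}
    (hc : c ≠ 0) :
    ∃ ws : List V, (∀ w ∈ ws, Q w ≠ 0) ∧ Even ws.length ∧ IsSquare (c * (ws.map fun w => Q w).prod) ∧
      ∀ u ∈ U, (prodRf Q ws).1 u ∈ U := by
  obtain ⟨e, heU, he0⟩ := U.ne_bot_iff.1 hUne
  obtain ⟨f₀, -, hf₀⟩ := exists_polar_sep hQ (H := (⊥ : Submodule F V)) (x := e) (by simpa using he0) 1
  obtain ⟨f, hf⟩ : ∃ f, f = f₀ - Q f₀ • e := ⟨_, rfl⟩
  have hee : polar Q e e = 0 := polar_self_zero (hU e heU)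
  have hef : polar Q e f = 1 := by
    rw [hf, polar_sub_right, polar_smul_right, hee, smul_zero, sub_zero, polar_comm, hf₀]
  have hQf : Q f = 0 := by
    rw [hf, map_sub_two, QuadraticMap.map_smul, hU e heU, polar_smul_right, hf₀]; simp
  obtain ⟨h1, h2, h3, -, h5⟩ := pair_scale (hU e heU) hQf hef hc
  refine ⟨[e - f, e - c • f], ?_, ⟨1, rfl⟩, ?_, fun u hu => ?_⟩
  · simp [h1, h2, hc]
  · simp only [List.map_cons, List.map_nil, List.prod_cons, List.prod_nil, mul_one, h1, h2]
    rw [show c * (-1 * -c) = c * c by ring]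
    exact IsSquare.mul_self c
  · obtain ⟨a, ha⟩ : ∃ a, a = polar Q f u := ⟨_, rfl⟩
    have hu0 : u - a • e ∈ U := U.sub_mem hu (U.smul_mem _ heU)
    have hfix := h5 (u - a • e) (Witt.le_orth Q hU hu0 e heU) (by
      rw [polar_sub_right, polar_smul_right, polar_comm Q f e, hef, ← ha]; simp)
    rw [← sub_add_cancel u (a • e), map_add, map_smul, h3, hfix]
    exact U.add_mem hu0 (U.smul_mem _ (U.smul_mem _ heU))

variable [Finite F]

/-- A non-degenerate plane or larger meets every square class. -/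
theorem exists_class {X : Submodule F V}
    (hX : X ⊓ LinearMap.BilinForm.orthogonal Q.polarBilin X = ⊥) (hd : 2 ≤ finrank F X) {c : F} (hc : c ≠ 0) :
    ∃ w ∈ X, Q w ≠ 0 ∧ IsSquare (c * Q w) := by
  set R : QuadraticForm F X := QuadraticMap.comp Q X.subtype with hR
  have hpol : ∀ x y : X, polar R x y = polar Q (x : V) y := fun x y => rfl
  have hRnd : PND R := fun x hx => by
    have : (x : V) ∈ X ⊓ LinearMap.BilinForm.orthogonal Q.polarBilin X := ⟨x.2, fun y hy => by
      change polar Q y (x : V) = 0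
      rw [polar_comm]
      exact (hpol x ⟨y, hy⟩).symm.trans (hx _)⟩
    rw [hX, Submodule.mem_bot] at this
    exact Subtype.ext this
  by_cases h2 : (2 : F) = 0
  · obtain ⟨w, hw⟩ : ∃ w : X, R w ≠ 0 := by
      by_contra hne
      push Not at hne
      haveI : Nontrivial X := Module.nontrivial_of_finrank_pos (R := F) (by omega)
      obtain ⟨v, hv⟩ := exists_ne (0 : X)
      exact hv (hRnd v fun w => by rw [polar, hne, hne, hne]; ring)
    exact ⟨w, w.2, hw, isSquare_all h2 _⟩
  · obtain ⟨w, hw⟩ := exists_value h2 hRnd hd c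
    change Q (w : V) = c at hw
    exact ⟨w, w.2, hw ▸ hc, hw ▸ IsSquare.mul_self c⟩

/-- A word inside a non-degenerate subspace of prescribed parity and class. -/
theorem exists_word_in {X : Submodule F V} (hX : X ⊓ LinearMap.BilinForm.orthogonal Q.polarBilin X = ⊥)
    (hd : 2 ≤ finrank F X) (k : ℕ) {c : F} (hc : c ≠ 0) :
    ∃ ws : List V, (∀ w ∈ ws, w ∈ X ∧ Q w ≠ 0) ∧ Even (k + ws.length) ∧
      IsSquare (c * (ws.map fun w => Q w).prod) := by
  obtain ⟨w, hwX, hw0, hws⟩ := exists_class hX hd hc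
  rcases Nat.even_or_odd k with hk | hk
  · obtain ⟨u, huX, hu0, hus⟩ := exists_class hX hd (one_ne_zero : (1 : F) ≠ 0)
    refine ⟨[w, u], by simp [hwX, hw0, huX, hu0], hk.add ⟨1, rfl⟩, ?_⟩
    simp only [List.map_cons, List.map_nil, List.prod_cons, List.prod_nil, mul_one, ← mul_assoc]
    rw [one_mul] at hus
    exact hws.mul hus
  · exact ⟨[w], by simp [hwX, hw0], hk.add_odd odd_one, by simpa using hws⟩

/-- Witt's lemma for a pair of subspaces. -/
theorem exists_map_iso (hQ : PND Q) {U W : Submodule F V} (e : U ≃ₗ[F] W) (he : ∀ u : U, Q (e u : V) = Q (u : V)) :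
    ∃ g : ↥(Iso Q), ∀ u ∈ U, g.1 u ∈ W := by
  obtain ⟨g, hg, hgu⟩ := witt hQ U (W.subtype ∘ₗ e.toLinearMap)
    (Subtype.val_injective.comp e.injective) he
  exact ⟨⟨g, hg⟩, fun u hu => by rw [hgu ⟨u, hu⟩]; exact (e ⟨u, hu⟩).2⟩

end Cfsg.Agent.Small.Orth
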