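import Cfsg.Agent.Lib.Small.Orth.Subspaces

/-!
# Matrices: membership in `Ω` through words in reflections
-/

set_option autoImplicit false
set_option linter.unusedSectionVars false

namespace Cfsg.Agent.Small.Orth

open Module QuadraticMap Matrix Cfsg.Agent.Classical Cfsg.Agent.Classical.OCount Cfsg.Agent.Classical.ORefl
  Cfsg.Agent.Classical.OOmega

variable {F : Type*} [Field F] {ι : Type} [Fintype ι] [DecidableEq ι] {Q : QuadraticForm F (ι → F)}
  {q : (ι → F) → F}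

/-- A matrix isometry written as a word lies in `Ω` iff the word is even with square value product. -/
theorem mem_omega [Finite F] (hq : ⇑Q = q) (hQ : PND Q) (g : ↥(Cfsg.isometryGroup F q)) (vs : List (ι → F))
    (hvs : ∀ v ∈ vs, Q v ≠ 0) (hM : ∀ x, (g.1.1 : Matrix ι ι F) *ᵥ x = (prodRf Q vs).1 x) :
    g ∈ Cfsg.Omega F q ↔ Even vs.length ∧ IsSquare (vs.map fun v => Q v).prod := by
  subst hq
  have e : g = toMat Q (prodRf Q vs) := Subtype.ext (Units.ext (toMat_eq fun x => (hM x).symm).symm)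
  rw [omega_eq_map, e, ← mem_commutator_iff hQ vs hvs]
  exact ⟨fun ⟨y, hy, hye⟩ => (toMat Q).injective hye ▸ hy, fun h => ⟨_, h, rfl⟩⟩

/-- Every matrix isometry is a word. -/
theorem exists_list_mat (hq : ⇑Q = q) (hQ : PND Q) (h : Nat.card F ≠ 2 ∨ Fintype.card ι ≠ 4)
    (g : ↥(Cfsg.isometryGroup F q)) :
    ∃ vs : List (ι → F), (∀ v ∈ vs, Q v ≠ 0) ∧ ∀ x, (g.1.1 : Matrix ι ι F) *ᵥ x = (prodRf Q vs).1 x := by
  subst hq
  obtain ⟨vs, hvs, he⟩ := exists_list hQ (by rwa [Module.finrank_fintype_fun_eq_card]) ((toMat Q).symm g)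
  refine ⟨vs, hvs, fun x => ?_⟩
  rw [he, ← toMat_apply, MulEquiv.apply_symm_apply]

/-- A word gives a matrix isometry. -/
theorem exists_word_mat (hq : ⇑Q = q) (vs : List (ι → F)) :
    ∃ g : ↥(Cfsg.isometryGroup F q), ∀ x, (g.1.1 : Matrix ι ι F) *ᵥ x = (prodRf Q vs).1 x := by
  subst hq
  exact ⟨toMat Q (prodRf Q vs), fun x => toMat_apply _ x⟩

/-- A matrix given by a word is in `Ω` iff the word is even with square value product. -/
theorem exists_iff [Finite F] (hq : ⇑Q = q) (hQ : PND Q) {M : Matrix ι ι F} (vs : List (ι → F))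
    (hvs : ∀ v ∈ vs, Q v ≠ 0) (hM : ∀ x, M *ᵥ x = (prodRf Q vs).1 x) :
    (∃ g : ↥(Cfsg.isometryGroup F q), g ∈ Cfsg.Omega F q ∧ (g.1.1 : Matrix ι ι F) = M) ↔
      Even vs.length ∧ IsSquare (vs.map fun v => Q v).prod := by
  constructor
  · rintro ⟨g, hg, hgM⟩
    exact (mem_omega hq hQ g vs hvs fun x => by rw [hgM, hM]).1 hg
  · intro h
    obtain ⟨g, hg⟩ := exists_word_mat hq vs
    exact ⟨g, (mem_omega hq hQ g vs hvs hg).2 h, Matrix.ext_of_mulVec_single fun i => by rw [hg, hM]⟩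

/-- A stabilising word of the right parity and class turns a word mapping `U` into `W` into an element of `Ω`. -/
theorem exists_omega_map [Finite F] (hq : ⇑Q = q) (hQ : PND Q) {U W : Submodule F (ι → F)}
    (hUW : finrank F U = finrank F W) (vs ws : List (ι → F)) (hvs : ∀ v ∈ vs, Q v ≠ 0)
    (hws : ∀ v ∈ ws, Q v ≠ 0) (hmap : ∀ u ∈ U, (prodRf Q vs).1 u ∈ W) (hstab : ∀ u ∈ U, (prodRf Q ws).1 u ∈ U)
    (he : Even (vs.length + ws.length))
    (hs : IsSquare ((vs.map fun v => Q v).prod * (ws.map fun v => Q v).prod)) :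
    ∃ g : ↥(Cfsg.isometryGroup F q), g ∈ Cfsg.Omega F q ∧
      U.map (Matrix.mulVecLin (g.1.1 : Matrix ι ι F)) = W := by
  obtain ⟨g, hg⟩ := exists_word_mat hq (vs ++ ws)
  refine ⟨g, (mem_omega hq hQ g _ (fun v hv => (List.mem_append.1 hv).elim (hvs v) (hws v)) hg).2
    ⟨by rw [List.length_append]; exact he, by rw [List.map_append, List.prod_append]; exact hs⟩, ?_⟩
  have e : Matrix.mulVecLin (g.1.1 : Matrix ι ι F) = ((prodRf Q (vs ++ ws)).1 : (ι → F) →ₗ[F] ι → F) :=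
    LinearMap.ext fun x => by rw [Matrix.mulVecLin_apply, hg]; rfl
  rw [e]
  refine Submodule.eq_of_le_of_finrank_eq ?_ ((LinearEquiv.finrank_map_eq (prodRf Q (vs ++ ws)).1 U).trans hUW)
  rintro _ ⟨u, hu, rfl⟩
  change (prodRf Q (vs ++ ws)).1 u ∈ W
  rw [prodRf_append]
  exact hmap _ (hstab u hu)

/-- The rank of `M - 1` for a matrix given by a word has the parity of the word. -/
theorem even_rank_mat (hQ : PND Q) {M : Matrix ι ι F} (vs : List (ι → F)) (hvs : ∀ v ∈ vs, Q v ≠ 0)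
    (hM : ∀ x, M *ᵥ x = (prodRf Q vs).1 x) : Even (M - 1).rank ↔ Even vs.length := by
  rw [← even_rank_iff hQ vs hvs, Matrix.rank,
    show (M - 1).mulVecLin = ((prodRf Q vs).1 : (ι → F) →ₗ[F] ι → F) - 1 from LinearMap.ext fun x => by
      rw [Matrix.mulVecLin_apply, Matrix.sub_mulVec, hM, Matrix.one_mulVec]; rfl]

/-- The determinant of a matrix given by a word. -/
theorem det_word {M : Matrix ι ι F} (vs : List (ι → F)) (hvs : ∀ v ∈ vs, Q v ≠ 0)
    (hM : ∀ x, M *ᵥ x = (prodRf Q vs).1 x) : M.det = (-1) ^ vs.length := by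
  rw [← LinearMap.det_toLin' M, show Matrix.toLin' M = ((prodRf Q vs).1 : (ι → F) →ₗ[F] ι → F) from
    LinearMap.ext fun x => by rw [Matrix.toLin'_apply, hM]; rfl]
  clear hM M
  induction vs with
  | nil =>
    rw [prodRf_nil, List.length_nil, pow_zero]
    exact LinearMap.det_id
  | cons v vs ih =>
    rw [prodRf_cons, show ((rf Q v * prodRf Q vs : ↥(Iso Q)).1 : (ι → F) →ₗ[F] ι → F) =
      (refl Q v : (ι → F) →ₗ[F] ι → F) * ((prodRf Q vs).1 : (ι → F) →ₗ[F] ι → F) from rfl, map_mul,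
      det_refl (hvs v List.mem_cons_self), ih fun w hw => hvs w (List.mem_cons_of_mem _ hw), List.length_cons,
      pow_succ']

end Cfsg.Agent.Small.Orth
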