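import Cfsg.Agent.Lib.Small.Orth.Bridge

/-!
# `diag(A, A⁻ᵀ)` on a hyperbolic family and the swap, as words in reflections
-/

set_option autoImplicit false
set_option linter.unusedSectionVars false

namespace Cfsg.Agent.Small.Orth

open Module QuadraticMap Matrix Cfsg.Agent.Classical Cfsg.Agent.Classical.OCount Cfsg.Agent.Classical.ORefl
  Cfsg.Agent.Classical.OOmega

variable {F : Type*} [Field F] {V : Type*} [AddCommGroup V] [Module F V] [FiniteDimensional F V]
  {Q : QuadraticForm F V} {m : ℕ} {e f : Fin m → V}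

/-- Orthogonal hyperbolic pairs. -/
structure HFam (Q : QuadraticForm F V) (e f : Fin m → V) : Prop where
  qe : ∀ i, Q (e i) = 0
  qf : ∀ i, Q (f i) = 0
  ef : ∀ i j, polar Q (e i) (f j) = if i = j then 1 else 0
  ee : ∀ i j, polar Q (e i) (e j) = 0
  ff : ∀ i j, polar Q (f i) (f j) = 0

theorem HFam.fe (h : HFam Q e f) (i j : Fin m) : polar Q (f i) (e j) = if i = j then 1 else 0 := by
  rw [polar_comm, h.ef]; simp [eq_comm]

/-- `g` acts as `A` on the `e`'s, as `A⁻ᵀ` on the `f`'s and trivially on their orthogonal space. -/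
structure Acts (Q : QuadraticForm F V) (e f : Fin m → V) (A : Matrix (Fin m) (Fin m) F) (g : V →ₗ[F] V) : Prop where
  one : ∀ i, g (e i) = ∑ j, A j i • e j
  two : ∀ i, g (f i) = ∑ j, A⁻¹ i j • f j
  fix : ∀ x, (∀ i, polar Q (e i) x = 0) → (∀ i, polar Q (f i) x = 0) → g x = x

theorem HFam.polar_sum_e (h : HFam Q e f) (c : Fin m → F) (i : Fin m) :
    polar Q (f i) (∑ j, c j • e j) = c i := by
  rw [← polarBilin_apply_apply, map_sum]
  simp [h.fe]

theorem HFam.polar_sum_f (h : HFam Q e f) (c : Fin m → F) (i : Fin m) :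
    polar Q (e i) (∑ j, c j • f j) = c i := by
  rw [← polarBilin_apply_apply, map_sum]
  simp [h.ef]

theorem HFam.polar_sum_ee (h : HFam Q e f) (c : Fin m → F) (i : Fin m) :
    polar Q (e i) (∑ j, c j • e j) = 0 := by
  rw [← polarBilin_apply_apply, map_sum]
  simp [h.ee]

theorem HFam.polar_sum_ff (h : HFam Q e f) (c : Fin m → F) (i : Fin m) :
    polar Q (f i) (∑ j, c j • f j) = 0 := by
  rw [← polarBilin_apply_apply, map_sum]
  simp [h.ff]

/-- Two actions agree. -/
theorem Acts.unique (h : HFam Q e f) {A : Matrix (Fin m) (Fin m) F} {g g' : V →ₗ[F] V} (hg : Acts Q e f A g)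
    (hg' : Acts Q e f A g') (x : V) : g x = g' x := by
  obtain ⟨z, hz⟩ : ∃ z, z = x - ((∑ i, polar Q (f i) x • e i) + ∑ i, polar Q (e i) x • f i) := ⟨_, rfl⟩
  have hz1 : ∀ i, polar Q (e i) z = 0 := fun i => by
    rw [hz, polar_sub_right, polar_add_right, h.polar_sum_f, h.polar_sum_ee, zero_add, sub_self]
  have hz2 : ∀ i, polar Q (f i) z = 0 := fun i => by
    rw [hz, polar_sub_right, polar_add_right, h.polar_sum_e, h.polar_sum_ff, add_zero, sub_self]
  have hx : x = z + ((∑ i, polar Q (f i) x • e i) + ∑ i, polar Q (e i) x • f i) := by rw [hz, sub_add_cancel]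
  rw [hx]
  simp only [map_add, map_sum, map_smul, hg.one, hg'.one, hg.two, hg'.two, hg.fix z hz1 hz2, hg'.fix z hz1 hz2]

theorem Acts.id' : Acts Q e f 1 LinearMap.id := by
  refine ⟨fun i => ?_, fun i => ?_, fun x _ _ => rfl⟩
  · rw [LinearMap.id_apply, Finset.sum_eq_single i (fun j _ hj => by simp [hj]) (by simp)]; simp
  · rw [LinearMap.id_apply, inv_one, Finset.sum_eq_single i (fun j _ hj => by simp [Ne.symm hj]) (by simp)]; simp

theorem Acts.comp' {A B : Matrix (Fin m) (Fin m) F} {g g' : V →ₗ[F] V} (hg : Acts Q e f A g)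
    (hg' : Acts Q e f B g') : Acts Q e f (A * B) (g ∘ₗ g') := by
  refine ⟨fun i => ?_, fun i => ?_, fun x h1 h2 => by rw [LinearMap.comp_apply, hg'.fix x h1 h2, hg.fix x h1 h2]⟩
  · rw [LinearMap.comp_apply, hg'.one, map_sum]
    simp only [map_smul, hg.one, Finset.smul_sum, smul_smul, Matrix.mul_apply, Finset.sum_smul]
    rw [Finset.sum_comm]
    exact Finset.sum_congr rfl fun j _ => Finset.sum_congr rfl fun k _ => by rw [mul_comm]
  · rw [LinearMap.comp_apply, hg'.two, map_sum, Matrix.mul_inv_rev]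
    simp only [map_smul, hg.two, Finset.smul_sum, smul_smul, Matrix.mul_apply, Finset.sum_smul]
    rw [Finset.sum_comm]

/-- A word for `A`: even, with value product in the class of `det A`. -/
def HasWord (Q : QuadraticForm F V) (e f : Fin m → V) (A : Matrix (Fin m) (Fin m) F) : Prop :=
  ∃ vs : List V, (∀ v ∈ vs, Q v ≠ 0) ∧ Even vs.length ∧ IsSquare (A.det * (vs.map fun v => Q v).prod) ∧
    Acts Q e f A ((prodRf Q vs).1 : V →ₗ[F] V)

theorem hasWord_one : HasWord Q e f 1 := ⟨[], by simp, ⟨0, rfl⟩, by simp, Acts.id'⟩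

theorem hasWord_mul {A B : Matrix (Fin m) (Fin m) F} (hA : HasWord Q e f A) (hB : HasWord Q e f B) :
    HasWord Q e f (A * B) := by
  obtain ⟨as, a1, a2, a3, a4⟩ := hA
  obtain ⟨bs, b1, b2, b3, b4⟩ := hB
  refine ⟨as ++ bs, fun v hv => (List.mem_append.1 hv).elim (a1 v) (b1 v), by rw [List.length_append]; exact a2.add b2,
    ?_, ?_⟩
  · rw [Matrix.det_mul, List.map_append, List.prod_append, mul_mul_mul_comm]
    exact a3.mul b3
  · rw [prodRf_append]
    exact a4.comp' b4

theorem hasWord_transvection (hQ : PND Q) (h : Nat.card F ≠ 2 ∨ finrank F V ≠ 4) (hf : HFam Q e f)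
    (i j : Fin m) (hij : i ≠ j) (c : F) : HasWord Q e f (Matrix.transvection i j c) := by
  have hv : polar Q (e i) (-c • f j) = 0 := by rw [polar_smul_right, hf.ef, if_neg hij, smul_zero]
  obtain ⟨vs, h1, h2, h3, h4⟩ := siegel_list hQ h (hf.qe i) hv
  refine ⟨vs, h1, h3, by rw [Matrix.det_transvection_of_ne _ _ hij, one_mul]; exact h4, ?_⟩
  rw [h2]
  have hqv : Q (-c • f j) = 0 := by rw [QuadraticMap.map_smul, hf.qf, smul_zero]
  have happ : ∀ x, ((⟨siegel (hf.qe i) hv, siegel_mem (hf.qe i) hv⟩ : ↥(Iso Q)).1 : V →ₗ[F] V) x =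
      x + polar Q (e i) x • (-c • f j) + (c * polar Q (f j) x) • e i := fun x => by
    change siegel (hf.qe i) hv x = _
    rw [siegel_apply, hqv, polar_smul_left, smul_eq_mul]; module
  have hinv : (Matrix.transvection i j c)⁻¹ = Matrix.transvection i j (-c) :=
    Matrix.inv_eq_right_inv (by rw [Matrix.transvection_mul_transvection_same _ _ hij, add_neg_cancel,
      Matrix.transvection_zero])
  refine ⟨fun k => ?_, fun k => ?_, fun x hx hy => ?_⟩
  · rw [happ, hf.ee, hf.fe, zero_smul, add_zero]
    simp only [Matrix.transvection, Matrix.add_apply, add_smul, Finset.sum_add_distrib]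
    rw [Finset.sum_eq_single k (fun l _ hl => by simp [hl]) (by simp),
      Finset.sum_eq_single i (fun l _ hl => by simp [Matrix.single, Ne.symm hl]) (by simp)]
    rw [Matrix.one_apply_eq, one_smul]
    congr 2
    by_cases hk : j = k <;> simp [Matrix.single, hk]
  · rw [happ, hf.ef, hf.ff, mul_zero, zero_smul, add_zero, hinv]
    simp only [Matrix.transvection, Matrix.add_apply, add_smul, Finset.sum_add_distrib]
    rw [Finset.sum_eq_single k (fun l _ hl => by simp [Ne.symm hl]) (by simp),
      Finset.sum_eq_single j (fun l _ hl => by simp [Matrix.single, Ne.symm hl]) (by simp)]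
    rw [Matrix.one_apply_eq, one_smul, smul_smul]
    congr 2
    by_cases hk : i = k <;> simp [Matrix.single, hk]
  · rw [happ, hx, hy]; simp

theorem hasWord_diagonal_single (hf : HFam Q e f) (i : Fin m) {c : F} (hc : c ≠ 0) :
    HasWord Q e f (Matrix.diagonal (Function.update (1 : Fin m → F) i c)) := by
  obtain ⟨h1, h2, h3, h4, h5⟩ := pair_scale (hf.qe i) (hf.qf i) (by rw [hf.ef, if_pos rfl]) hc
  have hdet : (Matrix.diagonal (Function.update (1 : Fin m → F) i c)).det = c := by
    rw [Matrix.det_diagonal, Finset.prod_update_of_mem (Finset.mem_univ i)]; simp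
  have hinv : (Matrix.diagonal (Function.update (1 : Fin m → F) i c))⁻¹ =
      Matrix.diagonal (Function.update (1 : Fin m → F) i c⁻¹) := Matrix.inv_eq_right_inv (by
    rw [Matrix.diagonal_mul_diagonal, ← Matrix.diagonal_one]
    congr 1
    funext k
    rcases eq_or_ne k i with rfl | hk
    · simp [hc]
    · simp [hk])
  refine ⟨[e i - f i, e i - c • f i], by simp [h1, h2, hc], ⟨1, rfl⟩, ?_, fun k => ?_, fun k => ?_,
    fun x hx hy => h5 x (hx i) (hy i)⟩
  · simp only [List.map_cons, List.map_nil, List.prod_cons, List.prod_nil, mul_one, h1, h2, hdet]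
    rw [show c * (-1 * -c) = c * c by ring]
    exact IsSquare.mul_self c
  · change (prodRf Q [e i - f i, e i - c • f i]).1 (e k) = _
    rw [Finset.sum_eq_single k (fun l _ hl => by simp [hl]) (by simp), Matrix.diagonal_apply_eq]
    rcases eq_or_ne k i with rfl | hk
    · rw [h3, Function.update_self]
    · rw [h5 (e k) (hf.ee i k) (by rw [hf.fe, if_neg hk.symm]), Function.update_of_ne hk, Pi.one_apply, one_smul]
  · change (prodRf Q [e i - f i, e i - c • f i]).1 (f k) = _
    rw [hinv, Finset.sum_eq_single k (fun l _ hl => by simp [Ne.symm hl]) (by simp), Matrix.diagonal_apply_eq]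
    rcases eq_or_ne k i with rfl | hk
    · rw [h4, Function.update_self]
    · rw [h5 (f k) (by rw [hf.ef, if_neg hk.symm]) (hf.ff i k), Function.update_of_ne hk, Pi.one_apply, one_smul]

/-- Every invertible matrix has a word. -/
theorem hasWord_of_det (hQ : PND Q) (h : Nat.card F ≠ 2 ∨ finrank F V ≠ 4) (hf : HFam Q e f)
    (A : Matrix (Fin m) (Fin m) F) (hA : A.det ≠ 0) : HasWord Q e f A := by
  classical
  refine Matrix.diagonal_transvection_induction_of_det_ne_zero (HasWord Q e f) A hA (fun D hD => ?_)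
    (fun t => hasWord_transvection hQ h hf t.i t.j t.hij t.c) fun M N _ _ => hasWord_mul
  have hDi : ∀ i, D i ≠ 0 := fun i hi => hD (by
    rw [Matrix.det_diagonal]; exact Finset.prod_eq_zero (Finset.mem_univ i) hi)
  suffices H : ∀ s : Finset (Fin m), HasWord Q e f (Matrix.diagonal fun k => if k ∈ s then D k else 1) by
    simpa using H Finset.univ
  intro s
  induction s using Finset.induction_on with
  | empty => simpa using hasWord_one
  | @insert i s hi ih =>
    have e' : (Matrix.diagonal fun k => if k ∈ insert i s then D k else 1) =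
        Matrix.diagonal (Function.update (1 : Fin m → F) i (D i)) *
          Matrix.diagonal (fun k => if k ∈ s then D k else 1) := by
      rw [Matrix.diagonal_mul_diagonal]
      congr 1
      funext k
      rcases eq_or_ne k i with rfl | hk
      · simp [hi]
      · simp [hk]
    rw [e']
    exact hasWord_mul (hasWord_diagonal_single hf i (hDi i)) ih

/-- The swap of all pairs. -/
theorem swap_word (hf : HFam Q e f) (l : List (Fin m)) (hl : l.Nodup) (i : Fin m) :
    (prodRf Q (l.map fun k => e k - f k)).1 (e i) = (if i ∈ l then f i else e i) ∧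
      (prodRf Q (l.map fun k => e k - f k)).1 (f i) = if i ∈ l then e i else f i := by
  induction l with
  | nil => simp [prodRf_nil]
  | cons k l ih =>
    rw [List.nodup_cons] at hl
    obtain ⟨ih1, ih2⟩ := ih hl.2
    rw [List.map_cons, prodRf_cons]
    change refl Q (e k - f k) ((prodRf Q (l.map fun k => e k - f k)).1 (e i)) = _ ∧
      refl Q (e k - f k) ((prodRf Q (l.map fun k => e k - f k)).1 (f i)) = _
    have hq : Q (e k - f k) = -1 := by rw [map_sub_two, hf.qe, hf.qf, hf.ef, if_pos rfl]; ring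
    rw [ih1, ih2]
    rcases eq_or_ne i k with rfl | hik
    · simp only [if_neg hl.1, if_pos List.mem_cons_self, refl_apply, hq, polar_sub_left, hf.ee, hf.ff, hf.ef,
        hf.fe, if_true]
      constructor <;> match_scalars <;> norm_num
    · have hm : (i ∈ k :: l) ↔ i ∈ l := by simp [hik]
      simp only [hm]
      constructor <;> split_ifs <;> refine refl_fix ?_ <;>
        simp [polar_sub_left, hf.ee, hf.ff, hf.ef, hf.fe, hik.symm]

section Standard

variable {R : Type} [Fintype R] [DecidableEq R] {ι : Type} [Fintype ι] [DecidableEq ι]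
  (ε : ι ≃ (Fin m ⊕ Fin m) ⊕ R) (P : QuadraticForm F (R → F))

/-- The standard family. -/
theorem hfam_formOf : HFam (formOf m ε P) (fun i => bv ε (.inl (.inl i))) (fun i => bv ε (.inl (.inr i))) := by
  refine ⟨fun i => ?_, fun i => ?_, fun i j => ?_, fun i j => ?_, fun i j => ?_⟩ <;>
    simp [formOf_bv, formOf_polar_bv, OCount.gram]

theorem polar_bv_inl (x : ι → F) (i : Fin m) :
    polar (formOf m ε P) (bv ε (.inl (.inl i))) x = x (ε.symm (.inl (.inr i))) ∧
      polar (formOf m ε P) (bv ε (.inl (.inr i))) x = x (ε.symm (.inl (.inl i))) := by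
  have h0 : ∀ k : Fin m ⊕ Fin m,
      (fun r => (Pi.single (Sum.inl k) (1 : F) : (Fin m ⊕ Fin m) ⊕ R → F) (.inr r)) = 0 :=
    fun k => funext fun r => by simp
  constructor <;>
  · rw [formOf_polar, bv_eq, stdQ_polar, h0, polar_zero_left, add_zero]
    simp [Pi.single_apply]

/-- A diagonal matrix acting on the standard family. -/
theorem acts_diagonal (d : ι → F) (a : Fin m → F) (ha : ∀ i, a i ≠ 0)
    (h1 : ∀ i, d (ε.symm (.inl (.inl i))) = a i) (h2 : ∀ i, d (ε.symm (.inl (.inr i))) = (a i)⁻¹)
    (h3 : ∀ r, d (ε.symm (.inr r)) = 1) :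
    Acts (formOf m ε P) (fun i => bv ε (.inl (.inl i))) (fun i => bv ε (.inl (.inr i))) (Matrix.diagonal a)
      (Matrix.mulVecLin (Matrix.diagonal d)) := by
  have hinv : (Matrix.diagonal a)⁻¹ = Matrix.diagonal fun i => (a i)⁻¹ := Matrix.inv_eq_right_inv (by
    rw [Matrix.diagonal_mul_diagonal, ← Matrix.diagonal_one]
    congr 1; funext k; exact mul_inv_cancel₀ (ha k))
  have hb : ∀ k, Matrix.mulVecLin (Matrix.diagonal d) (bv ε k) = d (ε.symm k) • bv ε k := fun k => by
    funext l
    rw [Matrix.mulVecLin_apply, Matrix.mulVec_diagonal]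
    simp only [bv, Pi.smul_apply, smul_eq_mul, Pi.single_apply]
    split_ifs with h
    · rw [h]
    · simp
  refine ⟨fun i => ?_, fun i => ?_, fun x hx hy => ?_⟩
  · rw [hb, h1, Finset.sum_eq_single i (fun l _ hl => by simp [hl]) (by simp), Matrix.diagonal_apply_eq]
  · rw [hb, h2, hinv, Finset.sum_eq_single i (fun l _ hl => by simp [Ne.symm hl]) (by simp), Matrix.diagonal_apply_eq]
  · funext l
    rw [Matrix.mulVecLin_apply, Matrix.mulVec_diagonal]
    obtain ⟨k, rfl⟩ := ε.symm.surjective l
    rcases k with (i | i) | r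
    · rw [← (polar_bv_inl ε P x i).2, hy i, mul_zero]
    · rw [← (polar_bv_inl ε P x i).1, hx i, mul_zero]
    · rw [h3, one_mul]

end Standard

end Cfsg.Agent.Small.Orth
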