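import Cfsg.Agent.Lib.Small.Orth.Levi

/-!
# The standard forms and the coordinate maximal totally singular subspace
-/

set_option autoImplicit false
set_option linter.unusedSectionVars false

namespace Cfsg.Agent.Small.Orth

open Module QuadraticMap Matrix Cfsg.Agent.Classical Cfsg.Agent.Classical.OCount Cfsg.Agent.Classical.ORefl
  Cfsg.Agent.Classical.OOmega

variable (F : Type*) [Field F]

/-- The plus form as a quadratic form. -/
noncomputable abbrev qPlus (m : ℕ) : QuadraticForm F (Fin m ⊕ Fin m → F) :=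
  formOf m (Equiv.sumEmpty (Fin m ⊕ Fin m) Empty).symm (0 : QuadraticForm F (Empty → F))

theorem qPlus_pnd (m : ℕ) : PND (qPlus F m) := formOf_pnd pnd_empty

theorem card_plus {m : ℕ} (h : Nat.card F ≠ 2 ∨ m ≠ 2) : Nat.card F ≠ 2 ∨ Fintype.card (Fin m ⊕ Fin m) ≠ 4 :=
  h.imp_right fun h => by simp; omega

theorem card_plus' {m : ℕ} (h : Nat.card F ≠ 2 ∨ m ≠ 2) :
    Nat.card F ≠ 2 ∨ finrank F (Fin m ⊕ Fin m → F) ≠ 4 :=
  h.imp_right fun h => by simp [Module.finrank_fintype_fun_eq_card]; omega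

/-- The subspace `y = 0`. -/
abbrev zeroRight (m : ℕ) : Submodule F (Fin m ⊕ Fin m → F) :=
  LinearMap.ker (LinearMap.funLeft F F (Sum.inr : Fin m → Fin m ⊕ Fin m))

theorem mem_zeroRight {m : ℕ} (v : Fin m ⊕ Fin m → F) : v ∈ zeroRight F m ↔ ∀ i, v (Sum.inr i) = 0 := by
  rw [LinearMap.mem_ker, funext_iff]; rfl

theorem finrank_zeroRight (m : ℕ) : finrank F (zeroRight F m) = m := by
  have h := LinearMap.finrank_range_add_finrank_ker (LinearMap.funLeft F F (Sum.inr : Fin m → Fin m ⊕ Fin m))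
  rw [LinearMap.range_eq_top.2 (LinearMap.funLeft_surjective_of_injective _ _ _ Sum.inr_injective), finrank_top,
    Module.finrank_fintype_fun_eq_card, Module.finrank_fintype_fun_eq_card, Fintype.card_sum, Fintype.card_fin] at h
  exact Nat.add_left_cancel h

theorem zeroRight_singular {m : ℕ} : ∀ w ∈ zeroRight F m, qPlus F m w = 0 := fun w hw => by
  rw [coe_plus]
  rw [mem_zeroRight] at hw
  simp [Cfsg.quadFormPlus, hw]

/-- The parity criterion on the coordinate subspace. -/
theorem even_zeroRight {m : ℕ} (M : Matrix (Fin m ⊕ Fin m) (Fin m ⊕ Fin m) F)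
    (vs : List (Fin m ⊕ Fin m → F)) (hvs : ∀ v ∈ vs, qPlus F m v ≠ 0)
    (hM : ∀ x, M *ᵥ x = (prodRf (qPlus F m) vs).1 x) :
    Even (m - finrank F ↥(zeroRight F m ⊓ (zeroRight F m).map (Matrix.mulVecLin M))) ↔ Even vs.length := by
  rw [show Matrix.mulVecLin M = ((prodRf (qPlus F m) vs).1 : _ →ₗ[F] _) from
    LinearMap.ext fun x => by rw [Matrix.mulVecLin_apply, hM]; rfl]
  exact even_inter_iff (qPlus_pnd F m) (by simp [Module.finrank_fintype_fun_eq_card]; omega) (zeroRight_singular F)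
    (finrank_zeroRight F m) vs hvs

end Cfsg.Agent.Small.Orth
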