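import Cfsg.Prelude.Def_LieTypeDatum
import Cfsg.Agent.Lib.Small.Orth.Standard
import Cfsg.Agent.Lib.Classical.OrthPSimple

/-!
# Similitudes acting on `PΩ`

The homomorphism `rho` from the similitude group to the automorphism group of `PΩ`, the named
subgroups of the automorphism group as images, and the kernel.
-/

set_option autoImplicit false
set_option linter.unusedSectionVars false

namespace Cfsg.Agent.Small.Orth

open Matrix

/-- Automorphisms act on the derived group. -/
def derivedAut (G : Type*) [Group G] : MulAut G →* MulAut ↥(commutator G) where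
  toFun φ :=
    { toFun := fun x => ⟨φ x, by
        have h := Subgroup.mem_map_of_mem φ.toMonoidHom x.2
        rwa [Cfsg.Agent.Classical.OOmega.map_commutator_equiv φ] at h⟩
      invFun := fun x => ⟨φ.symm x, by
        have h := Subgroup.mem_map_of_mem φ.symm.toMonoidHom x.2
        rwa [Cfsg.Agent.Classical.OOmega.map_commutator_equiv φ.symm] at h⟩
      left_inv := fun x => Subtype.ext (φ.symm_apply_apply _)
      right_inv := fun x => Subtype.ext (φ.apply_symm_apply _)
      map_mul' := fun x y => Subtype.ext (map_mul φ _ _) }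
  map_one' := rfl
  map_mul' _ _ := rfl

/-- Automorphisms act on the central quotient. -/
def centerQuotAut (H : Type*) [Group H] : MulAut H →* MulAut (H ⧸ Subgroup.center H) where
  toFun φ := QuotientGroup.congr _ _ φ (by
    refine le_antisymm ?_ fun x hx => ⟨φ.symm x, (Subgroup.centerCongr φ.symm ⟨x, hx⟩).2, φ.apply_symm_apply x⟩
    rintro _ ⟨y, hy, rfl⟩
    exact (Subgroup.centerCongr φ ⟨y, hy⟩).2)
  map_one' := MulEquiv.ext fun x => by
    obtain ⟨x, rfl⟩ := QuotientGroup.mk_surjective x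
    rfl
  map_mul' φ ψ := MulEquiv.ext fun x => by
    obtain ⟨x, rfl⟩ := QuotientGroup.mk_surjective x
    rfl

/-- On a perfect group an automorphism that is the identity modulo the centre is the identity. -/
theorem eq_one_of_central {H : Type*} [Group H] (hperf : commutator H = ⊤) (φ : MulAut H)
    (h : ∀ s, φ s * s⁻¹ ∈ Subgroup.center H) : φ = 1 := by
  let δ : H →* Subgroup.center H := MonoidHom.mk' (fun s => ⟨φ s * s⁻¹, h s⟩) (fun s t => Subtype.ext (by
    show φ (s * t) * (s * t)⁻¹ = φ s * s⁻¹ * (φ t * t⁻¹)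
    rw [map_mul, _root_.mul_inv_rev, mul_assoc (φ s) s⁻¹, Subgroup.mem_center_iff.1 (h t) s⁻¹]
    group))
  letI : CommGroup (Subgroup.center H) :=
    { (inferInstance : Group (Subgroup.center H)) with
      mul_comm := fun a b => Subtype.ext (Subgroup.mem_center_iff.1 b.2 a) }
  have hk := Abelianization.commutator_subset_ker δ
  rw [hperf] at hk
  refine MulEquiv.ext fun s => ?_
  have h1 := congrArg Subtype.val (MonoidHom.mem_ker.1 (hk (Subgroup.mem_top s)))
  exact mul_inv_eq_one.1 h1

section Generic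

variable {F : Type*} [Field F] {ι : Type} [Fintype ι] [DecidableEq ι] {q : (ι → F) → F}

variable (q) in
/-- The similitude group. -/
abbrev GO : Subgroup (GL ι F) := Cfsg.Geo.quadSimilarityGroup (F := F) q

theorem isometry_le_GO : Cfsg.isometryGroup F q ≤ GO q := fun g hg =>
  ⟨1, fun v => by rw [Units.val_one, one_mul]; exact hg v v⟩

variable (q) in
/-- The isometries among the similitudes. -/
noncomputable def incl : ↥(Cfsg.isometryGroup F q) →* ↥(GO q) := Subgroup.inclusion isometry_le_GO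

theorem conj_isometry (g : ↥(GO q)) {s : GL ι F} (hs : s ∈ Cfsg.isometryGroup F q) :
    (g : GL ι F) * s * (g : GL ι F)⁻¹ ∈ Cfsg.isometryGroup F q := by
  obtain ⟨c, hc⟩ := g.2
  intro v _
  show q (((g : GL ι F) * s * (g : GL ι F)⁻¹ : GL ι F).1 *ᵥ v) = q v
  rw [Units.val_mul, Units.val_mul, ← Matrix.mulVec_mulVec, ← Matrix.mulVec_mulVec, hc,
    show q (s.1 *ᵥ ((g : GL ι F)⁻¹.1 *ᵥ v)) = q ((g : GL ι F)⁻¹.1 *ᵥ v) from hs _ v, ← hc, Matrix.mulVec_mulVec,
    ← Units.val_mul, mul_inv_cancel, Units.val_one, Matrix.one_mulVec]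

variable (q) in
/-- Conjugation on the isometry group. -/
noncomputable def isoConj : ↥(GO q) →* MulAut ↥(Cfsg.isometryGroup F q) where
  toFun g :=
    { toFun := fun s => ⟨(g : GL ι F) * s * (g : GL ι F)⁻¹, conj_isometry g s.2⟩
      invFun := fun s => ⟨(g : GL ι F)⁻¹ * s * (g : GL ι F), by
        simpa using conj_isometry g⁻¹ s.2⟩
      left_inv := fun s => Subtype.ext (by simp [mul_assoc])
      right_inv := fun s => Subtype.ext (by simp [mul_assoc])
      map_mul' := fun s t => Subtype.ext (by simp [mul_assoc]) }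
  map_one' := MulEquiv.ext fun s => Subtype.ext (by simp)
  map_mul' g h := MulEquiv.ext fun s => Subtype.ext (by simp [mul_assoc])

variable (q) in
/-- The action on `PΩ`. -/
noncomputable def rho : ↥(GO q) →* MulAut (Cfsg.POmega F q) :=
  (centerQuotAut ↥(Cfsg.Omega F q)).comp ((derivedAut ↥(Cfsg.isometryGroup F q)).comp (isoConj q))

theorem rho_mk (g : ↥(GO q)) (s s' : ↥(Cfsg.Omega F q))
    (h : (((s' : ↥(Cfsg.isometryGroup F q)) : GL ι F)) = (g : GL ι F) * ((s : ↥(Cfsg.isometryGroup F q)) : GL ι F) * (g : GL ι F)⁻¹) :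
    rho q g (QuotientGroup.mk s) = QuotientGroup.mk s' :=
  congrArg QuotientGroup.mk (Subtype.ext (Subtype.ext h.symm))

/-- An induced automorphism is the image of the similitude. -/
theorem induced_iff (g : ↥(GO q)) (β : MulAut (Cfsg.POmega F q)) :
    Cfsg.IsInducedBySemilinearPOmega q (g : GL ι F) (RingEquiv.refl F) β ↔ β = rho q g := by
  constructor
  · intro h
    refine MulEquiv.ext fun x => ?_
    obtain ⟨s, rfl⟩ := QuotientGroup.mk_surjective x
    rw [rho_mk g s (derivedAut _ (isoConj q g) s) rfl]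
    refine h s _ ?_
    show ((g : GL ι F) * ((s : ↥(Cfsg.isometryGroup F q)) : GL ι F) * (g : GL ι F)⁻¹).1 = _
    rw [Units.val_mul, Units.val_mul]
    congr 1
  · rintro rfl s s' h
    refine rho_mk g s s' (Units.ext ?_)
    rw [h, Units.val_mul, Units.val_mul]
    congr 1

/-- The subgroup generated by the automorphisms induced by a subgroup of similitudes is its image. -/
theorem autSub_eq {P : GL ι F → Prop} (S : Subgroup ↥(GO q)) (hS : ∀ g : ↥(GO q), g ∈ S ↔ P (g : GL ι F))
    (hP : ∀ g, P g → g ∈ GO q) :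
    Cfsg.autSubgroupOf (fun β : MulAut (Cfsg.POmega F q) =>
      ∃ g : GL ι F, P g ∧ Cfsg.IsInducedBySemilinearPOmega q g (RingEquiv.refl F) β) = S.map (rho q) := by
  have h : {β : MulAut (Cfsg.POmega F q) | ∃ g : GL ι F, P g ∧
      Cfsg.IsInducedBySemilinearPOmega q g (RingEquiv.refl F) β} = (S.map (rho q) : Set _) := by
    ext β
    constructor
    · rintro ⟨g, hg, hβ⟩
      exact ⟨⟨g, hP g hg⟩, (hS _).2 hg, ((induced_iff ⟨g, hP g hg⟩ β).1 hβ).symm⟩
    · rintro ⟨g, hg, rfl⟩
      exact ⟨g, (hS g).1 hg, (induced_iff g _).2 rfl⟩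
  rw [Cfsg.autSubgroupOf, h, Subgroup.closure_eq]

theorem pgoAut_eq : Cfsg.pgoAut F q = (rho q).range := by
  rw [MonoidHom.range_eq_map]
  exact autSub_eq (P := fun g => g ∈ GO q) ⊤ (fun g => ⟨fun _ => g.2, fun _ => Subgroup.mem_top g⟩) fun g hg => hg

variable (q) in
/-- The special isometries as similitudes. -/
abbrev specialSub : Subgroup ↥(GO q) := (Cfsg.specialIsometryGL F q).subgroupOf (GO q)

theorem psoAut_eq : Cfsg.psoAut F q = (specialSub q).map (rho q) :=
  autSub_eq (specialSub q) (fun _ => Iff.rfl) fun _ hg => isometry_le_GO hg.1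

variable (q) in
/-- `Ω` as similitudes. -/
noncomputable abbrev omegaSub : Subgroup ↥(GO q) := (Cfsg.Omega F q).map (incl q)

theorem rho_omega (s : ↥(Cfsg.Omega F q)) : rho q (incl q s) = MulAut.conj (QuotientGroup.mk s) := by
  refine MulEquiv.ext fun x => ?_
  obtain ⟨t, rfl⟩ := QuotientGroup.mk_surjective x
  rw [rho_mk (incl q s) t (s * t * s⁻¹) rfl, MulAut.conj_apply]
  rfl

theorem inn_eq : Cfsg.Inn (Cfsg.POmega F q) = (omegaSub q).map (rho q) := by
  refine le_antisymm ?_ ?_
  · rintro _ ⟨x, rfl⟩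
    obtain ⟨s, rfl⟩ := QuotientGroup.mk_surjective x
    exact ⟨incl q s, ⟨s, s.2, rfl⟩, rho_omega s⟩
  · rintro _ ⟨_, ⟨s, hs, rfl⟩, rfl⟩
    exact ⟨QuotientGroup.mk ⟨s, hs⟩, (rho_omega ⟨s, hs⟩).symm⟩

variable (q) in
/-- The scalars among the similitudes. -/
abbrev scalarSub : Subgroup ↥(GO q) := (Cfsg.Geo.scalars ι F).subgroupOf (GO q)

theorem scalarSub_le_ker : scalarSub q ≤ (rho q).ker := fun g hg => by
  obtain ⟨c, hc⟩ := (Cfsg.Geo.mem_scalars_iff _).1 hg
  refine MonoidHom.mem_ker.2 (MulEquiv.ext fun x => ?_)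
  obtain ⟨s, rfl⟩ := QuotientGroup.mk_surjective x
  refine rho_mk g s s ?_
  rw [eq_mul_inv_iff_mul_eq]
  refine Units.ext ?_
  simp only [Subgroup.coe_subtype] at hc
  rw [Units.val_mul, Units.val_mul, hc]
  simp

/-- If only scalars centralise the perfect group `Ω`, the kernel consists of the scalars. -/
theorem ker_rho (hperf : ⁅Cfsg.Omega F q, Cfsg.Omega F q⁆ = Cfsg.Omega F q)
    (hcent : ∀ g : ↥(GO q), (∀ s : ↥(Cfsg.Omega F q),
      (g : GL ι F) * ((s : ↥(Cfsg.isometryGroup F q)) : GL ι F) = ((s : ↥(Cfsg.isometryGroup F q)) : GL ι F) * g) →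
        g ∈ scalarSub q) :
    (rho q).ker = scalarSub q := by
  refine le_antisymm (fun g hg => hcent g fun s => ?_) scalarSub_le_ker
  have hperf' : commutator ↥(Cfsg.Omega F q) = ⊤ := by
    apply Subgroup.map_injective (Cfsg.Omega F q).subtype_injective
    rw [commutator_def, Subgroup.map_commutator, ← MonoidHom.range_eq_map, Subgroup.range_subtype, hperf]
  set φ := derivedAut _ (isoConj q g) with hφ
  have h : φ = 1 := eq_one_of_central hperf' φ fun t => by
    have h1 := congrArg (fun a : MulAut (Cfsg.POmega F q) => a (QuotientGroup.mk t)) (MonoidHom.mem_ker.1 hg)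
    have h2 : (QuotientGroup.mk (φ t) : Cfsg.POmega F q) = QuotientGroup.mk t := h1
    rw [← QuotientGroup.eq_one_iff, QuotientGroup.mk_mul, QuotientGroup.mk_inv, h2, mul_inv_cancel]
  have h3 := congrArg (fun a : MulAut ↥(Cfsg.Omega F q) =>
    (((a s : ↥(Cfsg.Omega F q)) : ↥(Cfsg.isometryGroup F q)) : GL ι F)) h
  have h4 : (g : GL ι F) * ((s : ↥(Cfsg.isometryGroup F q)) : GL ι F) * (g : GL ι F)⁻¹ =
      ((s : ↥(Cfsg.isometryGroup F q)) : GL ι F) := h3
  exact mul_inv_eq_iff_eq_mul.1 h4

end Generic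

section Centraliser

open Module QuadraticMap Cfsg.Agent.Classical Cfsg.Agent.Classical.OCount Cfsg.Agent.Classical.ORefl
  Cfsg.Agent.Classical.OOmega

variable {F : Type*} [Field F] {V : Type*} [AddCommGroup V] [Module F V] [FiniteDimensional F V]
  {Q : QuadraticForm F V} {m : ℕ} {e f : Fin m → V}

/-- A linear map commuting with the Siegel transformations is a scalar. -/
theorem scalar_of_commute (hf : HFam Q e f) (hm : 3 ≤ m) (g : V →ₗ[F] V)
    (hg : ∀ (a v : V) (ha : Q a = 0) (hv : polar Q a v = 0), ∀ x, g (siegel ha hv x) = siegel ha hv (g x)) :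
    ∃ d : F, ∀ x, g x = d • x := by
  have third : ∀ i j : Fin m, ∃ k, k ≠ i ∧ k ≠ j := by
    intro i j
    have hc : ({i, j} : Finset (Fin m)) ≠ Finset.univ := fun h => by
      have := Finset.card_le_two (a := i) (b := j)
      rw [h, Finset.card_univ, Fintype.card_fin] at this
      omega
    by_contra hk
    push Not at hk
    exact hc (Finset.eq_univ_of_forall fun k => by
      rw [Finset.mem_insert, Finset.mem_singleton]; exact Classical.or_iff_not_imp_left.2 (hk k))
  -- two orthogonal singular vectors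
  have hpair : ∀ a b : V, ∀ (_ : Q a = 0) (_ : Q b = 0) (_ : polar Q a b = 0), ∀ w, polar Q a w = 0 →
      polar Q b w = 1 → g a = polar Q b (g w) • a - polar Q a (g w) • b := by
    intro a b ha hb hab w haw hbw
    have h := hg a b ha hab w
    rw [siegel_apply, siegel_apply, haw, hbw, hb] at h
    simp only [zero_mul, zero_smul, add_zero, one_smul, map_sub] at h
    linear_combination (norm := module) -h
  have hline : ∀ i, (∃ c : F, g (e i) = c • e i) ∧ ∃ d : F, g (f i) = d • f i := by
    intro i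
    obtain ⟨j, hji, -⟩ := third i i
    obtain ⟨k, hki, hkj⟩ := third i j
    constructor
    · have h1 := hpair (e i) (e j) (hf.qe i) (hf.qe j) (hf.ee i j) (f j) (by rw [hf.ef, if_neg hji.symm])
        (by rw [hf.ef, if_pos rfl])
      have h2 := hpair (e i) (e k) (hf.qe i) (hf.qe k) (hf.ee i k) (f k) (by rw [hf.ef, if_neg hki.symm])
        (by rw [hf.ef, if_pos rfl])
      have h3 := congrArg (polar Q (f j)) (h1.symm.trans h2)
      simp only [polar_sub_right, polar_smul_right, hf.fe, if_neg hji, if_neg hkj.symm, if_true, smul_eq_mul,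
        mul_zero, mul_one, sub_zero, zero_sub, neg_eq_zero] at h3
      exact ⟨polar Q (e j) (g (f j)), by rw [h1, h3, zero_smul, sub_zero]⟩
    · have h1 := hpair (f i) (e j) (hf.qf i) (hf.qe j) (by rw [hf.fe, if_neg hji.symm]) (f j) (hf.ff i j)
        (by rw [hf.ef, if_pos rfl])
      have h2 := hpair (f i) (e k) (hf.qf i) (hf.qe k) (by rw [hf.fe, if_neg hki.symm]) (f k) (hf.ff i k)
        (by rw [hf.ef, if_pos rfl])
      have h3 := congrArg (polar Q (f j)) (h1.symm.trans h2)
      simp only [polar_sub_right, polar_smul_right, hf.fe, hf.ff, if_neg hkj.symm, if_true, smul_eq_mul,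
        mul_zero, mul_one, sub_zero, zero_sub, neg_eq_zero] at h3
      exact ⟨polar Q (e j) (g (f j)), by rw [h1, h3, zero_smul, sub_zero]⟩
  choose hc hd using hline
  choose c hc using hc
  choose d hd using hd
  have hne : ∀ i, e i ≠ 0 ∧ f i ≠ 0 := fun i => by
    have h := hf.ef i i
    rw [if_pos rfl] at h
    exact ⟨fun h0 => by rw [h0, polar_zero_left] at h; exact zero_ne_one h,
      fun h0 => by rw [h0, polar_zero_right] at h; exact zero_ne_one h⟩
  have hcd : ∀ i j, i ≠ j → c j = d i ∧ d j = d i := by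
    intro i j hij
    constructor
    · have h1 := hpair (e j) (e i) (hf.qe j) (hf.qe i) (hf.ee j i) (f i) (by rw [hf.ef, if_neg hij.symm])
        (by rw [hf.ef, if_pos rfl])
      rw [hd, polar_smul_right, polar_smul_right, hf.ef i i, hf.ef j i, if_pos rfl, if_neg hij.symm, smul_zero,
        zero_smul, sub_zero, smul_eq_mul, mul_one, hc] at h1
      exact smul_left_injective F (hne j).1 h1
    · have h1 := hpair (f j) (e i) (hf.qf j) (hf.qe i) (by rw [hf.fe, if_neg hij.symm]) (f i) (hf.ff j i)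
        (by rw [hf.ef, if_pos rfl])
      rw [hd i, polar_smul_right, polar_smul_right, hf.ef i i, hf.ff j i, if_pos rfl, smul_zero, zero_smul, sub_zero,
        smul_eq_mul, mul_one, hd] at h1
      exact smul_left_injective F (hne j).2 h1
  obtain ⟨i₀⟩ : Nonempty (Fin m) := ⟨⟨0, by omega⟩⟩
  have hall : ∀ i, c i = d i₀ ∧ d i = d i₀ := by
    intro i
    obtain ⟨k, hki, hk0⟩ := third i i₀
    have hk := (hcd i₀ k hk0.symm).2
    exact ⟨((hcd k i hki).1).trans hk, ((hcd k i hki).2).trans hk⟩
  refine ⟨d i₀, fun x => ?_⟩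
  have hz : ∀ z, (∀ i, polar Q (e i) z = 0) → (∀ i, polar Q (f i) z = 0) → g z = d i₀ • z := by
    intro z hz1 hz2
    have h := hg (e i₀) z (hf.qe i₀) (hz1 i₀) (f i₀)
    rw [siegel_apply, siegel_apply, hd, polar_smul_right, polar_smul_right, hf.ef, if_pos rfl, polar_comm Q z (f i₀),
      hz2, map_sub, map_add, hd, map_smul, map_smul, hc, (hall i₀).1] at h
    simp only [smul_eq_mul, mul_one, mul_zero, zero_add, one_smul] at h
    linear_combination (norm := module) h
  obtain ⟨z, hzdef⟩ : ∃ z, z = x - ((∑ i, polar Q (f i) x • e i) + ∑ i, polar Q (e i) x • f i) := ⟨_, rfl⟩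
  have hz1 : ∀ i, polar Q (e i) z = 0 := fun i => by
    rw [hzdef, polar_sub_right, polar_add_right, hf.polar_sum_f, hf.polar_sum_ee, zero_add, sub_self]
  have hz2 : ∀ i, polar Q (f i) z = 0 := fun i => by
    rw [hzdef, polar_sub_right, polar_add_right, hf.polar_sum_e, hf.polar_sum_ff, add_zero, sub_self]
  have hx : x = z + ((∑ i, polar Q (f i) x • e i) + ∑ i, polar Q (e i) x • f i) := by rw [hzdef, sub_add_cancel]
  rw [hx]
  simp only [map_add, map_sum, map_smul, hc, hd, (hall _).1, (hall _).2, hz z hz1 hz2, smul_add, Finset.smul_sum,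
    smul_comm (d i₀)]

end Centraliser

section Standard

open Module QuadraticMap Cfsg.Agent.Classical Cfsg.Agent.Classical.OCount Cfsg.Agent.Classical.ORefl
  Cfsg.Agent.Classical.OOmega

variable {F : Type*} [Field F] [Finite F] {R : Type} [Fintype R] [DecidableEq R] {ι : Type} [Fintype ι]
  [DecidableEq ι] {m : ℕ} {ε : ι ≃ (Fin m ⊕ Fin m) ⊕ R} {P : QuadraticForm F (R → F)} {q : (ι → F) → F}

/-- The kernel of the action for a standard form with at least three pairs. -/
theorem ker_rho_standard (hq : ⇑(formOf m ε P) = q) (hP : PND P) (hm : 3 ≤ m) :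
    (rho q).ker = scalarSub q := by
  subst hq
  have hQ : PND (formOf m ε P) := formOf_pnd hP
  refine ker_rho ?_ fun g hg => ?_
  · rw [omega_eq_map, ← Subgroup.map_commutator, commutator_perfect hQ (stdPairs ε P hm)]
  · obtain ⟨d, hd⟩ := scalar_of_commute (hfam_formOf ε P) hm (Matrix.mulVecLin (g : GL ι F).1) fun a v ha hv x => by
      have hmem : toMat (formOf m ε P) ⟨siegel ha hv, siegel_mem ha hv⟩ ∈ Cfsg.Omega F ⇑(formOf m ε P) := by
        rw [omega_eq_map]
        exact ⟨_, el_mem hQ (stdPairs ε P hm) ha hv, rfl⟩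
      have h1 := congrArg (fun a : GL ι F => (a : Matrix ι ι F) *ᵥ x) (hg ⟨_, hmem⟩)
      simp only [Units.val_mul, ← Matrix.mulVec_mulVec, toMat_apply] at h1
      exact h1
    obtain ⟨i₀⟩ : Nonempty ι := ⟨ε.symm (.inl (.inl ⟨0, by omega⟩))⟩
    have hd0 : d ≠ 0 := fun h0 => by
      have h1 : (Pi.single i₀ 1 : ι → F) = 0 := by
        refine Matrix.mulVec_injective_of_isUnit (Units.isUnit (g : GL ι F)) ?_
        rw [Matrix.mulVec_zero]
        exact (hd _).trans (by rw [h0, zero_smul])
      simpa using congrFun h1 i₀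
    refine (Cfsg.Geo.mem_scalars_iff _).2 ⟨Units.mk0 d hd0, Matrix.ext_of_mulVec_single fun i => ?_⟩
    rw [Matrix.smul_mulVec, Matrix.one_mulVec]
    exact hd _

end Standard

end Cfsg.Agent.Small.Orth
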