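import Cfsg.Agent.Lib.Small.Orth.SemisimpleTorus
import Cfsg.Agent.Lib.Small.OrthAut.SignConj

/-!
# Classes of semisimple elements of odd order in the automorphism group
-/

set_option autoImplicit false
set_option linter.unusedSectionVars false
set_option linter.style.haveILetI false

namespace Cfsg.Agent.Small.Orth

open Module QuadraticMap Matrix Cfsg.Agent.Classical Cfsg.Agent.Classical.OCount Cfsg.Agent.Classical.ORefl
  Cfsg.Agent.Classical.OOmega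

variable {F : Type*} [Field F] [Finite F] {ι : Type} [Fintype ι] [DecidableEq ι]
  {Q : QuadraticForm F (ι → F)} {N : ℕ}

/-- An element of odd prime order of the similitude image comes from an isometry of the same order. -/
theorem SimSetup.exists_lift (S : SimSetup Q N) (x : MulAut (Cfsg.POmega F ⇑Q)) (hx : x ∈ (rho ⇑Q).range) {r : ℕ}
    (hr : r.Prime) (hro : Odd r) (hxr : orderOf x = r) :
    ∃ s : ↥(Cfsg.isometryGroup F ⇑Q), x = rho ⇑Q (incl ⇑Q s) ∧ orderOf s = r := by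
  obtain ⟨g, rfl⟩ := hx
  haveI : ((omegaSub ⇑Q).map (rho ⇑Q)).Normal := inn_eq (q := ⇑Q) ▸ Cfsg.innNormal _
  have hsq : ∀ s ∈ specialSub ⇑Q, rho ⇑Q (s * s) ∈ (omegaSub ⇑Q).map (rho ⇑Q) := by
    intro s hs
    obtain ⟨s1, s2⟩ := (S.mem_special s).1 hs
    obtain ⟨k, rfl⟩ : ∃ k, s = incl ⇑Q k := ⟨⟨(s : GL ι F), fun v _ => by
        show Q ((s : GL ι F).1 *ᵥ v) = Q v
        rw [mult_spec, s1, Units.val_one, one_mul]⟩, rfl⟩
    obtain ⟨vs, hvs, hM⟩ := exists_list_mat rfl S.pnd S.gen k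
    refine ⟨_, ⟨k * k, (mem_omega rfl S.pnd (k * k) (vs ++ vs)
      (fun v hv => (List.mem_append.1 hv).elim (hvs v) (hvs v)) fun v => ?_).2 ⟨?_, ?_⟩, rfl⟩, by rw [← map_mul]⟩
    · rw [Subgroup.coe_mul, Units.val_mul, ← Matrix.mulVec_mulVec, hM, hM, prodRf_append]
      rfl
    · rw [List.length_append]; exact ⟨_, rfl⟩
    · rw [List.map_append, List.prod_append]; exact IsSquare.mul_self _
  have h4 : rho ⇑Q g ^ 4 ∈ (omegaSub ⇑Q).map (rho ⇑Q) := by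
    obtain ⟨s, hs, he⟩ := (S.rho_mem_special (g * g)).2
      ⟨by rw [map_mul]; exact Int.units_mul_self _, by rw [map_mul]; exact Int.units_mul_self _⟩
    rw [show rho ⇑Q g ^ 4 = rho ⇑Q (g * g) * rho ⇑Q (g * g) by rw [← pow_two, ← pow_two, map_pow, ← pow_mul], ← he, ← map_mul]
    exact hsq s hs
  obtain ⟨k, hk⟩ : ∃ k, 4 * k % r = 1 := by
    have hco : Nat.Coprime 4 r := by
      rw [show 4 = 2 ^ 2 by rfl]
      exact Nat.Coprime.pow_left _ (Nat.coprime_two_left.2 hro)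
    obtain ⟨k, -, hk⟩ := Nat.exists_mul_mod_eq_one_of_coprime hco hr.one_lt
    exact ⟨k, hk⟩
  have hxk : rho ⇑Q g = (rho ⇑Q g ^ 4) ^ k := by
    rw [← pow_mul, pow_eq_pow_mod (4 * k) (show rho ⇑Q g ^ r = 1 by rw [← hxr]; exact pow_orderOf_eq_one _), hk,
      pow_one]
  obtain ⟨_, ⟨s₀, -, rfl⟩, hs₀⟩ :=
    (show rho ⇑Q g ∈ (omegaSub ⇑Q).map (rho ⇑Q) by rw [hxk]; exact pow_mem h4 k)
  have hker : incl ⇑Q (s₀ ^ r) ∈ (rho ⇑Q).ker := by
    rw [MonoidHom.mem_ker, map_pow, map_pow, hs₀, ← hxr]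
    exact pow_orderOf_eq_one _
  have hker' := hker
  rw [S.hker] at hker'
  obtain ⟨c, hc⟩ := (Cfsg.Geo.mem_scalars_iff _).1 hker'
  obtain ⟨v, hv⟩ := S.exists_nz
  have hc' : (s₀ ^ r).1.1 = (c : F) • (1 : Matrix ι ι F) := hc
  have hcc : (c : F) * c = 1 := by
    have h1 : Q ((s₀ ^ r).1.1 *ᵥ v) = Q v := (s₀ ^ r).2 v v
    rw [hc', Matrix.smul_mulVec, Matrix.one_mulVec, QuadraticMap.map_smul] at h1
    exact mul_right_cancel₀ hv (h1.trans (one_mul _).symm)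
  have hsq' : s₀ ^ r * s₀ ^ r = 1 := Subtype.ext (Units.ext (by
    rw [Subgroup.coe_mul, Units.val_mul, hc', Matrix.smul_mul, Matrix.one_mul, smul_smul, hcc, one_smul]
    rfl))
  have hsx : rho ⇑Q (incl ⇑Q (s₀ * s₀ ^ r)) = rho ⇑Q g := by
    rw [map_mul, map_mul, MonoidHom.mem_ker.1 hker, mul_one, hs₀]
  refine ⟨s₀ * s₀ ^ r, hsx.symm, ?_⟩
  haveI := Fact.mk hr
  refine orderOf_eq_prime ?_ fun h => ?_
  · obtain ⟨j, hj⟩ := hro
    rw [((Commute.refl s₀).pow_right r).mul_pow, show (s₀ ^ r) ^ r = (s₀ ^ r * s₀ ^ r) ^ j * s₀ ^ r by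
      conv_lhs => arg 2; rw [hj]
      rw [pow_succ, pow_mul, pow_two], hsq', one_pow, one_mul, hsq']
  · rw [h, map_one, map_one] at hsx
    rw [← hsx, orderOf_one] at hxr
    exact hr.ne_one hxr.symm

/-- Conjugating by a similitude can be achieved by an isometry. -/
theorem exists_iso_conj (hQ : PND Q) {p : ℕ} [Fact p.Prime] [CharP F p] {s : ↥(Cfsg.isometryGroup F ⇑Q)}
    (hco : (orderOf s).Coprime p) (hodd : Odd (orderOf s)) (g : ↥(GO ⇑Q)) :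
    ∃ h : ↥(Cfsg.isometryGroup F ⇑Q), isoConj ⇑Q g s = h * s * h⁻¹ := by
  obtain ⟨h, hh⟩ := isConj_iff.1 (OrthogonalSemisimple.conj_of_similar (nondeg hQ) p s (isoConj ⇑Q g s) hco hodd
    (g : GL ι F).1 ((Matrix.isUnit_iff_isUnit_det _).1 (Units.isUnit _)) (by
      show (g : GL ι F).1 * s.1.1 = ((g : GL ι F) * s.1 * (g : GL ι F)⁻¹).1 * (g : GL ι F).1
      rw [← Units.val_mul, ← Units.val_mul, inv_mul_cancel_right]))
  exact ⟨h, hh.symm⟩

variable {p : ℕ} [Fact p.Prime] [CharP F p] {s : ↥(Cfsg.isometryGroup F ⇑Q)}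

theorem oddIso_of_orderOf (hco : (orderOf s).Coprime p) (hodd : Odd (orderOf s)) :
    OddIso Q s.1.1 (orderOf s) := by
  refine ⟨fun v => s.2 v v, ?_, hodd, fun h => ?_⟩
  · rw [← Units.val_pow_eq_pow_val, ← SubgroupClass.coe_pow, pow_orderOf_eq_one, OneMemClass.coe_one, Units.val_one]
  · have hdvd := (CharP.cast_eq_zero_iff F p _).1 h
    exact (Fact.out : p.Prime).ne_one (Nat.dvd_one.1 (hco ▸ Nat.dvd_gcd hdvd dvd_rfl))

/-- A commuting similitude of non-square multiplier and positive sign. -/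
theorem SimSetup.exists_commute_sim (S : SimSetup Q N) (hco : (orderOf s).Coprime p) (hodd : Odd (orderOf s)) :
    ∃ g : ↥(GO ⇑Q), S.multSign g ≠ 1 ∧ S.delta g = 1 ∧ g * incl ⇑Q s = incl ⇑Q s * g := by
  obtain ⟨D, hD, hDd⟩ := S.exists_D
  obtain ⟨h, hh⟩ := exists_iso_conj S.pnd hco hodd D
  obtain ⟨g, hgdef⟩ : ∃ g, g = (incl ⇑Q h)⁻¹ * D := ⟨_, rfl⟩
  have hDs : D * incl ⇑Q s * D⁻¹ = incl ⇑Q (h * s * h⁻¹) := by rw [← hh]; exact Subtype.ext rfl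
  have hgc : g * incl ⇑Q s = incl ⇑Q s * g := by
    rw [hgdef, mul_assoc, mul_inv_eq_iff_eq_mul.1 hDs, map_mul, map_mul, map_inv]
    group
  have hgm : S.multSign g ≠ 1 := by
    rw [hgdef, map_mul, map_inv, (S.multSign_eq_one (incl ⇑Q h)).2 (by rw [S.mult_incl]; exact IsSquare.one), inv_one,
      one_mul]
    exact fun e => hD ((S.multSign_eq_one D).1 e)
  by_cases hd : S.delta g = 1
  · exact ⟨g, hgm, hd, hgc⟩
  have A := oddIso_of_orderOf hco hodd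
  let X : Submodule F (ι → F) := LinearMap.ker (Matrix.toLin' (s.1.1 - 1))
  have hX : ∀ v, v ∈ X ↔ s.1.1 *ᵥ v = v := fun v => by
    rw [LinearMap.mem_ker, Matrix.toLin'_apply, Matrix.sub_mulVec, Matrix.one_mulVec, sub_eq_zero]
  have hne : ∃ v ∈ X, v ≠ 0 := by
    by_contra hne
    push Not at hne
    refine hd ((S.delta_eq_one g).2 (A.det_of_commute S.pnd (fun v hv => hne v ((hX v).2 hv)) S.hcard
      (Units.ne_zero _) (mult_spec g) ?_))
    exact congrArg (fun u : ↥(GO ⇑Q) => (u : GL ι F).1) hgc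
  obtain ⟨hX2, hXp⟩ := A.two_le_fixed S.pnd S.h2 S.hcard hX hne
  obtain ⟨v, hv, hv0, -⟩ := exists_class hXp hX2 (one_ne_zero (α := F))
  obtain ⟨k, hk⟩ := exists_word_mat (Q := Q) rfl [v]
  refine ⟨incl ⇑Q k * g, ?_, ?_, ?_⟩
  · rw [map_mul, (S.multSign_eq_one (incl ⇑Q k)).2 (by rw [S.mult_incl]; exact IsSquare.one), one_mul]
    exact hgm
  · rw [map_mul, (Int.units_eq_one_or _).resolve_left hd,
      (Int.units_eq_one_or _).resolve_left (fun e => by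
        have := (S.delta_incl k [v] (by simpa using hv0) hk).1 e
        simp at this : S.delta (incl ⇑Q k) ≠ 1)]
    rfl
  · rw [mul_assoc, hgc, ← mul_assoc, ← mul_assoc]
    congr 1
    refine Subtype.ext (Units.ext (Matrix.ext_of_mulVec_single fun i => ?_))
    show (k.1.1 * s.1.1) *ᵥ _ = (s.1.1 * k.1.1) *ᵥ _
    rw [← Matrix.mulVec_mulVec, ← Matrix.mulVec_mulVec, hk, hk]
    exact A.refl_fixed ((hX v).1 hv) _

/-- A commuting special isometry of non-square spinor norm. -/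
theorem SimSetup.exists_commute_iso (S : SimSetup Q N) (hneg : NegMem Q) (hco : (orderOf s).Coprime p)
    (hodd : Odd (orderOf s)) :
    ∃ t : ↥(GO ⇑Q), S.multSign t = 1 ∧ S.delta t = 1 ∧ t ∉ innSub Q ∧ t * incl ⇑Q s = incl ⇑Q s * t := by
  have A := oddIso_of_orderOf hco hodd
  suffices h : ∃ vs : List (ι → F), (∀ v ∈ vs, Q v ≠ 0) ∧ Even vs.length ∧ ¬ IsSquare (vs.map fun v => Q v).prod ∧
      ∀ w, (prodRf Q vs).1 (s.1.1 *ᵥ w) = s.1.1 *ᵥ (prodRf Q vs).1 w by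
    obtain ⟨vs, hvs, hev, hns, hc⟩ := h
    obtain ⟨k, hk⟩ := exists_word_mat (Q := Q) rfl vs
    refine ⟨incl ⇑Q k, (S.multSign_eq_one _).2 (by rw [S.mult_incl]; exact IsSquare.one),
      (S.delta_incl k vs hvs hk).2 hev, fun hin => hns ?_, ?_⟩
    · rw [Subgroup.mem_comap, rho_incl_mem_of_neg S hneg, mem_omega rfl S.pnd k vs hvs hk] at hin
      exact hin.2
    · refine Subtype.ext (Units.ext (Matrix.ext_of_mulVec_single fun i => ?_))
      show (k.1.1 * s.1.1) *ᵥ _ = (s.1.1 * k.1.1) *ᵥ _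
      rw [← Matrix.mulVec_mulVec, ← Matrix.mulVec_mulVec, hk, hk, hc]
  let X : Submodule F (ι → F) := LinearMap.ker (Matrix.toLin' (s.1.1 - 1))
  have hX : ∀ v, v ∈ X ↔ s.1.1 *ᵥ v = v := fun v => by
    rw [LinearMap.mem_ker, Matrix.toLin'_apply, Matrix.sub_mulVec, Matrix.one_mulVec, sub_eq_zero]
  by_cases hne : ∃ v ∈ X, v ≠ 0
  · obtain ⟨hX2, hXp⟩ := A.two_le_fixed S.pnd S.h2 S.hcard hX hne
    obtain ⟨ν, hν⟩ := S.exists_nonsquare
    obtain ⟨v, hv, hv0, hvs⟩ := exists_class hXp hX2 (one_ne_zero (α := F))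
    obtain ⟨w, hw, hw0, hws⟩ := exists_class hXp hX2 ν.ne_zero
    refine ⟨[v, w], by simp [hv0, hw0], ⟨1, rfl⟩, fun h => hν ?_, fun u => ?_⟩
    · simp only [List.map_cons, List.map_nil, List.prod_cons, List.prod_nil, mul_one] at h
      rw [one_mul] at hvs
      exact (isSquare_mul_iff (((isSquare_iff_mul S.h2 hv0 hw0).1 h).1 hvs) hw0).1 hws
    · show refl Q v (refl Q w (s.1.1 *ᵥ u)) = s.1.1 *ᵥ refl Q v (refl Q w u)
      rw [A.refl_fixed ((hX w).1 hw), A.refl_fixed ((hX v).1 hv)]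
  · push Not at hne
    exact A.exists_word S.pnd S.h2 (fun v hv => hne v ((hX v).2 hv)) (by have := S.hcard; have := S.hN; omega)

/-- The centraliser meets every class of the inner-diagonal group modulo the inner automorphisms. -/
theorem SimSetup.exists_centralising (S : SimSetup Q N) (hco : (orderOf s).Coprime p) (hodd : Odd (orderOf s))
    (g : ↥(GO ⇑Q)) (hg : S.delta g = 1) :
    ∃ c : ↥(GO ⇑Q), c * incl ⇑Q s = incl ⇑Q s * c ∧ g * c⁻¹ ∈ innSub Q := by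
  obtain ⟨g₀, hm₀, hd₀, hc₀⟩ := S.exists_commute_sim hco hodd
  obtain ⟨c₁, hc₁, hs₁, hd₁⟩ : ∃ c₁ : ↥(GO ⇑Q), c₁ * incl ⇑Q s = incl ⇑Q s * c₁ ∧
      S.multSign (g * c₁⁻¹) = 1 ∧ S.delta (g * c₁⁻¹) = 1 := by
    by_cases h : S.multSign g = 1
    · exact ⟨1, by rw [one_mul, mul_one], by rw [inv_one, mul_one]; exact h, by rw [inv_one, mul_one]; exact hg⟩
    · refine ⟨g₀, hc₀, ?_, by rw [map_mul, map_inv, hg, hd₀, inv_one, one_mul]⟩
      rw [map_mul, map_inv, (Int.units_eq_one_or _).resolve_left h, (Int.units_eq_one_or _).resolve_left hm₀,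
        mul_inv_cancel]
  by_cases hin : g * c₁⁻¹ ∈ innSub Q
  · exact ⟨c₁, hc₁, hin⟩
  by_cases hneg : NegMem Q
  swap
  · refine absurd ?_ hin
    rw [Subgroup.mem_comap, ← S.special_eq_inn hneg, S.rho_mem_special]
    exact ⟨hs₁, hd₁⟩
  obtain ⟨D, hD, -⟩ := S.exists_D
  obtain ⟨a, b, fr⟩ := S.exists_frame hneg D hD
  obtain ⟨t, t1, t2, t3, t4⟩ := S.exists_commute_iso hneg hco hodd
  refine ⟨t * c₁, ?_, ?_⟩
  · rw [mul_assoc, hc₁, ← mul_assoc, t4, mul_assoc]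
  have e1 := (fr.even_class _ hs₁ hd₁).resolve_left fun h => hin ((QuotientGroup.eq_one_iff _).1 h)
  have e2 := (fr.even_class t t1 t2).resolve_left fun h => t3 ((QuotientGroup.eq_one_iff _).1 h)
  rw [← QuotientGroup.eq_one_iff, _root_.mul_inv_rev, ← mul_assoc, QuotientGroup.mk_mul, e1, QuotientGroup.mk_inv, e2,
    mul_inv_cancel]

/-- The four conjugacy relations of a semisimple element of odd order. -/
theorem SimSetup.semisimple_classes (S : SimSetup Q N) (hr : (orderOf s).Prime) (hodd : Odd (orderOf s))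
    (hrp : orderOf s ≠ p) :
    (∀ y : MulAut (Cfsg.POmega F ⇑Q),
      (Cfsg.IsConjUnder (Cfsg.Inn (Cfsg.POmega F ⇑Q)) (rho ⇑Q (incl ⇑Q s)) y ↔
        Cfsg.IsConjUnder (S.delta.ker.map (rho ⇑Q)) (rho ⇑Q (incl ⇑Q s)) y) ∧
      (Cfsg.IsConjUnder (Cfsg.psoAut F ⇑Q) (rho ⇑Q (incl ⇑Q s)) y ↔
        Cfsg.IsConjUnder (S.delta.ker.map (rho ⇑Q)) (rho ⇑Q (incl ⇑Q s)) y)) ∧
    ∀ y : MulAut (Cfsg.POmega F ⇑Q),
      (Cfsg.IsConjUnder (Cfsg.poAut F ⇑Q) (rho ⇑Q (incl ⇑Q s)) y ↔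
        Cfsg.IsConjUnder (Cfsg.pgoAut F ⇑Q) (rho ⇑Q (incl ⇑Q s)) y) := by
  have hco : (orderOf s).Coprime p := (Nat.coprime_primes hr Fact.out).2 hrp
  have hInn : Cfsg.Inn (Cfsg.POmega F ⇑Q) ≤ Cfsg.psoAut F ⇑Q := by
    rw [inn_eq, psoAut_eq]
    exact Subgroup.map_mono S.omega_le_special
  have hPso : Cfsg.psoAut F ⇑Q ≤ S.delta.ker.map (rho ⇑Q) := by
    rw [psoAut_eq]
    exact Subgroup.map_mono fun z hz => MonoidHom.mem_ker.2 ((S.mem_special z).1 hz).2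
  have hback : ∀ y, Cfsg.IsConjUnder (S.delta.ker.map (rho ⇑Q)) (rho ⇑Q (incl ⇑Q s)) y →
      Cfsg.IsConjUnder (Cfsg.Inn (Cfsg.POmega F ⇑Q)) (rho ⇑Q (incl ⇑Q s)) y := by
    rintro _ ⟨_, ⟨g, hg, rfl⟩, rfl⟩
    obtain ⟨c, hc, hin⟩ := S.exists_centralising hco hodd g (MonoidHom.mem_ker.1 hg)
    refine ⟨rho ⇑Q (g * c⁻¹), by rw [inn_eq]; exact hin, ?_⟩
    rw [← map_inv, ← map_inv, ← map_mul, ← map_mul, ← map_mul, ← map_mul]
    congr 1
    have hci : c⁻¹ * incl ⇑Q s = incl ⇑Q s * c⁻¹ :=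
      (show Commute c (incl ⇑Q s) from hc).inv_left.eq
    rw [_root_.mul_inv_rev, inv_inv, mul_assoc g c⁻¹, hci]
    group
  have hmono : ∀ {H K : Subgroup (MulAut (Cfsg.POmega F ⇑Q))}, H ≤ K → ∀ y,
      Cfsg.IsConjUnder H (rho ⇑Q (incl ⇑Q s)) y → Cfsg.IsConjUnder K (rho ⇑Q (incl ⇑Q s)) y :=
    fun hle y ⟨h, hh, e⟩ => ⟨h, hle hh, e⟩
  refine ⟨fun y => ⟨⟨hmono (hInn.trans hPso) y, hback y⟩, ⟨hmono hPso y, fun h => hmono hInn y (hback y h)⟩⟩,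
    fun y => ⟨hmono ?_ y, ?_⟩⟩
  · exact Subgroup.closure_mono fun β ⟨g, hg, hβ⟩ => ⟨g, isometry_le_GO hg, hβ⟩
  · rintro ⟨β, hβ, rfl⟩
    rw [pgoAut_eq] at hβ
    obtain ⟨g, rfl⟩ := hβ
    obtain ⟨h, hh⟩ := exists_iso_conj S.pnd hco hodd g
    refine ⟨rho ⇑Q (incl ⇑Q h), Subgroup.subset_closure ⟨h.1, h.2, (induced_iff (incl ⇑Q h) _).2 rfl⟩, ?_⟩
    rw [← map_inv, ← map_inv, ← map_mul, ← map_mul, ← map_mul, ← map_mul, ← map_inv, ← map_mul, ← map_mul, ← hh]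
    exact congrArg (rho ⇑Q) (Subtype.ext rfl)

end Cfsg.Agent.Small.Orth
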