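import Cfsg.Agent.Lib.Small.Orth.SimQuot
import Cfsg.Agent.Lib.Classical.OrthPOmega

/-!
# Similitudes preserving the classes of maximal totally singular subspaces

The determinant criterion and the transfer of the quotient computations to forms given as functions.
-/

set_option autoImplicit false
set_option linter.unusedSectionVars false

namespace Cfsg.Agent.Small.Orth

open Module QuadraticMap Matrix Cfsg.Agent.Classical Cfsg.Agent.Classical.OCount Cfsg.Agent.Classical.ORefl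
  Cfsg.Agent.Classical.OOmega

section Classes

variable {L : Type*} [Field L] [Finite L] {ι : Type} [Fintype ι] [DecidableEq ι] {Q : QuadraticForm L (ι → L)} {N : ℕ}

/-- Totally singular subspaces lie in an isometric image of a given one of half the dimension. -/
theorem exists_iso_into (hQ : PND Q) (hcard : Fintype.card ι = 2 * N) {U₀ : Submodule L (ι → L)}
    (hU₀ : ∀ w ∈ U₀, Q w = 0) (hd₀ : finrank L U₀ = N) (U : Submodule L (ι → L)) (hU : ∀ w ∈ U, Q w = 0) :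
    ∃ g : ↥(Iso Q), ∀ u ∈ U, g.1 u ∈ U₀ := by
  have hle : finrank L U ≤ N := by
    have h1 := Submodule.finrank_mono (Witt.le_orth Q hU)
    rw [LinearMap.BilinForm.finrank_orthogonal (nondeg hQ), Module.finrank_fintype_fun_eq_card, hcard] at h1
    omega
  let ext : (Fin (finrank L U) → L) →ₗ[L] Fin N → L := Function.ExtendByZero.linearMap L (Fin.castLE hle)
  have hext : Function.Injective ext := fun x y h => funext fun i => by
    have h1 := congrFun h (Fin.castLE hle i)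
    simp only [ext, Function.ExtendByZero.linearMap_apply, (Fin.castLE_injective hle).extend_apply] at h1
    exact h1
  let f : U →ₗ[L] U₀ :=
    (Module.finBasisOfFinrankEq L U₀ hd₀).equivFun.symm.toLinearMap ∘ₗ ext ∘ₗ
      (Module.finBasis L U).equivFun.toLinearMap
  have hf : Function.Injective f :=
    (Module.finBasisOfFinrankEq L U₀ hd₀).equivFun.symm.injective.comp
      (hext.comp (Module.finBasis L U).equivFun.injective)
  obtain ⟨g, hg, hgu⟩ := witt hQ U (U₀.subtype ∘ₗ f) (Subtype.val_injective.comp hf) fun u =>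
    (hU₀ _ (f u).2).trans (hU _ u.2).symm
  exact ⟨⟨g, hg⟩, fun u hu => by rw [hgu ⟨u, hu⟩]; exact (f ⟨u, hu⟩).2⟩

/-- The parity of the image of a maximal totally singular subspace. -/
theorem parity_map_iff (h2 : (2 : L) ≠ 0) (hQ : PND Q) (hcard : Fintype.card ι = 2 * N) {U₀ : Submodule L (ι → L)}
    (hU₀ : ∀ w ∈ U₀, Q w = 0) (hd₀ : finrank L U₀ = N) (g : Matrix ι ι L) (c : L) (hc : c ≠ 0)
    (hg : ∀ v, Q (g *ᵥ v) = c * Q v) (D : GL ι L) (hD : ∀ v, Q (D.1 *ᵥ v) = c * Q v)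
    (hDU : ∀ u ∈ U₀, D.1 *ᵥ u ∈ U₀) (hDd : D.1.det = c ^ N) (H : ↥(Iso Q)) :
    Even (N - finrank L ↥(U₀.map (H.1 : (ι → L) →ₗ[L] ι → L) ⊓
      (U₀.map (H.1 : (ι → L) →ₗ[L] ι → L)).map (Matrix.toLin' g))) ↔ g.det = c ^ N := by
  have hDU' : U₀.map (Matrix.toLin' D.1) = U₀ := by
    refine Submodule.eq_of_le_of_finrank_eq (by rintro _ ⟨u, hu, rfl⟩; rw [Matrix.toLin'_apply]; exact hDU u hu) ?_
    exact ((Submodule.equivMapOfInjective _ (fun x y h => Matrix.mulVec_injective_of_isUnit (Units.isUnit D)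
      (by simpa [Matrix.toLin'_apply] using h)) U₀).finrank_eq).symm
  obtain ⟨h, hh⟩ : ∃ h : GL ι L, ∀ x, h.1 *ᵥ x = H.1 x :=
    ⟨(toMat Q H).1, fun x => toMat_apply H x⟩
  have hhQ : ∀ v, Q (h.1 *ᵥ v) = Q v := fun v => by rw [hh]; exact H.2 v
  have hdet0 : h.1.det ≠ 0 := (Matrix.isUnit_iff_isUnit_det _).1 (Units.isUnit h) |>.ne_zero
  have hDdet0 : D.1.det ≠ 0 := hDd ▸ pow_ne_zero _ hc
  obtain ⟨k, hk⟩ : ∃ k : Matrix ι ι L, k = (h⁻¹ : GL ι L).1 * g * h.1 * (D⁻¹ : GL ι L).1 := ⟨_, rfl⟩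
  have hkQ : ∀ v, Q (k *ᵥ v) = Q v := fun v => by
    have hi : ∀ w, Q ((h⁻¹ : GL ι L).1 *ᵥ w) = Q w := fun w => by
      rw [← hhQ ((h⁻¹ : GL ι L).1 *ᵥ w), Matrix.mulVec_mulVec, ← Units.val_mul, mul_inv_cancel, Units.val_one,
        Matrix.one_mulVec]
    rw [hk, ← Matrix.mulVec_mulVec, ← Matrix.mulVec_mulVec, ← Matrix.mulVec_mulVec, hi, hg, hhQ, ← hD,
      Matrix.mulVec_mulVec, ← Units.val_mul, mul_inv_cancel, Units.val_one, Matrix.one_mulVec]
  have hdetk : k.det * c ^ N = g.det := by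
    rw [hk, ← hDd]
    simp only [Matrix.det_mul]
    have e1 : (h⁻¹ : GL ι L).1.det * h.1.det = 1 := by
      rw [← Matrix.det_mul, ← Units.val_mul, inv_mul_cancel, Units.val_one, Matrix.det_one]
    have e2 : (D⁻¹ : GL ι L).1.det * D.1.det = 1 := by
      rw [← Matrix.det_mul, ← Units.val_mul, inv_mul_cancel, Units.val_one, Matrix.det_one]
    linear_combination g.det * ((D⁻¹ : GL ι L).1.det * D.1.det) * e1 + g.det * e2
  have hk0 : k.det ≠ 0 := fun e => by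
    have hkinj : ∀ v, k *ᵥ v = 0 → v = 0 := fun v hv => hQ v fun w => by
      have h1 := hkQ (v + w)
      rw [polar, ← h1, ← hkQ v, ← hkQ w, Matrix.mulVec_add, hv, zero_add, QuadraticMap.map_zero]
      ring
    obtain ⟨v, hv0, hv⟩ := Matrix.exists_mulVec_eq_zero_iff.2 e
    exact hv0 (hkinj v hv)
  obtain ⟨vs, hvs, hM⟩ := exists_list_mat (Q := Q) rfl hQ (Or.inl (card_field_ne_two h2))
    (⟨GeneralLinearGroup.mkOfDetNeZero k hk0, fun v _ => hkQ v⟩ : ↥(Cfsg.isometryGroup L ⇑Q))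
  change ∀ x, k *ᵥ x = (prodRf Q vs).1 x at hM
  have himg : (U₀.map (H.1 : (ι → L) →ₗ[L] ι → L)).map (Matrix.toLin' g) =
      (U₀.map ((prodRf Q vs).1 : (ι → L) →ₗ[L] ι → L)).map (H.1 : (ι → L) →ₗ[L] ι → L) := by
    rw [← Submodule.map_comp, ← Submodule.map_comp]
    conv_rhs => rw [← hDU', ← Submodule.map_comp]
    congr 1
    refine LinearMap.ext fun x => ?_
    show Matrix.toLin' g (H.1 x) = H.1 ((prodRf Q vs).1 (Matrix.toLin' D.1 x))
    rw [Matrix.toLin'_apply, Matrix.toLin'_apply, ← hM, ← hh, ← hh, hk, Matrix.mulVec_mulVec, Matrix.mulVec_mulVec,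
      Matrix.mulVec_mulVec]
    congr 1
    simp only [← mul_assoc]
    rw [← Units.val_mul, mul_inv_cancel, Units.val_one, one_mul, mul_assoc, ← Units.val_mul, inv_mul_cancel,
      Units.val_one, mul_one]
  rw [himg, ← Submodule.map_inf _ H.1.injective, LinearEquiv.finrank_map_eq,
    even_inter_iff hQ (by rw [Module.finrank_fintype_fun_eq_card, hcard]) hU₀ hd₀ vs hvs]
  have hdw := det_word vs hvs hM
  rw [← hdetk, hdw]
  refine ⟨fun he => by rw [he.neg_one_pow, one_mul], fun he => ?_⟩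
  by_contra hc'
  rw [(Nat.not_even_iff_odd.1 hc').neg_one_pow] at he
  exact h2 ((mul_eq_zero.1 (show (2 : L) * c ^ N = 0 by linear_combination -he)).resolve_right (pow_ne_zero _ hc))

/-- The parity criterion for any subspace of half the dimension. -/
theorem parity_iff (h2 : (2 : L) ≠ 0) (hQ : PND Q) (hcard : Fintype.card ι = 2 * N) {U₀ : Submodule L (ι → L)}
    (hU₀ : ∀ w ∈ U₀, Q w = 0) (hd₀ : finrank L U₀ = N) (g : Matrix ι ι L) (c : L) (hc : c ≠ 0)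
    (hg : ∀ v, Q (g *ᵥ v) = c * Q v) (D : GL ι L) (hD : ∀ v, Q (D.1 *ᵥ v) = c * Q v)
    (hDU : ∀ u ∈ U₀, D.1 *ᵥ u ∈ U₀) (hDd : D.1.det = c ^ N) (U : Submodule L (ι → L)) (hU : ∀ w ∈ U, Q w = 0)
    (hUd : finrank L U = N) :
    Even (N - finrank L ↥(U ⊓ U.map (Matrix.toLin' g))) ↔ g.det = c ^ N := by
  obtain ⟨x, hx⟩ := exists_iso_into hQ hcard hU₀ hd₀ U hU
  have e : U₀.map ((x⁻¹).1 : (ι → L) →ₗ[L] ι → L) = U :=
    (Submodule.eq_of_le_of_finrank_eq ((fun u hu => ⟨x.1 u, hx u hu, x.1.symm_apply_apply u⟩ : U ≤ U₀.map ((x⁻¹).1 : (ι → L) →ₗ[L] ι → L)))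
      (by rw [LinearEquiv.finrank_map_eq (x⁻¹).1 U₀, hUd, hd₀])).symm
  rw [← e]
  exact parity_map_iff h2 hQ hcard hU₀ hd₀ g c hc hg D hD hDU hDd x⁻¹

/-- The determinant criterion for preserving both classes. -/
theorem preserves_iff (h2 : (2 : L) ≠ 0) (hQ : PND Q) (hcard : Fintype.card ι = 2 * N) {U₀ : Submodule L (ι → L)}
    (hU₀ : ∀ w ∈ U₀, Q w = 0) (hd₀ : finrank L U₀ = N) (g : Matrix ι ι L) (c : L) (hc : c ≠ 0)
    (hg : ∀ v, Q (g *ᵥ v) = c * Q v) (D : GL ι L) (hD : ∀ v, Q (D.1 *ᵥ v) = c * Q v)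
    (hDU : ∀ u ∈ U₀, D.1 *ᵥ u ∈ U₀) (hDd : D.1.det = c ^ N) :
    Cfsg.PreservesSingularClasses ⇑Q g ↔ g.det = c ^ N := by
  have key := parity_map_iff h2 hQ hcard hU₀ hd₀ g c hc hg D hD hDU hDd
  constructor
  · intro hp
    have h := hp U₀ ⟨hU₀, fun W hW hle => ?_⟩
    · have e : ((1 : ↥(Iso Q)).1 : (ι → L) →ₗ[L] ι → L) = LinearMap.id := rfl
      have h1 := key 1
      rw [e, Submodule.map_id] at h1
      refine h1.1 ?_
      rw [Cfsg.SameParityClass, Cfsg.imageSubmodule, hd₀] at h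
      exact h
    · obtain ⟨x, hx⟩ := exists_iso_into hQ hcard hU₀ hd₀ W hW
      refine (Submodule.eq_of_le_of_finrank_le hle ?_).symm
      rw [hd₀, ← hd₀, ← LinearEquiv.finrank_map_eq x.1 W]
      exact Submodule.finrank_mono (by rintro _ ⟨u, hu, rfl⟩; exact hx u hu)
  · intro hdet U hU
    obtain ⟨x, hx⟩ := exists_iso_into hQ hcard hU₀ hd₀ U hU.1
    have e : U₀.map ((x⁻¹).1 : (ι → L) →ₗ[L] ι → L) = U := by
      refine hU.2 _ ?_ fun u hu => ⟨x.1 u, hx u hu, x.1.symm_apply_apply u⟩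
      rintro _ ⟨w, hw, rfl⟩
      exact ((x⁻¹).2 w).trans (hU₀ w hw)
    have h1 := (key x⁻¹).2 hdet
    rw [e] at h1
    rw [Cfsg.SameParityClass, Cfsg.imageSubmodule]
    rwa [show finrank L U = N by rw [← hd₀, ← e]; exact LinearEquiv.finrank_map_eq (x⁻¹).1 U₀]

end Classes

section Transfer

variable {F : Type*} [Field F] [Finite F] {ι : Type} [Fintype ι] [DecidableEq ι]
  {Q : QuadraticForm F (ι → F)} {N : ℕ} {q : (ι → F) → F}

theorem SimSetup.pgo_pso_of (S : SimSetup Q N) (hq : ⇑Q = q) :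
    ∃ φ : ↥(Cfsg.pgoAut F q) →* Multiplicative (ZMod 2 × ZMod 2), Function.Surjective φ ∧
      φ.ker = (Cfsg.psoAut F q).subgroupOf (Cfsg.pgoAut F q) := by
  subst hq; exact S.pgo_pso

theorem SimSetup.inn_pso_of (S : SimSetup Q N) (hq : ⇑Q = q) :
    (¬ NegMem Q → (Cfsg.Inn (Cfsg.POmega F q)).relIndex (Cfsg.psoAut F q) = 1) ∧
      (NegMem Q → (Cfsg.Inn (Cfsg.POmega F q)).relIndex (Cfsg.psoAut F q) = 2) := by
  subst hq; exact S.inn_pso

theorem SimSetup.pgo_inn_of (S : SimSetup Q N) (hq : ⇑Q = q) :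
    (¬ NegMem Q → ∃ φ : ↥(Cfsg.pgoAut F q) →* Multiplicative (ZMod 2 × ZMod 2), Function.Surjective φ ∧
      φ.ker = (Cfsg.Inn (Cfsg.POmega F q)).subgroupOf (Cfsg.pgoAut F q)) ∧
    (NegMem Q → ∃ φ : ↥(Cfsg.pgoAut F q) →* DihedralGroup 4, Function.Surjective φ ∧
      φ.ker = (Cfsg.Inn (Cfsg.POmega F q)).subgroupOf (Cfsg.pgoAut F q)) := by
  subst hq; exact S.pgo_inn

/-- The subgroup generated by the automorphisms from class-preserving similitudes. -/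
theorem SimSetup.delta_inn_of (S : SimSetup Q N) (hq : ⇑Q = q) (Pd : GL ι F → Prop)
    (hPd : ∀ g : ↥(GO ⇑Q), Pd (g : GL ι F) ↔ S.delta g = 1)
    (T : Subgroup (MulAut (Cfsg.POmega F q)))
    (hT : T = Cfsg.autSubgroupOf fun β : MulAut (Cfsg.POmega F q) =>
      ∃ g : GL ι F, g ∈ GO q ∧ Pd g ∧ Cfsg.IsInducedBySemilinearPOmega q g (RingEquiv.refl F) β) :
    (¬ NegMem Q → ∃ φ : ↥T →* Multiplicative (ZMod 2), Function.Surjective φ ∧
      φ.ker = (Cfsg.Inn (Cfsg.POmega F q)).subgroupOf T) ∧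
    (NegMem Q → ∀ (D : ↥(GO ⇑Q)) (k : ↥(Cfsg.isometryGroup F ⇑Q)) (c : Fˣ), ¬ IsSquare (mult D : F) →
      S.delta D = 1 → D * D = scalarG Q c * incl ⇑Q k →
      (k ∈ Cfsg.Omega F ⇑Q → ∃ φ : ↥T →* Multiplicative (ZMod 2 × ZMod 2), Function.Surjective φ ∧
          φ.ker = (Cfsg.Inn (Cfsg.POmega F q)).subgroupOf T) ∧
        (k ∉ Cfsg.Omega F ⇑Q → ∃ φ : ↥T →* Multiplicative (ZMod 4), Function.Surjective φ ∧
          φ.ker = (Cfsg.Inn (Cfsg.POmega F q)).subgroupOf T)) := by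
  subst hq
  refine S.delta_inn T (hT.trans ?_)
  rw [← autSub_eq (P := fun g => g ∈ GO ⇑Q ∧ Pd g) S.delta.ker
    (fun g => by rw [MonoidHom.mem_ker, ← hPd g]; exact ⟨fun h => ⟨g.2, h⟩, fun h => h.2⟩) fun g hg => hg.1]
  simp only [and_assoc]

/-- Squaring a similitude. -/
theorem SimSetup.sq_decomp (S : SimSetup Q N) (D : ↥(GO ⇑Q)) :
    ∃ k : ↥(Cfsg.isometryGroup F ⇑Q), D * D = scalarG Q (mult D) * incl ⇑Q k ∧
      ∀ x, (mult D : F) • (k.1.1 *ᵥ x) = (D : GL ι F).1 *ᵥ ((D : GL ι F).1 *ᵥ x) := by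
  have hmem : (((scalarG Q (mult D))⁻¹ * (D * D) : ↥(GO ⇑Q)) : GL ι F) ∈ Cfsg.isometryGroup F ⇑Q := fun v _ => by
    show Q ((((scalarG Q (mult D))⁻¹ * (D * D) : ↥(GO ⇑Q)) : GL ι F).1 *ᵥ v) = Q v
    rw [mult_spec, S.mult_mul, show mult (scalarG Q (mult D))⁻¹ = (mult (scalarG Q (mult D)))⁻¹ from map_inv S.multHom _,
      (S.delta_scalar _).1, S.mult_mul, inv_mul_cancel, Units.val_one, one_mul]
  refine ⟨⟨_, hmem⟩, (mul_inv_cancel_left _ _).symm, fun x => ?_⟩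
  have h := congrArg (fun g : ↥(GO ⇑Q) => (g : GL ι F).1 *ᵥ x) (mul_inv_cancel_left (scalarG Q (mult D)) (D * D))
  simp only [Subgroup.coe_mul, Units.val_mul, ← Matrix.mulVec_mulVec, scalarG_mulVec] at h
  simp only [Subgroup.coe_mul, Units.val_mul, ← Matrix.mulVec_mulVec]
  exact h

/-- A matrix with a multiplier as a similitude. -/
theorem exists_GO (M : Matrix ι ι F) (hdet : M.det ≠ 0) (c : Fˣ) (hM : ∀ v, Q (M *ᵥ v) = (c : F) * Q v) :
    ∃ D : ↥(GO ⇑Q), (D : GL ι F).1 = M :=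
  ⟨⟨GeneralLinearGroup.mkOfDetNeZero M hdet, c, hM⟩, rfl⟩

end Transfer

end Cfsg.Agent.Small.Orth
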