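import Cfsg.Agent.Lib.Small.Orth.SimPlus

/-!
# The splitting of the class of an involutory graph automorphism of the plus type group
-/

set_option autoImplicit false
set_option linter.unusedSectionVars false

namespace Cfsg.Agent.Small.Orth

open Module QuadraticMap Matrix Cfsg.Agent.Classical Cfsg.Agent.Classical.OCount Cfsg.Agent.Classical.ORefl
  Cfsg.Agent.Classical.OOmega

section Count

variable {X : Type*} [Group X] {H K : Subgroup X} {x : X}

/-- The classes into which a class splits are the values of a homomorphism killing `K` and the centraliser. -/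
theorem split_eq_card [K.Normal] {B : Type*} [Group B] (ψ : ↥H →* B) (hψ : Function.Surjective ψ)
    (hker : ∀ h : ↥H, ψ h = 1 ↔ ∃ k ∈ K, (k⁻¹ * (h : X)) * x = x * (k⁻¹ * (h : X))) (hKH : K ≤ H) :
    Cfsg.splitClassCount H K x = Nat.card B := by
  classical
  have hK : ∀ k (hk : k ∈ K), ψ ⟨k, hKH hk⟩ = 1 := fun k hk => (hker _).2 ⟨k, hk, by simp⟩
  let pick : {y : X // Cfsg.IsConjUnder H x y} → ↥H := fun y => ⟨y.2.choose, y.2.choose_spec.1⟩
  have hpick : ∀ y, y.1 = (pick y : X) * x * (pick y : X)⁻¹ := fun y => y.2.choose_spec.2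
  let f : Quot (fun y z : {y : X // Cfsg.IsConjUnder H x y} => Cfsg.IsConjUnder K y.1 z.1) → B :=
    Quot.lift (fun y => ψ (pick y)) (by
      rintro y z ⟨k, hk, hyz⟩
      rw [hpick y, hpick z] at hyz
      have h1 : ψ ((pick z)⁻¹ * (⟨k, hKH hk⟩ * pick y)) = 1 := (hker _).2 ⟨1, one_mem _, by
        simp only [inv_one, one_mul, Subgroup.coe_mul, Subgroup.coe_inv]
        have h3 := congrArg (fun w => (pick z : X)⁻¹ * w * (k * (pick y : X))) hyz
        simp only [mul_assoc, inv_mul_cancel_left, inv_mul_cancel, mul_one] at h3 ⊢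
        exact h3.symm⟩
      rw [map_mul, map_mul, map_inv, hK k hk, one_mul, inv_mul_eq_one] at h1
      exact h1.symm)
  refine Nat.card_eq_of_bijective f ⟨?_, fun b => ?_⟩
  · intro a
    refine Quot.inductionOn a fun y => ?_
    intro b
    refine Quot.inductionOn b fun z => ?_
    intro h
    change ψ (pick y) = ψ (pick z) at h
    obtain ⟨k, hk, hc⟩ := (hker ((pick y)⁻¹ * pick z)).1 (by rw [map_mul, map_inv, h, inv_mul_cancel])
    refine Quot.sound ⟨(pick y : X) * k * (pick y : X)⁻¹, Subgroup.Normal.conj_mem inferInstance k hk _, ?_⟩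
    rw [hpick y, hpick z]
    rw [Subgroup.coe_mul, Subgroup.coe_inv] at hc
    obtain ⟨w, hw⟩ : ∃ w, w = k⁻¹ * ((pick y : X)⁻¹ * (pick z : X)) := ⟨_, rfl⟩
    rw [← hw] at hc
    rw [show (pick z : X) = (pick y : X) * k * w by rw [hw]; group,
      show (pick y : X) * k * w * x * ((pick y : X) * k * w)⁻¹ = (pick y : X) * k * (w * x) * ((pick y : X) * k * w)⁻¹ by group,
      hc]
    group
  · obtain ⟨h, rfl⟩ := hψ b
    have hy : Cfsg.IsConjUnder H x ((h : X) * x * (h : X)⁻¹) := ⟨h, h.2, rfl⟩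
    refine ⟨Quot.mk _ ⟨_, hy⟩, ?_⟩
    have e := hpick ⟨_, hy⟩
    change ψ (pick ⟨_, hy⟩) = ψ h
    have h1 : ψ (h⁻¹ * pick ⟨_, hy⟩) = 1 := (hker _).2 ⟨1, one_mem _, by
      simp only [inv_one, one_mul, Subgroup.coe_mul, Subgroup.coe_inv]
      have h3 := congrArg (fun w => (h : X)⁻¹ * w * (pick ⟨_, hy⟩ : X)) e
      simp only [mul_assoc, inv_mul_cancel_left, inv_mul_cancel, mul_one] at h3 ⊢
      exact h3.symm⟩
    rw [map_mul, map_inv, inv_mul_eq_one] at h1
    exact h1.symm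

/-- The number of classes is positive and at most the index. -/
theorem split_le [Finite X] [K.Normal] {B : Type*} [Group B] [Finite B] (φ : ↥H →* B) (hφ : Function.Surjective φ)
    (hker : φ.ker = K.subgroupOf H) :
    1 ≤ Cfsg.splitClassCount H K x ∧ Cfsg.splitClassCount H K x ≤ Nat.card B := by
  haveI : Nonempty {y : X // Cfsg.IsConjUnder H x y} := ⟨⟨x, 1, one_mem _, by simp⟩⟩
  haveI : Nonempty (Quot fun y z : {y : X // Cfsg.IsConjUnder H x y} => Cfsg.IsConjUnder K y.1 z.1) :=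
    ⟨Quot.mk _ (Classical.arbitrary _)⟩
  refine ⟨Nat.card_pos, Nat.card_le_card_of_surjective
    (fun b : B => Quot.mk _ ⟨((hφ b).choose : X) * x * ((hφ b).choose : X)⁻¹, (hφ b).choose, (hφ b).choose.2, rfl⟩) ?_⟩
  intro a
  refine Quot.inductionOn a fun y => ?_
  obtain ⟨h, hh, hy⟩ := y.2
  refine ⟨φ ⟨h, hh⟩, Quot.sound ?_⟩
  have e := (hφ (φ ⟨h, hh⟩)).choose_spec
  obtain ⟨h', hh'⟩ : ∃ h', h' = (hφ (φ ⟨h, hh⟩)).choose := ⟨_, rfl⟩
  rw [← hh'] at e ⊢
  have h1 : (⟨h, hh⟩ : ↥H) * h'⁻¹ ∈ φ.ker := by rw [MonoidHom.mem_ker, map_mul, map_inv, e, mul_inv_cancel]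
  rw [hker, Subgroup.mem_subgroupOf] at h1
  refine ⟨_, h1, ?_⟩
  rw [hy, Subgroup.coe_mul, Subgroup.coe_inv]
  group

end Count

section Commuting

variable {F : Type*} [Field F] [Finite F] {ι : Type} [Fintype ι] [DecidableEq ι]
  {Q : QuadraticForm F (ι → F)} {N : ℕ} {g : Matrix ι ι F} {c μ : F}

theorem polar_gg (hg : ∀ v, Q (g *ᵥ v) = c * Q v) (x y : ι → F) :
    polar Q (g *ᵥ x) (g *ᵥ y) = c * polar Q x y := by
  simp only [QuadraticMap.polar, ← Matrix.mulVec_add, hg]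
  ring

theorem polar_adj (hg : ∀ v, Q (g *ᵥ v) = c * Q v) (hg2 : ∀ v, g *ᵥ (g *ᵥ v) = μ • v) (x y : ι → F) :
    μ * polar Q (g *ᵥ x) y = c * polar Q x (g *ᵥ y) := by
  rw [← polar_gg hg x (g *ᵥ y), hg2, polar_smul_right, smul_eq_mul]

/-- Two reflections along a plane stable under `g`. -/
theorem plane_commutes (hg : ∀ v, Q (g *ᵥ v) = c * Q v) (hg2 : ∀ v, g *ᵥ (g *ᵥ v) = μ • v) (hc : c ≠ 0)
    {x : ι → F} (hx : Q x ≠ 0) (hxg : polar Q x (g *ᵥ x) = 0) (w : ι → F) :
    g *ᵥ (prodRf Q [x, g *ᵥ x]).1 w = (prodRf Q [x, g *ᵥ x]).1 (g *ᵥ w) := by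
  have e : ∀ v, (prodRf Q [x, g *ᵥ x]).1 v = refl Q x (refl Q (g *ᵥ x) v) := fun v => rfl
  have h1 : polar Q (g *ᵥ x) w * μ = c * polar Q x (g *ᵥ w) := by rw [mul_comm, polar_adj hg hg2]
  rw [e, e, refl_apply, refl_apply, refl_apply, refl_apply, hg]
  simp only [Matrix.mulVec_sub, Matrix.mulVec_smul, hg2, polar_sub_right, polar_smul_right, smul_eq_mul, hxg, mul_zero,
    sub_zero, polar_gg hg]
  match_scalars
  all_goals field_simp
  all_goals linear_combination -h1

/-- A reflection along an eigenvector. -/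
theorem eigen_commutes (hg : ∀ v, Q (g *ᵥ v) = c * Q v) (hg2 : ∀ v, g *ᵥ (g *ᵥ v) = μ • v) (hμ : μ = c) (hc : c ≠ 0)
    {u : ι → F} {a : F} (hu : g *ᵥ u = a • u) (w : ι → F) :
    g *ᵥ refl Q u w = refl Q u (g *ᵥ w) := by
  have h1 : polar Q u (g *ᵥ w) = a * polar Q u w := by
    have := polar_adj hg hg2 u w
    rw [hμ] at this
    rw [← mul_left_cancel₀ hc this, hu, polar_smul_left, smul_eq_mul]
  rw [refl_apply, refl_apply, Matrix.mulVec_sub, Matrix.mulVec_smul, hu, h1, smul_smul]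
  ring_nf

/-- The two eigenspaces of `g` for a square root of its square. -/
theorem eigen_split (h2 : (2 : F) ≠ 0) (hg2 : ∀ v, g *ᵥ (g *ᵥ v) = μ • v) {a : F} (ha : μ = a * a) (ha0 : a ≠ 0) :
    End.eigenspace (Matrix.toLin' g) a ⊔ End.eigenspace (Matrix.toLin' g) (-a) = ⊤ := by
  refine eq_top_iff.2 fun v _ => ?_
  have e : v = (2 * a)⁻¹ • (a • v + g *ᵥ v) + (2 * a)⁻¹ • (a • v - g *ᵥ v) := by
    match_scalars
    · field_simp
      ring
    · ring
  rw [e]
  refine Submodule.add_mem_sup (Submodule.smul_mem _ _ ?_) (Submodule.smul_mem _ _ ?_) <;>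
    rw [End.mem_eigenspace_iff, Matrix.toLin'_apply]
  · rw [Matrix.mulVec_add, Matrix.mulVec_smul, hg2, ha]; module
  · rw [Matrix.mulVec_sub, Matrix.mulVec_smul, hg2, ha]; module

/-- An eigenspace of dimension at least two meets both classes. -/
theorem eigen_class (h2 : (2 : F) ≠ 0) (hQ : PND Q) (hg : ∀ v, Q (g *ᵥ v) = c * Q v) (hg2 : ∀ v, g *ᵥ (g *ᵥ v) = μ • v)
    (hμ : μ = c) (hc : c ≠ 0) {a : F} (ha : μ = a * a) (ha0 : a ≠ 0)
    (hd : 2 ≤ finrank F (End.eigenspace (Matrix.toLin' g) a)) {d : F} (hd0 : d ≠ 0) :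
    ∃ u, g *ᵥ u = a • u ∧ Q u ≠ 0 ∧ IsSquare (d * Q u) := by
  have hX : End.eigenspace (Matrix.toLin' g) a ⊓
      LinearMap.BilinForm.orthogonal Q.polarBilin (End.eigenspace (Matrix.toLin' g) a) = ⊥ := by
    rw [eq_bot_iff]
    rintro v ⟨hv, hv'⟩
    rw [Submodule.mem_bot]
    have hgv : g *ᵥ v = a • v := by
      have := End.mem_eigenspace_iff.1 hv
      rwa [Matrix.toLin'_apply] at this
    refine hQ v fun w => ?_
    obtain ⟨p, hp, r, hr, rfl⟩ := Submodule.mem_sup.1 ((eigen_split h2 hg2 ha ha0).symm ▸ Submodule.mem_top (x := w))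
    have h1 : polar Q p v = 0 := hv' p hp
    have hgr : g *ᵥ r = (-a) • r := by
      have := End.mem_eigenspace_iff.1 hr
      rwa [Matrix.toLin'_apply] at this
    have h3 := polar_adj hg hg2 v r
    rw [hμ, hgv, hgr, polar_smul_left, polar_smul_right, smul_eq_mul, smul_eq_mul] at h3
    have h4 : polar Q v r = 0 := (mul_eq_zero.1 (show (2 * a * c) * polar Q v r = 0 by linear_combination h3)).resolve_left
      (mul_ne_zero (mul_ne_zero h2 ha0) hc)
    rw [polar_add_right, polar_comm Q v p, h1, h4, add_zero]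
  obtain ⟨u, hu, h0, hs⟩ := exists_class hX hd hd0
  refine ⟨u, ?_, h0, hs⟩
  have := End.mem_eigenspace_iff.1 hu
  rwa [Matrix.toLin'_apply] at this

end Commuting

variable {F : Type*} [Field F] [Fintype F] {m : ℕ}

/-- A vector of non-zero value orthogonal to its image. -/
theorem exists_plane (hodd : Odd (Fintype.card F)) (hm : 3 ≤ m) {g : Matrix (Fin m ⊕ Fin m) (Fin m ⊕ Fin m) F} {c : F}
    (hc : ¬ IsSquare c) (hg : ∀ v, qPlus F m (g *ᵥ v) = c * qPlus F m v) (hg2 : ∀ v, g *ᵥ (g *ᵥ v) = c • v) :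
    ∃ x, qPlus F m x ≠ 0 ∧ polar (qPlus F m) x (g *ᵥ x) = 0 := by
  have h2 := two_ne_of_odd hodd
  have hc0 : c ≠ 0 := fun e => hc (e ▸ IsSquare.zero)
  have hQ := qPlus_pnd F m
  have hadj : ∀ x y, polar (qPlus F m) (g *ᵥ x) y = polar (qPlus F m) x (g *ᵥ y) := fun x y =>
    mul_left_cancel₀ hc0 (polar_adj hg hg2 x y)
  obtain ⟨v, hv, hvr⟩ : ∃ v, qPlus F m v = 0 ∧ polar (qPlus F m) v (g *ᵥ v) ≠ 0 := by
    by_contra hne
    push Not at hne
    set ε : Fin m ⊕ Fin m ≃ (Fin m ⊕ Fin m) ⊕ Empty := (Equiv.sumEmpty (Fin m ⊕ Fin m) Empty).symm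
    set e : Fin m → Fin m ⊕ Fin m → F := fun i => bv ε (.inl (.inl i))
    set f : Fin m → Fin m ⊕ Fin m → F := fun i => bv ε (.inl (.inr i))
    have hf : HFam (qPlus F m) e f := hfam_formOf ε 0
    let o : Fin m := ⟨0, by omega⟩
    have hcross : ∀ p r, qPlus F m p = 0 → qPlus F m r = 0 → polar (qPlus F m) p r = 0 →
        polar (qPlus F m) p (g *ᵥ r) = 0 := by
      intro p r hp hr hpr
      have h1 : qPlus F m (p + r) = 0 := by rw [map_two, hp, hr, hpr]; ring
      have h3 := hne _ h1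
      rw [Matrix.mulVec_add, polar_add_left, polar_add_right, polar_add_right, hne p hp, hne r hr,
        polar_comm (qPlus F m) r (g *ᵥ p), hadj p r] at h3
      exact (mul_eq_zero.1 (show 2 * polar (qPlus F m) p (g *ᵥ r) = 0 by linear_combination h3)).resolve_left h2
    have hco : ∀ k : Fin m ⊕ Fin m, k ≠ Sum.inl o → (g *ᵥ e o) k = 0 := by
      rintro (i | i) hk
      · refine ((polar_bv_inl ε 0 (g *ᵥ e o) i).2.symm.trans ?_ : (g *ᵥ e o) (ε.symm (.inl (.inl i))) = 0)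
        refine hcross _ _ (hf.qf i) (hf.qe o) ?_
        rw [hf.fe, if_neg]
        rintro rfl
        exact hk rfl
      · exact ((polar_bv_inl ε 0 (g *ᵥ e o) i).1.symm.trans (hcross _ _ (hf.qe i) (hf.qe o) (hf.ee i o)) :
          (g *ᵥ e o) (ε.symm (.inl (.inr i))) = 0)
    have heig : g *ᵥ e o = (g *ᵥ e o) (Sum.inl o) • e o := by
      funext k
      have he : e o k = if k = Sum.inl o then 1 else 0 := by
        show (Pi.single (Sum.inl o) (1 : F) : Fin m ⊕ Fin m → F) k = _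
        rw [Pi.single_apply]
      rw [Pi.smul_apply, he, smul_eq_mul]
      split_ifs with hk
      · rw [hk, mul_one]
      · rw [hco k hk, mul_zero]
    refine hc ⟨(g *ᵥ e o) (Sum.inl o), ?_⟩
    have h1 := hg2 (e o)
    rw [heig, Matrix.mulVec_smul, heig, smul_smul] at h1
    have h3 := congrFun h1 (Sum.inl o)
    have he : e o (Sum.inl o) = 1 := Pi.single_eq_same (M := fun _ : Fin m ⊕ Fin m => F) (Sum.inl o) (1 : F)
    simp only [Pi.smul_apply, smul_eq_mul, he, mul_one] at h3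
    exact h3.symm
  obtain ⟨W, hW⟩ : ∃ W : Submodule F (Fin m ⊕ Fin m → F),
      W = LinearMap.ker ((qPlus F m).polarBilin v) ⊓ LinearMap.ker ((qPlus F m).polarBilin (g *ᵥ v)) := ⟨_, rfl⟩
  have hWd : 2 * m ≤ finrank F W + 2 := by
    have hk : ∀ φ : (Fin m ⊕ Fin m → F) →ₗ[F] F, 2 * m ≤ finrank F (LinearMap.ker φ) + 1 := fun φ => by
      have h1 := LinearMap.finrank_range_add_finrank_ker φ
      have h3 : finrank F (LinearMap.range φ) ≤ 1 := (Submodule.finrank_le _).trans_eq (finrank_self F)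
      simp [Module.finrank_fintype_fun_eq_card] at h1
      omega
    have h1 := Submodule.finrank_sup_add_finrank_inf_eq (LinearMap.ker ((qPlus F m).polarBilin v))
      (LinearMap.ker ((qPlus F m).polarBilin (g *ᵥ v)))
    have h3 := hk ((qPlus F m).polarBilin v)
    have h4 := hk ((qPlus F m).polarBilin (g *ᵥ v))
    have h5 := (LinearMap.ker ((qPlus F m).polarBilin v) ⊔ LinearMap.ker ((qPlus F m).polarBilin (g *ᵥ v))).finrank_le
    simp [Module.finrank_fintype_fun_eq_card] at h5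
    rw [← hW] at h1
    omega
  obtain ⟨w, hwW, hw⟩ : ∃ w ∈ W, qPlus F m w ≠ 0 := by
    by_contra hne
    push Not at hne
    have h1 := Submodule.finrank_mono (Witt.le_orth (qPlus F m) hne)
    rw [LinearMap.BilinForm.finrank_orthogonal (nondeg hQ)] at h1
    simp [Module.finrank_fintype_fun_eq_card] at h1
    omega
  rw [hW] at hwW
  have hw1 : polar (qPlus F m) v w = 0 := LinearMap.mem_ker.1 hwW.1
  have hw2 : polar (qPlus F m) (g *ᵥ v) w = 0 := LinearMap.mem_ker.1 hwW.2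
  obtain ⟨r, hr⟩ : ∃ r, r = polar (qPlus F m) v (g *ᵥ v) := ⟨_, rfl⟩
  have hr0 : r ≠ 0 := hr ▸ hvr
  have hqgv : qPlus F m (g *ᵥ v) = 0 := by rw [hg, hv, mul_zero]
  have hval : ∀ α β : F,
      qPlus F m (α • v + β • (g *ᵥ v) + w) = α * β * r + qPlus F m w ∧
        polar (qPlus F m) (α • v + β • (g *ᵥ v) + w) (g *ᵥ (α • v + β • (g *ᵥ v) + w)) =
          α ^ 2 * r + c * β ^ 2 * r + polar (qPlus F m) w (g *ᵥ w) := by
    intro α β
    have hvv : polar (qPlus F m) v v = 0 := by rw [polar_self_two, hv, mul_zero]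
    have hgg : polar (qPlus F m) (g *ᵥ v) (g *ᵥ v) = 0 := by rw [polar_self_two, hqgv, mul_zero]
    constructor
    · rw [map_two, map_two, QuadraticMap.map_smul, QuadraticMap.map_smul, polar_add_left, polar_smul_left, polar_smul_left,
        polar_smul_right, polar_smul_left, hv, hqgv, hw1, hw2, ← hr]
      simp only [smul_eq_mul]
      ring
    · have e1 : polar (qPlus F m) v (g *ᵥ w) = 0 := by rw [← hadj, hw2]
      have e2 : polar (qPlus F m) (g *ᵥ v) (g *ᵥ w) = 0 := by rw [polar_gg hg, hw1, mul_zero]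
      have e3 : polar (qPlus F m) (g *ᵥ v) v = r := by rw [polar_comm, ← hr]
      have e4 : polar (qPlus F m) w v = 0 := by rw [polar_comm, hw1]
      have e5 : polar (qPlus F m) w (g *ᵥ v) = 0 := by rw [polar_comm, hw2]
      simp only [Matrix.mulVec_add, Matrix.mulVec_smul, hg2, polar_add_left, polar_add_right, polar_smul_left,
        polar_smul_right, smul_eq_mul, hvv, hgg, hw1, hw2, e1, e2, e3, e4, e5, ← hr]
      ring
  obtain ⟨α, β, hab⟩ := exists_rep h2 hr0 (mul_ne_zero hc0 hr0) (-polar (qPlus F m) w (g *ᵥ w))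
  by_cases h0 : qPlus F m (α • v + β • (g *ᵥ v) + w) = 0
  · refine ⟨α • v + (-β) • (g *ᵥ v) + w, fun h1 => hw ?_, ?_⟩
    · rw [(hval _ _).1] at h0 h1
      exact (mul_eq_zero.1 (show 2 * qPlus F m w = 0 by linear_combination h0 + h1)).resolve_left h2
    · rw [(hval _ _).2]; linear_combination hab
  · exact ⟨_, h0, by rw [(hval _ _).2]; linear_combination hab⟩

/-- An even word of non-square class commuting with `g`. -/
theorem exists_commuting (hodd : Odd (Fintype.card F)) (hm : 3 ≤ m) {g : Matrix (Fin m ⊕ Fin m) (Fin m ⊕ Fin m) F}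
    {c μ : F} (hc : c ≠ 0) (hg : ∀ v, qPlus F m (g *ᵥ v) = c * qPlus F m v) (hg2 : ∀ v, g *ᵥ (g *ᵥ v) = μ • v)
    (hdet : g.det ≠ c ^ m) (hdet' : g.det = c ^ m ∨ g.det = -c ^ m) :
    ∃ x y, qPlus F m x ≠ 0 ∧ qPlus F m y ≠ 0 ∧ ¬ IsSquare (qPlus F m x * qPlus F m y) ∧
      ∀ w, g *ᵥ (prodRf (qPlus F m) [x, y]).1 w = (prodRf (qPlus F m) [x, y]).1 (g *ᵥ w) := by
  have h2 := two_ne_of_odd hodd
  have hQ := qPlus_pnd F m
  obtain ⟨v₀, hv₀⟩ := exists_nonsing' hQ (by simp; omega)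
  have hcμ : μ = c ∨ μ = -c := by
    have h1 := hg (g *ᵥ v₀)
    rw [hg2, hg, QuadraticMap.map_smul, smul_eq_mul] at h1
    have h3 : (μ - c) * (μ + c) = 0 := mul_right_cancel₀ hv₀ (by linear_combination h1)
    rcases mul_eq_zero.1 h3 with h | h
    · exact Or.inl (sub_eq_zero.1 h)
    · exact Or.inr (eq_neg_of_add_eq_zero_left h)
  have hplane : ¬ IsSquare c → ∀ x, qPlus F m x ≠ 0 → polar (qPlus F m) x (g *ᵥ x) = 0 →
      ∃ x y, qPlus F m x ≠ 0 ∧ qPlus F m y ≠ 0 ∧ ¬ IsSquare (qPlus F m x * qPlus F m y) ∧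
        ∀ w, g *ᵥ (prodRf (qPlus F m) [x, y]).1 w = (prodRf (qPlus F m) [x, y]).1 (g *ᵥ w) := by
    intro hns x hx hxg
    refine ⟨x, g *ᵥ x, hx, by rw [hg]; exact mul_ne_zero hc hx, ?_, plane_commutes hg hg2 hc hx hxg⟩
    rw [hg, show qPlus F m x * (c * qPlus F m x) = c * (qPlus F m x * qPlus F m x) by ring,
      isSquare_mul_iff (IsSquare.mul_self _) (mul_ne_zero hx hx)]
    exact hns
  rcases hcμ with hμ | hμ
  · by_cases hsq : IsSquare c
    · obtain ⟨a, ha⟩ := hsq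
      have ha0 : a ≠ 0 := fun e => hc (by rw [ha, e, mul_zero])
      have hμa : μ = a * a := hμ.trans ha
      obtain ⟨ν, hν⟩ : ∃ ν : F, ¬ IsSquare ν := FiniteField.exists_nonsquare fun h => h2 (by
        haveI := ringChar.of_eq h
        exact CharTwo.two_eq_zero)
      have hν0 : ν ≠ 0 := fun e => hν (e ▸ IsSquare.zero)
      obtain ⟨b, hb, hb0, hd⟩ : ∃ b, μ = b * b ∧ b ≠ 0 ∧ 2 ≤ finrank F (End.eigenspace (Matrix.toLin' g) b) := by
        have h1 := Submodule.finrank_add_le_finrank_add_finrank (End.eigenspace (Matrix.toLin' g) a)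
          (End.eigenspace (Matrix.toLin' g) (-a))
        rw [eigen_split h2 hg2 hμa ha0, finrank_top, Module.finrank_fintype_fun_eq_card] at h1
        simp at h1
        by_cases h : 2 ≤ finrank F (End.eigenspace (Matrix.toLin' g) a)
        · exact ⟨a, hμa, ha0, h⟩
        · exact ⟨-a, by rw [hμa]; ring, neg_ne_zero.2 ha0, by omega⟩
      obtain ⟨x, hx, hx0, hxs⟩ := eigen_class h2 hQ hg hg2 hμ hc hb hb0 hd (one_ne_zero (α := F))
      obtain ⟨y, hy, hy0, hys⟩ := eigen_class h2 hQ hg hg2 hμ hc hb hb0 hd hν0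
      refine ⟨x, y, hx0, hy0, fun h => hν ?_, fun w => ?_⟩
      · rw [one_mul] at hxs
        exact (isSquare_mul_iff (((isSquare_iff_mul h2 hx0 hy0).1 h).1 hxs) hy0).1 hys
      · show g *ᵥ refl (qPlus F m) x (refl (qPlus F m) y w) = refl (qPlus F m) x (refl (qPlus F m) y (g *ᵥ w))
        rw [eigen_commutes hg hg2 hμ hc hx, eigen_commutes hg hg2 hμ hc hy]
    · obtain ⟨x, hx, hxg⟩ := exists_plane hodd hm hsq hg (fun v => hμ ▸ hg2 v)
      exact hplane hsq x hx hxg
  · by_cases hneg : IsSquare (-c)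
    · exfalso
      obtain ⟨a, ha⟩ := hneg
      have ha0 : a ≠ 0 := fun e => neg_ne_zero.2 hc (by rw [ha, e, mul_zero])
      have hμa : μ = a * a := hμ.trans ha
      have hts : ∀ b : F, μ = b * b → ∀ u ∈ End.eigenspace (Matrix.toLin' g) b, qPlus F m u = 0 := by
        intro b hb u hu
        have hgu : g *ᵥ u = b • u := by
          have := End.mem_eigenspace_iff.1 hu
          rwa [Matrix.toLin'_apply] at this
        have h1 := hg u
        rw [hgu, QuadraticMap.map_smul, smul_eq_mul, ← hb, hμ] at h1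
        exact (mul_eq_zero.1 (show (2 * c) * qPlus F m u = 0 by linear_combination -h1)).resolve_left (mul_ne_zero h2 hc)
      have hle : ∀ U : Submodule F (Fin m ⊕ Fin m → F), (∀ u ∈ U, qPlus F m u = 0) → finrank F U ≤ m := by
        intro U hU
        obtain ⟨x, hx⟩ := exists_iso_into hQ (N := m) (by simp; omega) (zeroRight_singular F) (finrank_zeroRight F m) U hU
        have h1 : U.map (x.1 : _ →ₗ[F] _) ≤ zeroRight F m := by rintro _ ⟨u, hu, rfl⟩; exact hx u hu
        have h3 := Submodule.finrank_mono h1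
        rw [LinearEquiv.finrank_map_eq x.1 U, finrank_zeroRight F m] at h3
        exact h3
      obtain ⟨U, hUdef⟩ : ∃ U, U = End.eigenspace (Matrix.toLin' g) a := ⟨_, rfl⟩
      have hU : ∀ u ∈ U, qPlus F m u = 0 := hUdef ▸ hts a hμa
      have hUd : finrank F U = m := by
        have h1 := Submodule.finrank_add_le_finrank_add_finrank U (End.eigenspace (Matrix.toLin' g) (-a))
        rw [hUdef, eigen_split h2 hg2 hμa ha0, finrank_top, Module.finrank_fintype_fun_eq_card] at h1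
        simp at h1
        have h3 := hle _ hU
        have h4 := hle _ (hts (-a) (by rw [hμa]; ring))
        rw [hUdef] at h3 ⊢
        omega
      have hmap : U.map (Matrix.toLin' g) = U := by
        refine le_antisymm ?_ fun u hu => ⟨a⁻¹ • u, U.smul_mem _ hu, ?_⟩
        · rintro _ ⟨u, hu, rfl⟩
          rw [hUdef] at hu ⊢
          rw [End.mem_eigenspace_iff.1 hu]
          exact Submodule.smul_mem _ _ hu
        · rw [hUdef] at hu
          rw [map_smul, End.mem_eigenspace_iff.1 hu, smul_smul, inv_mul_cancel₀ ha0, one_smul]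
      refine hdet ((parity_iff h2 hQ (by simp; omega) (zeroRight_singular F) (finrank_zeroRight F m) g c hc hg
        (GeneralLinearGroup.mkOfDetNeZero (dPlus m c) (by rw [det_dPlus]; exact pow_ne_zero _ hc)) (dPlus_sim m c)
        (fun u hu => ?_) (det_dPlus m c) U hU hUd).1 ?_)
      · rw [mem_zeroRight] at hu ⊢
        intro i
        show (dPlus m c *ᵥ u) (Sum.inr i) = 0
        rw [Matrix.mulVec_diagonal, hu, mul_zero]
      · rw [hmap, inf_idem, hUd, Nat.sub_self]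
        exact Even.zero
    · by_cases hsq : IsSquare c
      · exfalso
        obtain ⟨a, ha⟩ := hsq
        obtain ⟨J, hJ⟩ : ∃ J, J = a⁻¹ • g := ⟨_, rfl⟩
        have ha0 : a ≠ 0 := fun e => hc (by rw [ha, e, mul_zero])
        have hJJ : J * J = -1 := by
          refine Matrix.ext_of_mulVec_single fun i => ?_
          rw [← Matrix.mulVec_mulVec, hJ, Matrix.smul_mulVec, Matrix.smul_mulVec, Matrix.mulVec_smul, hg2, hμ, ha,
            Matrix.neg_mulVec, Matrix.one_mulVec, smul_smul, smul_smul]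
          rw [show a⁻¹ * a⁻¹ * -(a * a) = (-1 : F) by field_simp, neg_one_smul]
        have hsqJ : (1 + J).det * (1 + J).det = (2 : F) ^ (2 * m) * J.det := by
          rw [← Matrix.det_mul, show (1 + J) * (1 + J) = (2 : F) • J by
            rw [mul_add, add_mul, add_mul, hJJ, one_mul, one_mul, mul_one, two_smul]; abel, Matrix.det_smul]
          simp [two_mul]
        have hdJ : J.det = -1 := by
          rw [hJ, Matrix.det_smul, hdet'.resolve_left hdet, ha]
          simp only [Fintype.card_sum, Fintype.card_fin]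
          rw [← two_mul, pow_mul, ← mul_neg_one (((a * a) ^ m)), ← mul_assoc, ← mul_pow,
            show a⁻¹ ^ 2 * (a * a) = 1 by field_simp, one_pow, one_mul]
        rw [hdJ, pow_mul] at hsqJ
        refine hneg ?_
        have h2m : (2 : F) ^ m ≠ 0 := pow_ne_zero _ h2
        refine ⟨a * ((1 + J).det / 2 ^ m), ?_⟩
        rw [ha]
        field_simp
        rw [← pow_mul, mul_comm 2 m, pow_mul] at hsqJ
        linear_combination -hsqJ
      · obtain ⟨x, hx⟩ := exists_nonsing' hQ (by simp; omega)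
        refine hplane hsq x hx ?_
        have h1 := polar_adj hg hg2 x x
        rw [hμ, polar_comm (qPlus F m) (g *ᵥ x)] at h1
        exact (mul_eq_zero.1 (show (2 * c) * polar (qPlus F m) x (g *ᵥ x) = 0 by linear_combination -h1)).resolve_left
          (mul_ne_zero h2 hc)

set_option maxHeartbeats 1000000 in
/-- An element of odd class does not commute with one of non-square multiplier. -/
theorem SimSetup.commute_sign {ι : Type} [Fintype ι] [DecidableEq ι] {Q : QuadraticForm F (ι → F)} {N : ℕ}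
    (S : SimSetup Q N) (hneg : NegMem Q) (g g' : ↥(GO ⇑Q)) (hg : S.delta g ≠ 1) (hg' : S.delta g' = 1)
    (h : rho ⇑Q g' * rho ⇑Q g = rho ⇑Q g * rho ⇑Q g') : S.multSign g' = 1 := by
  by_contra hs
  obtain ⟨D, hD, hDd⟩ := S.exists_D
  obtain ⟨a, b, fr⟩ := S.exists_frame hneg D hD
  obtain ⟨d, hd⟩ : ∃ d : ↥(GO ⇑Q) ⧸ innSub Q, d = QuotientGroup.mk D := ⟨_, rfl⟩
  have hA := fr.conjA
  have hB := fr.conjB
  rw [← hd] at hA hB
  have hxy : (QuotientGroup.mk g' : ↥(GO ⇑Q) ⧸ innSub Q) * QuotientGroup.mk g =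
      QuotientGroup.mk g * QuotientGroup.mk g' := by
    rw [← QuotientGroup.mk_mul, ← QuotientGroup.mk_mul, QuotientGroup.eq, Subgroup.mem_comap, map_mul, map_inv, map_mul,
      map_mul, h, inv_mul_cancel]
    exact one_mem _
  have hab : a ≠ b := fun e => fr.ne (by rw [← e, fr.aa])
  obtain ⟨y, hy⟩ : ∃ y : ↥(GO ⇑Q) ⧸ innSub Q, y = QuotientGroup.mk g := ⟨_, rfl⟩
  rw [← hy] at hxy
  have hy' : y = a ∨ y = b ∨ y = a * d ∨ y = b * d := by
    by_cases hgs : S.multSign g = 1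
    · rcases fr.odd_class g hgs hg with e | e
      · exact Or.inl (hy.trans e)
      · exact Or.inr (Or.inl (hy.trans e))
    · have hdl : S.delta (g * D⁻¹) ≠ 1 := by rw [map_mul, map_inv, hDd, inv_one, mul_one]; exact hg
      rcases fr.odd_class (g * D⁻¹) (S.sign_mul_inv hgs hD) hdl with e | e <;>
        rw [QuotientGroup.mk_mul, QuotientGroup.mk_inv, mul_inv_eq_iff_eq_mul, ← hd, ← hy] at e
      · exact Or.inr (Or.inr (Or.inl e))
      · exact Or.inr (Or.inr (Or.inr e))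
  have hz : a * b * y = y * (a * b) := by
    have za : a * b * a = a * (a * b) := by rw [mul_assoc, ← fr.comm]
    have zb : a * b * b = b * (a * b) := by rw [← mul_assoc b a b, ← fr.comm]
    have zd : a * b * d = d * (a * b) := by rw [← mul_assoc d a b, hA, mul_assoc b d b, hB, ← mul_assoc b a d, ← fr.comm]
    rcases hy' with e | e | e | e <;> rw [e]
    · exact za
    · exact zb
    · rw [← mul_assoc (a * b) a d, za, mul_assoc a (a * b) d, zd, ← mul_assoc a d (a * b)]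
    · rw [← mul_assoc (a * b) b d, zb, mul_assoc b (a * b) d, zd, ← mul_assoc b d (a * b)]
  have hdy : d * y = y * d := by
    have he := fr.even_class (g' * D⁻¹) (S.sign_mul_inv hs hD) (by rw [map_mul, map_inv, hg', hDd, inv_one, mul_one])
    rw [QuotientGroup.mk_mul, QuotientGroup.mk_inv, mul_inv_eq_one, mul_inv_eq_iff_eq_mul, ← hd] at he
    rcases he with e | e <;> rw [e] at hxy
    · exact hxy
    · rw [mul_assoc (a * b) d y, ← mul_assoc y (a * b) d, ← hz, mul_assoc (a * b) y d] at hxy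
      exact mul_left_cancel hxy
  rcases hy' with e | e | e | e <;> rw [e] at hdy
  · rw [hA] at hdy; exact hab (mul_right_cancel hdy).symm
  · rw [hB] at hdy; exact hab (mul_right_cancel hdy)
  · rw [← mul_assoc, hA] at hdy; exact hab (mul_right_cancel (mul_right_cancel hdy)).symm
  · rw [← mul_assoc, hB] at hdy; exact hab (mul_right_cancel (mul_right_cancel hdy))

theorem inndiag_plus_eq (hodd : Odd (Fintype.card F)) (S : SimSetup (qPlus F m) m) :
    Cfsg.autSubgroupOf (fun β : MulAut (Cfsg.POmega F ⇑(qPlus F m)) => ∃ g : GL (Fin m ⊕ Fin m) F,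
      g ∈ GO ⇑(qPlus F m) ∧ Cfsg.PreservesSingularClasses (Cfsg.quadFormPlus m F) g.1 ∧
        Cfsg.IsInducedBySemilinearPOmega ⇑(qPlus F m) g (RingEquiv.refl F) β) = S.delta.ker.map (rho ⇑(qPlus F m)) := by
  rw [← autSub_eq (P := fun g => g ∈ GO ⇑(qPlus F m) ∧ Cfsg.PreservesSingularClasses (Cfsg.quadFormPlus m F) g.1)
    S.delta.ker (fun g => by rw [MonoidHom.mem_ker, ← preserves_plus hodd S g]; exact ⟨fun h => ⟨g.2, h⟩, fun h => h.2⟩)
    fun g hg => hg.1]
  simp only [and_assoc]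

set_option maxHeartbeats 1000000 in
/-- The statement for the form as a quadratic map. -/
theorem split_graph_aux (hodd : Odd (Fintype.card F)) (hm : 3 ≤ m) (S : SimSetup (qPlus F m) m) (hneg : NegMem (qPlus F m))
    (g : ↥(GO ⇑(qPlus F m))) (hgd : S.delta g ≠ 1) (hsq : rho ⇑(qPlus F m) g * rho ⇑(qPlus F m) g = 1) :
    Cfsg.splitClassCount (S.delta.ker.map (rho ⇑(qPlus F m))) (Cfsg.Inn (Cfsg.POmega F ⇑(qPlus F m)))
      (rho ⇑(qPlus F m) g) = 2 := by
  haveI : (Cfsg.Inn (Cfsg.POmega F ⇑(qPlus F m))).Normal := Cfsg.innNormal _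
  have hk : g * g ∈ (rho ⇑(qPlus F m)).ker := by rw [MonoidHom.mem_ker, map_mul]; exact hsq
  rw [S.hker] at hk
  obtain ⟨μ, hμ⟩ := (Cfsg.Geo.mem_scalars_iff _).1 hk
  have hg2 : ∀ v, (g : GL (Fin m ⊕ Fin m) F).1 *ᵥ ((g : GL (Fin m ⊕ Fin m) F).1 *ᵥ v) = (μ : F) • v := fun v => by
    have h := congrArg (fun M => M *ᵥ v) hμ
    simp only [Subgroup.coe_subtype, Subgroup.coe_mul, Units.val_mul, ← Matrix.mulVec_mulVec, Matrix.smul_mulVec,
      Matrix.one_mulVec] at h
    exact h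
  obtain ⟨x, y, hx, hy, hxy, hcom⟩ := exists_commuting hodd hm (Units.ne_zero _) (mult_spec g) hg2
    (fun e => hgd ((S.delta_eq_one g).2 e)) (S.det_pm g)
  obtain ⟨h₀, hh₀⟩ := exists_word_mat (Q := qPlus F m) rfl [x, y]
  have hne : ∀ v ∈ [x, y], qPlus F m v ≠ 0 := by simp [hx, hy]
  have hcomm : rho ⇑(qPlus F m) (incl ⇑(qPlus F m) h₀) * rho ⇑(qPlus F m) g =
      rho ⇑(qPlus F m) g * rho ⇑(qPlus F m) (incl ⇑(qPlus F m) h₀) := by
    rw [← map_mul, ← map_mul]
    congr 1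
    refine Subtype.ext (Units.ext (Matrix.ext_of_mulVec_single fun i => ?_))
    show (h₀.1.1 * (g : GL (Fin m ⊕ Fin m) F).1) *ᵥ _ = ((g : GL (Fin m ⊕ Fin m) F).1 * h₀.1.1) *ᵥ _
    rw [← Matrix.mulVec_mulVec, ← Matrix.mulVec_mulVec, hh₀, hh₀, hcom]
  have hh₀d : S.delta (incl ⇑(qPlus F m) h₀) = 1 := (S.delta_incl h₀ [x, y] hne hh₀).2 ⟨1, rfl⟩
  -- the sign of the multiplier on the inner-diagonal group
  obtain ⟨φ, hφ, hφk⟩ := exists_quot_hom (rho ⇑(qPlus F m)) S.delta.ker (specialSub ⇑(qPlus F m))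
    (S.multSign.comp S.delta.ker.subtype) (fun z => by
      rcases Int.units_eq_one_or z with rfl | rfl
      · exact ⟨1, map_one _⟩
      · obtain ⟨D, hD, hDd⟩ := S.exists_D
        exact ⟨⟨D, MonoidHom.mem_ker.2 hDd⟩,
          (Int.units_eq_one_or _).resolve_left fun e => hD ((S.multSign_eq_one D).1 e)⟩)
    (fun x => by
      rw [S.rho_mem_special]
      exact ⟨fun e => ⟨e, MonoidHom.mem_ker.1 x.2⟩, fun e => e.1⟩)
  have hle : Cfsg.Inn (Cfsg.POmega F ⇑(qPlus F m)) ≤ S.delta.ker.map (rho ⇑(qPlus F m)) := by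
    rw [inn_eq]
    refine Subgroup.map_mono fun z hz => MonoidHom.mem_ker.2 ?_
    exact ((S.mem_special z).1 (S.omega_le_special hz)).2
  rw [split_eq_card φ hφ ?_ hle]
  · simp
  rintro ⟨_, g', hg', rfl⟩
  have hg'd : S.delta g' = 1 := MonoidHom.mem_ker.1 hg'
  constructor
  · intro h1
    have h1' : (⟨rho ⇑(qPlus F m) g', g', hg', rfl⟩ : ↥(S.delta.ker.map (rho ⇑(qPlus F m)))) ∈ φ.ker := h1
    rw [hφk, Subgroup.mem_subgroupOf] at h1'
    obtain ⟨s, hs, he⟩ := h1'
    obtain ⟨s1, s2⟩ := (S.mem_special s).1 hs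
    obtain ⟨k, rfl⟩ : ∃ k, s = incl ⇑(qPlus F m) k := ⟨⟨(s : GL (Fin m ⊕ Fin m) F), fun v _ => by
        show qPlus F m ((s : GL (Fin m ⊕ Fin m) F).1 *ᵥ v) = qPlus F m v
        rw [mult_spec, s1, Units.val_one, one_mul]⟩, rfl⟩
    obtain ⟨vs, hvs, hM⟩ := exists_list_mat rfl S.pnd S.gen k
    have hev := (S.delta_incl k vs hvs hM).1 s2
    change ∃ k' ∈ _, k'⁻¹ * rho ⇑(qPlus F m) g' * _ = _ * (k'⁻¹ * rho ⇑(qPlus F m) g')
    change rho ⇑(qPlus F m) (incl ⇑(qPlus F m) k) = rho ⇑(qPlus F m) g' at he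
    rw [← he, inn_eq]
    by_cases hsv : IsSquare (vs.map fun v => qPlus F m v).prod
    · exact ⟨_, ⟨_, ⟨k, (mem_omega rfl S.pnd k vs hvs hM).2 ⟨hev, hsv⟩, rfl⟩, rfl⟩, by simp⟩
    · obtain ⟨h₁, hh₁⟩ := exists_word_mat (Q := qPlus F m) rfl [y, x]
      refine ⟨rho ⇑(qPlus F m) (incl ⇑(qPlus F m) (k * h₁)), ⟨_, ⟨k * h₁, ?_, rfl⟩, rfl⟩, ?_⟩
      · refine (mem_omega rfl S.pnd (k * h₁) (vs ++ [y, x])
          (fun v hv => (List.mem_append.1 hv).elim (hvs v) (by simp only [List.mem_cons, List.not_mem_nil, or_false]; rintro (rfl | rfl) <;> assumption))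
          fun v => ?_).2 ⟨?_, ?_⟩
        · rw [Subgroup.coe_mul, Units.val_mul, ← Matrix.mulVec_mulVec, hh₁, hM, prodRf_append]
          rfl
        · rw [List.length_append]; exact hev.add ⟨1, rfl⟩
        · simp only [List.map_append, List.prod_append, List.map_cons, List.map_nil, List.prod_cons, List.prod_nil, mul_one]
          rw [isSquare_iff_mul S.h2 (values_ne hvs) (mul_ne_zero hy hx), mul_comm]
          exact iff_of_false hsv hxy
      · have hinv : h₁ = h₀⁻¹ := by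
          refine Subtype.ext (Units.ext (Matrix.ext_of_mulVec_single fun i => ?_))
          rw [hh₁]
          have e : (prodRf (qPlus F m) [y, x]).1 (Pi.single i 1) = (prodRf (qPlus F m) [x, y]).1.symm (Pi.single i 1) := by
            rw [show [y, x] = [x, y].reverse from rfl, prodRf_reverse]; rfl
          rw [e]
          apply (prodRf (qPlus F m) [x, y]).1.injective
          rw [LinearEquiv.apply_symm_apply, ← hh₀, Matrix.mulVec_mulVec, ← Units.val_mul, ← Subgroup.coe_mul,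
            mul_inv_cancel, Subgroup.coe_one, Units.val_one, Matrix.one_mulVec]
        rw [hinv, map_mul, map_mul, map_inv, map_inv, _root_.mul_inv_rev, inv_inv]
        simpa only [mul_assoc, inv_mul_cancel_left, inv_mul_cancel, mul_one] using hcomm
  · rintro ⟨k, hk', hkc⟩
    change k⁻¹ * rho ⇑(qPlus F m) g' * _ = _ * (k⁻¹ * rho ⇑(qPlus F m) g') at hkc
    rw [inn_eq] at hk'
    obtain ⟨s, hs, rfl⟩ := hk'
    obtain ⟨s1, s2⟩ := (S.mem_special s).1 (S.omega_le_special hs)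
    rw [← map_inv, ← map_mul] at hkc
    have h1 := S.commute_sign hneg g (s⁻¹ * g') hgd (by rw [map_mul, map_inv, s2, hg'd, inv_one, one_mul]) hkc
    have h3 : S.multSign g' = 1 := by
      rwa [map_mul, map_inv, (S.multSign_eq_one s).2 (by rw [s1]; exact IsSquare.one), inv_one, one_mul] at h1
    have h4 : (⟨rho ⇑(qPlus F m) g', g', hg', rfl⟩ : ↥(S.delta.ker.map (rho ⇑(qPlus F m)))) ∈ φ.ker := by
      rw [hφk, Subgroup.mem_subgroupOf]
      exact (S.rho_mem_special g').2 ⟨h3, hg'd⟩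
    exact h4

/-- The splitting for the standard plus form. -/
theorem split_graph (hodd : Odd (Fintype.card F)) (hm : 3 ≤ m) (hc : ¬ (Odd m ∧ Fintype.card F % 4 = 3))
    (γ : MulAut (Cfsg.POmega F (Cfsg.quadFormPlus m F))) (hγ : Cfsg.IsSimilarityGraphAutPOmegaPlus m γ)
    (hγ2 : γ * γ = 1) :
    Cfsg.splitClassCount (Cfsg.inndiagPOmegaPlus m F) (Cfsg.Inn (Cfsg.POmega F (Cfsg.quadFormPlus m F))) γ = 2 := by
  have S := setupPlus hodd hm
  obtain ⟨g, hgGO, hgP, hgI⟩ := hγ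
  suffices H : ∀ (q : (Fin m ⊕ Fin m → F) → F) (_ : ⇑(qPlus F m) = q) (δ : MulAut (Cfsg.POmega F q))
      (_ : g ∈ GO q) (_ : Cfsg.IsInducedBySemilinearPOmega q g (RingEquiv.refl F) δ) (_ : δ * δ = 1),
      Cfsg.splitClassCount (Cfsg.autSubgroupOf fun β : MulAut (Cfsg.POmega F q) => ∃ g : GL (Fin m ⊕ Fin m) F,
        g ∈ GO q ∧ Cfsg.PreservesSingularClasses (Cfsg.quadFormPlus m F) g.1 ∧
          Cfsg.IsInducedBySemilinearPOmega q g (RingEquiv.refl F) β) (Cfsg.Inn (Cfsg.POmega F q)) δ = 2 from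
    H _ (coe_plus m) γ hgGO hgI hγ2
  intro q hq δ hg hI h1
  subst hq
  rw [inndiag_plus_eq hodd S, (induced_iff ⟨g, hg⟩ δ).1 hI]
  exact split_graph_aux hodd hm S ((negMem_plus hodd (by omega)).2 hc) ⟨g, hg⟩
    (fun e => hgP ((preserves_plus hodd S ⟨g, hg⟩).2 e)) ((induced_iff ⟨g, hg⟩ δ).1 hI ▸ h1)

end Cfsg.Agent.Small.Orth
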