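import Cfsg.Agent.Lib.Small.Orth.SimStruct

/-!
# Similitudes modulo the inner automorphisms

Even dimension, odd characteristic.
-/

set_option autoImplicit false
set_option linter.unusedSectionVars false

namespace Cfsg.Agent.Small.Orth

open Matrix QuadraticMap Cfsg.Agent.Classical Cfsg.Agent.Classical.OCount Cfsg.Agent.Classical.ORefl
  Cfsg.Agent.Classical.OOmega

variable {F : Type*} [Field F] [Finite F] {ι : Type} [Fintype ι] [DecidableEq ι]
  {Q : QuadraticForm F (ι → F)} {N : ℕ}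

/-- `Ω` consists of special isometries. -/
theorem SimSetup.omega_le_special (S : SimSetup Q N) : omegaSub ⇑Q ≤ specialSub ⇑Q := by
  rintro _ ⟨s, hs, rfl⟩
  obtain ⟨vs, hvs, hM⟩ := exists_list_mat rfl S.pnd S.gen s
  exact (S.mem_special _).2 ⟨S.mult_incl s,
    (S.delta_incl s vs hvs hM).2 ((mem_omega rfl S.pnd s vs hvs hM).1 hs).1⟩

/-- The similitudes acting as inner automorphisms. -/
noncomputable abbrev innSub (Q : QuadraticForm F (ι → F)) : Subgroup ↥(GO ⇑Q) :=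
  ((omegaSub ⇑Q).map (rho ⇑Q)).comap (rho ⇑Q)

instance innSub_normal (Q : QuadraticForm F (ι → F)) : (innSub Q).Normal := by
  haveI : ((omegaSub ⇑Q).map (rho ⇑Q)).Normal := inn_eq (q := ⇑Q) ▸ Cfsg.innNormal _
  exact Subgroup.Normal.comap inferInstance _

theorem SimSetup.innSub_sign (S : SimSetup Q N) {g : ↥(GO ⇑Q)} (hg : g ∈ innSub Q) :
    S.multSign g = 1 ∧ S.delta g = 1 :=
  (S.rho_mem_special g).1 (Subgroup.map_mono S.omega_le_special hg)

/-- Words of the same parity and class give the same coset. -/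
theorem SimSetup.coset_eq (S : SimSetup Q N) (hneg : NegMem Q) (h h' : ↥(Cfsg.isometryGroup F ⇑Q))
    (vs ws : List (ι → F)) (hvs : ∀ v ∈ vs, Q v ≠ 0) (hws : ∀ v ∈ ws, Q v ≠ 0)
    (hM : ∀ x, h.1.1 *ᵥ x = (prodRf Q vs).1 x) (hM' : ∀ x, h'.1.1 *ᵥ x = (prodRf Q ws).1 x)
    (he : Even (vs.length + ws.length))
    (hsq : IsSquare ((vs.map fun v => Q v).prod * (ws.map fun v => Q v).prod)) :
    (QuotientGroup.mk (incl ⇑Q h) : ↥(GO ⇑Q) ⧸ innSub Q) = QuotientGroup.mk (incl ⇑Q h') := by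
  rw [QuotientGroup.eq, Subgroup.mem_comap, ← map_inv, ← map_mul, rho_incl_mem_of_neg S hneg]
  have hinv : ∀ x, (h⁻¹).1.1 *ᵥ x = (prodRf Q vs.reverse).1 x := fun x => by
    rw [prodRf_reverse]
    show (h⁻¹).1.1 *ᵥ x = (prodRf Q vs).1.symm x
    apply (prodRf Q vs).1.injective
    rw [LinearEquiv.apply_symm_apply, ← hM, Matrix.mulVec_mulVec, ← Units.val_mul, ← Subgroup.coe_mul,
      mul_inv_cancel, Subgroup.coe_one, Units.val_one, Matrix.one_mulVec]
  refine (mem_omega rfl S.pnd _ (vs.reverse ++ ws)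
    (fun v hv => (List.mem_append.1 hv).elim (fun hv => hvs v (List.mem_reverse.1 hv)) (hws v)) fun x => ?_).2 ⟨?_, ?_⟩
  · rw [Subgroup.coe_mul, Units.val_mul, ← Matrix.mulVec_mulVec, hM', hinv, prodRf_append]
    rfl
  · rwa [List.length_append, List.length_reverse]
  · rw [List.map_append, List.prod_append, List.map_reverse, List.prod_reverse]
    exact hsq

/-- The conjugate of a reflection by a similitude. -/
theorem SimSetup.conj_refl_word (S : SimSetup Q N) (D : ↥(GO ⇑Q)) (r : ↥(Cfsg.isometryGroup F ⇑Q)) (u : ι → F)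
    (hr : ∀ x, r.1.1 *ᵥ x = (prodRf Q [u]).1 x) :
    ∀ x, (isoConj ⇑Q D r).1.1 *ᵥ x = (prodRf Q [(D : GL ι F).1 *ᵥ u]).1 x := by
  intro x
  obtain ⟨y, rfl⟩ : ∃ y, x = (D : GL ι F).1 *ᵥ y := ⟨((D : GL ι F)⁻¹).1 *ᵥ x, by
    rw [Matrix.mulVec_mulVec, ← Units.val_mul, mul_inv_cancel, Units.val_one, Matrix.one_mulVec]⟩
  show ((D : GL ι F) * r.1 * (D : GL ι F)⁻¹).1 *ᵥ _ = _
  rw [Units.val_mul, Units.val_mul, ← Matrix.mulVec_mulVec,
    show ((D : GL ι F)⁻¹).1 *ᵥ ((D : GL ι F).1 *ᵥ y) = y by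
      rw [Matrix.mulVec_mulVec, ← Units.val_mul, inv_mul_cancel, Units.val_one, Matrix.one_mulVec],
    ← Matrix.mulVec_mulVec, hr]
  show (D : GL ι F).1 *ᵥ (ORefl.refl Q u y) =
    ORefl.refl Q ((D : GL ι F).1 *ᵥ u) ((D : GL ι F).1 *ᵥ y)
  rw [refl_apply, refl_apply, Matrix.mulVec_sub, Matrix.mulVec_smul, mult_spec]
  have hp : polar (⇑Q) ((D : GL ι F).1 *ᵥ u) ((D : GL ι F).1 *ᵥ y) = (mult D : F) * polar (⇑Q) u y := by
    simp only [QuadraticMap.polar, ← Matrix.mulVec_add, mult_spec]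
    ring
  rw [hp, mul_inv, show (mult D : F)⁻¹ * (Q u)⁻¹ * ((mult D : F) * polar (⇑Q) u y) = (Q u)⁻¹ * polar (⇑Q) u y by
    field_simp]

/-- The generators of the quotient. -/
structure Frame (S : SimSetup Q N) (D : ↥(GO ⇑Q))
    (a b : ↥(GO ⇑Q) ⧸ innSub Q) : Prop where
  aa : a * a = 1
  bb : b * b = 1
  comm : a * b = b * a
  ne : a * b ≠ 1
  conjA : QuotientGroup.mk D * a = b * QuotientGroup.mk D
  conjB : QuotientGroup.mk D * b = a * QuotientGroup.mk D
  even_class : ∀ g : ↥(GO ⇑Q), S.multSign g = 1 → S.delta g = 1 →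
    (QuotientGroup.mk g : ↥(GO ⇑Q) ⧸ innSub Q) = 1 ∨ QuotientGroup.mk g = a * b
  odd_class : ∀ g : ↥(GO ⇑Q), S.multSign g = 1 → S.delta g ≠ 1 →
    (QuotientGroup.mk g : ↥(GO ⇑Q) ⧸ innSub Q) = a ∨ QuotientGroup.mk g = b

theorem SimSetup.exists_frame (S : SimSetup Q N) (hneg : NegMem Q) (D : ↥(GO ⇑Q))
    (hD : ¬ IsSquare (mult D : F)) : ∃ a b, Frame S D a b := by
  obtain ⟨r, u, hu, hr⟩ := S.exists_refl (c := 1) one_ne_zero
  obtain ⟨r', w, hw, hr'⟩ := S.exists_refl (c := (mult D : F)) (Units.ne_zero _)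
  have hu0 : Q u ≠ 0 := hu ▸ one_ne_zero
  have hw0 : Q w ≠ 0 := hw ▸ Units.ne_zero _
  have hmul : ∀ (h k : ↥(Cfsg.isometryGroup F ⇑Q)) (vs ws : List (ι → F)),
      (∀ x, h.1.1 *ᵥ x = (prodRf Q vs).1 x) → (∀ x, k.1.1 *ᵥ x = (prodRf Q ws).1 x) →
      ∀ x, (h * k).1.1 *ᵥ x = (prodRf Q (vs ++ ws)).1 x := fun h k vs ws e1 e2 x => by
    rw [Subgroup.coe_mul, Units.val_mul, ← Matrix.mulVec_mulVec, e2, e1, prodRf_append]
    rfl
  have hone : ∀ x, ((1 : ↥(Cfsg.isometryGroup F ⇑Q)).1.1) *ᵥ x = (prodRf Q []).1 x := fun x => by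
    rw [Subgroup.coe_one, Units.val_one, Matrix.one_mulVec]; rfl
  have hmk1 : (QuotientGroup.mk (incl ⇑Q 1) : ↥(GO ⇑Q) ⧸ innSub Q) = 1 := by rw [map_one]; rfl
  have hrr : ∀ (h : ↥(Cfsg.isometryGroup F ⇑Q)) (v : ι → F), Q v ≠ 0 →
      (∀ x, h.1.1 *ᵥ x = (prodRf Q [v]).1 x) →
      (QuotientGroup.mk (incl ⇑Q h) : ↥(GO ⇑Q) ⧸ innSub Q) * QuotientGroup.mk (incl ⇑Q h) = 1 := by
    intro h v hv hh
    rw [← QuotientGroup.mk_mul, ← map_mul, ← hmk1]
    exact S.coset_eq hneg _ _ [v, v] [] (by simp [hv]) (by simp) (hmul h h [v] [v] hh hh) hone ⟨1, rfl⟩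
      (by simp)
  refine ⟨QuotientGroup.mk (incl ⇑Q r), QuotientGroup.mk (incl ⇑Q r'), hrr r u hu0 hr, hrr r' w hw0 hr', ?_, ?_, ?_, ?_,
    ?_, ?_⟩
  · rw [← QuotientGroup.mk_mul, ← map_mul, ← QuotientGroup.mk_mul, ← map_mul]
    refine S.coset_eq hneg _ _ [u, w] [w, u] (by simp [hu0, hw0]) (by simp [hu0, hw0]) (hmul r r' [u] [w] hr hr')
      (hmul r' r [w] [u] hr' hr) ⟨2, rfl⟩ ?_
    simp only [List.map_cons, List.map_nil, List.prod_cons, List.prod_nil, mul_one]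
    rw [mul_comm (Q w)]
    exact IsSquare.mul_self _
  · rw [← QuotientGroup.mk_mul, ← map_mul, Ne, QuotientGroup.eq_one_iff, Subgroup.mem_comap,
      rho_incl_mem_of_neg S hneg, mem_omega rfl S.pnd (r * r') [u, w] (by simp [hu0, hw0]) (hmul r r' [u] [w] hr hr')]
    rintro ⟨-, h⟩
    simp [hu, hw, hD] at h
  · rw [← QuotientGroup.mk_mul,
      show D * incl ⇑Q r = incl ⇑Q (isoConj ⇑Q D r) * D from Subtype.ext (inv_mul_cancel_right _ (D : GL ι F)).symm,
      QuotientGroup.mk_mul]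
    congr 1
    refine S.coset_eq hneg _ _ [(D : GL ι F).1 *ᵥ u] [w] ?_ (by simp [hw0]) (S.conj_refl_word D r u hr) hr' ⟨1, rfl⟩ ?_
    · simp [mult_spec, hu0]
    · simp [mult_spec, hu, hw]
  · rw [← QuotientGroup.mk_mul,
      show D * incl ⇑Q r' = incl ⇑Q (isoConj ⇑Q D r') * D from Subtype.ext (inv_mul_cancel_right _ (D : GL ι F)).symm,
      QuotientGroup.mk_mul]
    congr 1
    refine S.coset_eq hneg _ _ [(D : GL ι F).1 *ᵥ w] [u] ?_ (by simp [hu0]) (S.conj_refl_word D r' w hr') hr ⟨1, rfl⟩ ?_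
    · simp [mult_spec, hw0]
    · simp [mult_spec, hu, hw]
  · intro g hg1 hg2
    obtain ⟨c, h, rfl⟩ := S.decomp g ((S.multSign_eq_one g).1 hg1)
    rw [map_mul, (S.delta_scalar c).2, one_mul] at hg2
    obtain ⟨vs, hvs, hM⟩ := exists_list_mat rfl S.pnd S.gen h
    have hev := (S.delta_incl h vs hvs hM).1 hg2
    rw [QuotientGroup.mk_mul,
      show (QuotientGroup.mk (scalarG Q c) : ↥(GO ⇑Q) ⧸ innSub Q) = 1 from (QuotientGroup.eq_one_iff _).2 (by
        rw [Subgroup.mem_comap, MonoidHom.mem_ker.1 (scalarSub_le_ker (scalarG_mem c))]; exact one_mem _),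
      one_mul]
    by_cases hsq : IsSquare (vs.map fun v => Q v).prod
    · left
      rw [← hmk1]
      exact S.coset_eq hneg _ _ vs [] hvs (by simp) hM hone (by simpa using hev) (by simpa using hsq)
    · right
      rw [← QuotientGroup.mk_mul, ← map_mul]
      refine S.coset_eq hneg _ _ vs [u, w] hvs (by simp [hu0, hw0]) hM (hmul r r' [u] [w] hr hr')
        (hev.add ⟨1, rfl⟩) ?_
      simp only [List.map_cons, List.map_nil, List.prod_cons, List.prod_nil, mul_one, hu, hw, one_mul]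
      rw [isSquare_iff_mul S.h2 (values_ne hvs) (Units.ne_zero _)]
      exact iff_of_false hsq hD
  · intro g hg1 hg2
    obtain ⟨c, h, rfl⟩ := S.decomp g ((S.multSign_eq_one g).1 hg1)
    rw [map_mul, (S.delta_scalar c).2, one_mul] at hg2
    obtain ⟨vs, hvs, hM⟩ := exists_list_mat rfl S.pnd S.gen h
    have hodd : Odd vs.length := Nat.not_even_iff_odd.1 fun he => hg2 ((S.delta_incl h vs hvs hM).2 he)
    rw [QuotientGroup.mk_mul,
      show (QuotientGroup.mk (scalarG Q c) : ↥(GO ⇑Q) ⧸ innSub Q) = 1 from (QuotientGroup.eq_one_iff _).2 (by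
        rw [Subgroup.mem_comap, MonoidHom.mem_ker.1 (scalarSub_le_ker (scalarG_mem c))]; exact one_mem _),
      one_mul]
    by_cases hsq : IsSquare (vs.map fun v => Q v).prod
    · left
      exact S.coset_eq hneg _ _ vs [u] hvs (by simp [hu0]) hM hr (hodd.add_odd odd_one) (by simpa [hu] using hsq)
    · right
      refine S.coset_eq hneg _ _ vs [w] hvs (by simp [hw0]) hM hr' (hodd.add_odd odd_one) ?_
      simp only [List.map_cons, List.map_nil, List.prod_cons, List.prod_nil, mul_one, hw]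
      rw [isSquare_iff_mul S.h2 (values_ne hvs) (Units.ne_zero _)]
      exact iff_of_false hsq hD

theorem SimSetup.exists_D (S : SimSetup Q N) :
    ∃ D : ↥(GO ⇑Q), ¬ IsSquare (mult D : F) ∧ S.delta D = 1 := by
  obtain ⟨ν, hν⟩ := S.exists_nonsquare
  obtain ⟨D, h1, h3⟩ := S.hD ν
  have hm : mult D = ν := Units.ext (S.mult_eq D h1)
  exact ⟨D, hm ▸ hν, (S.delta_eq_one D).2 (by rw [h3, hm])⟩

theorem SimSetup.sign_mul_inv (S : SimSetup Q N) {g D : ↥(GO ⇑Q)} (hg : S.multSign g ≠ 1) (hD : ¬ IsSquare (mult D : F)) :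
    S.multSign (g * D⁻¹) = 1 := by
  have h1 : S.multSign D = -1 :=
    (Int.units_eq_one_or _).resolve_left fun h => hD ((S.multSign_eq_one D).1 h)
  rw [map_mul, map_inv, h1, (Int.units_eq_one_or _).resolve_left hg]
  decide

theorem SimSetup.D_notMem (S : SimSetup Q N) {g : ↥(GO ⇑Q)} (hg : S.multSign g ≠ 1) :
    (QuotientGroup.mk g : ↥(GO ⇑Q) ⧸ innSub Q) ≠ 1 := fun h =>
  hg (S.innSub_sign ((QuotientGroup.eq_one_iff g).1 h)).1

set_option maxHeartbeats 1000000 in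
/-- The similitudes modulo the inner automorphisms. -/
theorem SimSetup.pgo_inn (S : SimSetup Q N) :
    (¬ NegMem Q → ∃ φ : ↥(Cfsg.pgoAut F ⇑Q) →* Multiplicative (ZMod 2 × ZMod 2), Function.Surjective φ ∧
      φ.ker = (Cfsg.Inn (Cfsg.POmega F ⇑Q)).subgroupOf (Cfsg.pgoAut F ⇑Q)) ∧
    (NegMem Q → ∃ φ : ↥(Cfsg.pgoAut F ⇑Q) →* DihedralGroup 4, Function.Surjective φ ∧
      φ.ker = (Cfsg.Inn (Cfsg.POmega F ⇑Q)).subgroupOf (Cfsg.pgoAut F ⇑Q)) := by
  refine ⟨fun hneg => ?_, fun hneg => ?_⟩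
  · have h := S.pgo_pso
    rw [psoAut_eq, S.special_eq_inn hneg, ← inn_eq] at h
    exact h
  obtain ⟨D, hD, hDd⟩ := S.exists_D
  obtain ⟨a, b, fr⟩ := S.exists_frame hneg D hD
  obtain ⟨d, hd⟩ : ∃ d : ↥(GO ⇑Q) ⧸ innSub Q, d = QuotientGroup.mk D := ⟨_, rfl⟩
  have hA := fr.conjA
  have hB := fr.conjB
  rw [← hd] at hA hB
  have hdd : d * d = 1 ∨ d * d = a * b := by
    rw [hd, ← QuotientGroup.mk_mul]
    refine fr.even_class (D * D) ?_ (by rw [map_mul, hDd, one_mul])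
    rw [map_mul]; exact Int.units_mul_self _
  obtain ⟨R, hRR, hRc, hR⟩ : ∃ R, R * R = a * b ∧ a * R * a = R⁻¹ ∧ (R = d ∨ R = a * d) := by
    rcases hdd with h | h
    · refine ⟨a * d, ?_, ?_, Or.inr rfl⟩
      · rw [show a * d * (a * d) = a * (d * a) * d by group, hA, show a * (b * d) * d = a * b * (d * d) by group, h,
          mul_one]
      · rw [eq_inv_iff_mul_eq_one, show a * (a * d) * a * (a * d) = a * a * d * (a * a) * d by group, fr.aa, one_mul,
          mul_one, h]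
    · refine ⟨d, h, ?_, Or.inl rfl⟩
      rw [eq_inv_iff_mul_eq_one, mul_assoc a d a, hA, show a * (b * d) * d = a * b * (d * d) by group, h,
        show a * b * (a * b) = a * b * (b * a) by rw [← fr.comm], show a * b * (b * a) = a * (b * b) * a by group,
        fr.bb, mul_one, fr.aa]
  have hR4 : R ^ 4 = 1 := by
    rw [show (4 : ℕ) = 2 * 2 from rfl, pow_mul, pow_two R, hRR, pow_two,
      show a * b * (a * b) = a * b * (b * a) by rw [← fr.comm], show a * b * (b * a) = a * (b * b) * a by group,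
      fr.bb, mul_one, fr.aa]
  obtain ⟨f, hf1, hf2⟩ := exists_dihHom R a hR4 fr.aa hRc
  have hinj : Function.Injective f := dihedral_four_faithful f (by
    rw [hf1, show ((2 : ZMod 4)).val = 2 from rfl, pow_two, hRR]; exact fr.ne)
  have hsurj : Function.Surjective f := by
    have ha : a ∈ f.range := ⟨DihedralGroup.sr 0, by rw [hf2]; simp⟩
    have hRm : R ∈ f.range := ⟨DihedralGroup.r 1, by rw [hf1, show ((1 : ZMod 4)).val = 1 from rfl, pow_one]⟩
    have hdm : d ∈ f.range := by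
      rcases hR with h | h
      · exact h ▸ hRm
      · rw [show d = a * R by rw [h, ← mul_assoc, fr.aa, one_mul]]
        exact mul_mem ha hRm
    have hb : b ∈ f.range := by
      rw [show b = d * a * d⁻¹ by rw [hA, mul_inv_cancel_right]]
      exact mul_mem (mul_mem hdm ha) (inv_mem hdm)
    have hsq : ∀ g, S.multSign g = 1 → (QuotientGroup.mk g : ↥(GO ⇑Q) ⧸ innSub Q) ∈ f.range := fun g hg => by
      by_cases hdl : S.delta g = 1
      · rcases fr.even_class g hg hdl with h | h <;> rw [h]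
        exacts [one_mem _, mul_mem ha hb]
      · rcases fr.odd_class g hg hdl with h | h <;> rw [h]
        exacts [ha, hb]
    intro y
    obtain ⟨g, rfl⟩ := QuotientGroup.mk_surjective y
    by_cases hg : S.multSign g = 1
    · exact hsq g hg
    · rw [show g = g * D⁻¹ * D by group, QuotientGroup.mk_mul]
      exact mul_mem (hsq _ (S.sign_mul_inv hg hD)) (hd ▸ hdm)
  let e := MulEquiv.ofBijective f ⟨hinj, hsurj⟩
  have h := exists_quot_hom (rho ⇑Q) ⊤ (omegaSub ⇑Q)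
    ((e.symm.toMonoidHom.comp (QuotientGroup.mk' (innSub Q))).comp (⊤ : Subgroup ↥(GO ⇑Q)).subtype)
    (fun y => by
      obtain ⟨g, hg⟩ := QuotientGroup.mk_surjective (e y)
      exact ⟨⟨g, Subgroup.mem_top g⟩, by
        show e.symm (QuotientGroup.mk g) = y
        rw [hg, e.symm_apply_apply]⟩)
    (fun x => by
      show e.symm (QuotientGroup.mk x.1) = 1 ↔ _
      rw [EmbeddingLike.map_eq_one_iff, QuotientGroup.eq_one_iff, Subgroup.mem_comap])
  rw [← MonoidHom.range_eq_map] at h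
  rw [pgoAut_eq, inn_eq]
  exact h

set_option maxHeartbeats 1000000 in
/-- The class-preserving similitudes modulo the inner automorphisms. -/
theorem SimSetup.delta_inn (S : SimSetup Q N) (T : Subgroup (MulAut (Cfsg.POmega F ⇑Q)))
    (hT : T = S.delta.ker.map (rho ⇑Q)) :
    (¬ NegMem Q → ∃ φ : ↥T →* Multiplicative (ZMod 2), Function.Surjective φ ∧
      φ.ker = (Cfsg.Inn (Cfsg.POmega F ⇑Q)).subgroupOf T) ∧
    (NegMem Q → ∀ (D : ↥(GO ⇑Q)) (k : ↥(Cfsg.isometryGroup F ⇑Q)) (c : Fˣ), ¬ IsSquare (mult D : F) →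
      S.delta D = 1 → D * D = scalarG Q c * incl ⇑Q k →
      (k ∈ Cfsg.Omega F ⇑Q → ∃ φ : ↥T →* Multiplicative (ZMod 2 × ZMod 2), Function.Surjective φ ∧
          φ.ker = (Cfsg.Inn (Cfsg.POmega F ⇑Q)).subgroupOf T) ∧
        (k ∉ Cfsg.Omega F ⇑Q → ∃ φ : ↥T →* Multiplicative (ZMod 4), Function.Surjective φ ∧
          φ.ker = (Cfsg.Inn (Cfsg.POmega F ⇑Q)).subgroupOf T)) := by
  subst hT
  rw [inn_eq]
  refine ⟨fun hneg => ?_, fun hneg D k c hD hDd hDD => ?_⟩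
  · haveI : IsCyclic ℤˣ := isCyclic_of_prime_card (p := 2) (by simp)
    let e : ℤˣ ≃* Multiplicative (ZMod 2) := mulEquivOfCyclicCardEq (by simp)
    obtain ⟨D, hD, hDd⟩ := S.exists_D
    refine exists_quot_hom (rho ⇑Q) S.delta.ker (omegaSub ⇑Q)
      ((e.toMonoidHom.comp S.multSign).comp S.delta.ker.subtype) (fun y => ?_) (fun x => ?_)
    · rcases Int.units_eq_one_or (e.symm y) with h | h
      · exact ⟨1, by rw [map_one, ← e.apply_symm_apply y, h, map_one]⟩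
      · refine ⟨⟨D, MonoidHom.mem_ker.2 hDd⟩, ?_⟩
        show e (S.multSign D) = y
        rw [(Int.units_eq_one_or _).resolve_left fun h' => hD ((S.multSign_eq_one D).1 h'), ← h, e.apply_symm_apply]
    · show e (S.multSign x.1) = 1 ↔ _
      rw [EmbeddingLike.map_eq_one_iff, ← S.special_eq_inn hneg, S.rho_mem_special]
      exact ⟨fun h => ⟨h, MonoidHom.mem_ker.1 x.2⟩, fun h => h.1⟩
  obtain ⟨a, b, fr⟩ := S.exists_frame hneg D hD
  set Λ := S.delta.ker.map (QuotientGroup.mk' (innSub Q)) with hΛ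
  obtain ⟨g₀, hg₂, hg₁, hg₀⟩ : ∃ g₀, S.delta g₀ = 1 ∧ S.multSign g₀ = 1 ∧
      (QuotientGroup.mk g₀ : ↥(GO ⇑Q) ⧸ innSub Q) = a * b := by
    obtain ⟨u, hu⟩ := exists_value S.h2 S.pnd S.two_le 1
    obtain ⟨w, hw⟩ := exists_value S.h2 S.pnd S.two_le (mult D : F)
    obtain ⟨h, hh⟩ := exists_word_mat (Q := Q) rfl [u, w]
    have hne : ∀ v ∈ [u, w], Q v ≠ 0 := by simp [hu, hw]
    have hdl : S.delta (incl ⇑Q h) = 1 := (S.delta_incl h [u, w] hne hh).2 ⟨1, rfl⟩
    have hms : S.multSign (incl ⇑Q h) = 1 := (S.multSign_eq_one _).2 (by rw [S.mult_incl]; exact IsSquare.one)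
    refine ⟨incl ⇑Q h, hdl, hms, (fr.even_class (incl ⇑Q h) hms hdl).resolve_left fun h1 => ?_⟩
    rw [QuotientGroup.eq_one_iff, Subgroup.mem_comap, rho_incl_mem_of_neg S hneg,
      mem_omega rfl S.pnd h [u, w] hne hh] at h1
    simp [hu, hw, hD] at h1
  have hab : a * b ∈ Λ := ⟨g₀, hg₂, hg₀⟩
  have hdm : (QuotientGroup.mk D : ↥(GO ⇑Q) ⧸ innSub Q) ∈ Λ := ⟨D, hDd, rfl⟩
  have hDs : S.multSign D ≠ 1 := fun h => hD ((S.multSign_eq_one D).1 h)
  have hall : ∀ x : ↥Λ, x = 1 ∨ x = ⟨a * b, hab⟩ ∨ x = ⟨_, hdm⟩ ∨ x = ⟨a * b, hab⟩ * ⟨_, hdm⟩ := by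
    rintro ⟨_, g, hg, rfl⟩
    have hg' : S.delta g = 1 := MonoidHom.mem_ker.1 hg
    by_cases hs : S.multSign g = 1
    · rcases fr.even_class g hs hg' with h | h
      · exact Or.inl (Subtype.ext h)
      · exact Or.inr (Or.inl (Subtype.ext h))
    · have h1 := fr.even_class (g * D⁻¹) (S.sign_mul_inv hs hD) (by rw [map_mul, map_inv, hg', hDd, inv_one, mul_one])
      rw [QuotientGroup.mk_mul, QuotientGroup.mk_inv] at h1
      rcases h1 with h | h
      · exact Or.inr (Or.inr (Or.inl (Subtype.ext (mul_inv_eq_one.1 h))))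
      · exact Or.inr (Or.inr (Or.inr (Subtype.ext (mul_inv_eq_iff_eq_mul.1 h))))
  obtain ⟨h4, hK⟩ := order_four (⟨a * b, hab⟩ : ↥Λ) ⟨_, hdm⟩
    (Subtype.ext (show a * b * (a * b) = 1 by
      rw [show a * b * (a * b) = a * b * (b * a) by rw [← fr.comm], show a * b * (b * a) = a * (b * b) * a by group,
        fr.bb, mul_one, fr.aa]))
    (fun h => fr.ne (congrArg Subtype.val h))
    (fun h => S.D_notMem hDs (congrArg Subtype.val h))
    (fun h => hDs (by
      have h1 : (QuotientGroup.mk D : ↥(GO ⇑Q) ⧸ innSub Q) = a * b := congrArg Subtype.val h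
      have h2 : (QuotientGroup.mk (g₀⁻¹ * D) : ↥(GO ⇑Q) ⧸ innSub Q) = 1 := by
        rw [QuotientGroup.mk_mul, QuotientGroup.mk_inv, hg₀, h1, inv_mul_cancel]
      have h3 := (S.innSub_sign ((QuotientGroup.eq_one_iff _).1 h2)).1
      rwa [map_mul, map_inv, hg₁, inv_one, one_mul] at h3))
    hall
  have hsq : (QuotientGroup.mk D : ↥(GO ⇑Q) ⧸ innSub Q) * QuotientGroup.mk D = QuotientGroup.mk (incl ⇑Q k) := by
    rw [← QuotientGroup.mk_mul, hDD, QuotientGroup.mk_mul,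
      show (QuotientGroup.mk (scalarG Q c) : ↥(GO ⇑Q) ⧸ innSub Q) = 1 from (QuotientGroup.eq_one_iff _).2 (by
        rw [Subgroup.mem_comap, MonoidHom.mem_ker.1 (scalarSub_le_ker (scalarG_mem c))]; exact one_mem _),
      one_mul]
  let ψ : ↥S.delta.ker →* ↥Λ := (QuotientGroup.mk' (innSub Q)).subgroupMap S.delta.ker
  have hψ : Function.Surjective ψ := MonoidHom.subgroupMap_surjective _ _
  have hψk : ∀ x, ψ x = 1 ↔ rho ⇑Q x.1 ∈ (omegaSub ⇑Q).map (rho ⇑Q) := fun x => by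
    rw [← Subgroup.mem_comap, ← QuotientGroup.eq_one_iff]
    exact ⟨fun h => congrArg Subtype.val h, fun h => Subtype.ext h⟩
  refine ⟨fun hk => ?_, fun hk => ?_⟩
  · obtain ⟨e⟩ := hK (Subtype.ext (hsq.trans ((QuotientGroup.eq_one_iff _).2 (by
      rw [Subgroup.mem_comap, rho_incl_mem_of_neg S hneg]; exact hk))))
    exact exists_quot_hom (rho ⇑Q) S.delta.ker (omegaSub ⇑Q) (e.toMonoidHom.comp ψ) (e.surjective.comp hψ)
      (fun x => (EmbeddingLike.map_eq_one_iff (f := e)).trans (hψk x))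
  · have hne : (QuotientGroup.mk (incl ⇑Q k) : ↥(GO ⇑Q) ⧸ innSub Q) ≠ 1 := fun h => hk (by
      rwa [QuotientGroup.eq_one_iff, Subgroup.mem_comap, rho_incl_mem_of_neg S hneg] at h)
    have hDD2 : (QuotientGroup.mk D : ↥(GO ⇑Q) ⧸ innSub Q) * QuotientGroup.mk D = a * b := by
      rw [← QuotientGroup.mk_mul]
      refine (fr.even_class (D * D) (by rw [map_mul]; exact Int.units_mul_self _)
        (by rw [map_mul, hDd, one_mul])).resolve_left fun h => hne ?_
      rw [← hsq, ← QuotientGroup.mk_mul, h]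
    obtain ⟨e⟩ := h4 (Subtype.ext hDD2)
    exact exists_quot_hom (rho ⇑Q) S.delta.ker (omegaSub ⇑Q) (e.toMonoidHom.comp ψ) (e.surjective.comp hψ)
      (fun x => (EmbeddingLike.map_eq_one_iff (f := e)).trans (hψk x))

end Cfsg.Agent.Small.Orth
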