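import Cfsg.Agent.Lib.Small.Orth.SimGraph
import Mathlib.RingTheory.Norm.Transitivity

/-!
# Similitudes with scalar square and negative sign
-/

set_option autoImplicit false
set_option linter.unusedSectionVars false

namespace Cfsg.Agent.Small.Orth

open Module QuadraticMap Matrix Cfsg.Agent.Classical Cfsg.Agent.Classical.OCount Cfsg.Agent.Classical.ORefl
  Cfsg.Agent.Classical.OOmega

/-- The determinant of a root of a non-square scalar. -/
theorem det_of_sq_nonsquare {F V : Type*} [Field F] [AddCommGroup V] [Module F V] [FiniteDimensional F V] {μ : F}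
    (hμ : ¬ IsSquare μ) (L : V →ₗ[F] V) (hL : ∀ v, L (L v) = μ • v) {N : ℕ} (hd : finrank F V = 2 * N) :
    LinearMap.det L = (-μ) ^ N := by
  classical
  obtain ⟨P, hP⟩ : ∃ P : Polynomial F, P = Polynomial.X ^ 2 - Polynomial.C μ := ⟨_, rfl⟩
  haveI : Fact (Irreducible P) := ⟨hP ▸ X_pow_sub_C_irreducible_of_prime Nat.prime_two fun b h => hμ ⟨b, by rw [← h, pow_two]⟩⟩
  have hmon : P.Monic := hP ▸ Polynomial.monic_X_pow_sub_C μ two_ne_zero
  have hdeg : P.natDegree = 2 := hP ▸ Polynomial.natDegree_X_pow_sub_C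
  have haev : Polynomial.aeval (R := F) L P = 0 := by
    rw [hP]
    ext v
    simp [pow_two, hL]
  let φ : AdjoinRoot P →ₐ[F] Module.End F V := Ideal.Quotient.liftₐ _ (Polynomial.aeval L) fun p hp => by
    obtain ⟨r, rfl⟩ := Ideal.mem_span_singleton.1 hp
    rw [map_mul, haev, zero_mul]
  letI : Module (AdjoinRoot P) V := Module.compHom V φ.toRingHom
  haveI : IsScalarTower F (AdjoinRoot P) V := IsScalarTower.of_algebraMap_smul fun c v => by
    show φ (algebraMap F (AdjoinRoot P) c) v = c • v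
    rw [AlgHom.commutes, Module.algebraMap_end_apply]
  let pb := AdjoinRoot.powerBasis hmon.ne_zero
  haveI : Module.Finite F (AdjoinRoot P) := pb.finite
  haveI : Module.Finite (AdjoinRoot P) V := Module.Finite.right F (AdjoinRoot P) V
  have hK : finrank F (AdjoinRoot P) = 2 := by rw [pb.finrank]; exact hdeg
  have hN : finrank (AdjoinRoot P) V = N := by
    have h := Module.finrank_mul_finrank F (AdjoinRoot P) V
    rw [hK, hd] at h
    omega
  let T : V →ₗ[AdjoinRoot P] V := (AdjoinRoot.root P) • LinearMap.id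
  have hT : T.restrictScalars F = L := LinearMap.ext fun v => by
    show φ (AdjoinRoot.root P) v = L v
    rw [show φ (AdjoinRoot.root P) = Polynomial.aeval L Polynomial.X from Ideal.Quotient.lift_mk _ _ _,
      Polynomial.aeval_X]
  rw [← hT, LinearMap.det_restrictScalars, LinearMap.det_smul, LinearMap.det_id, mul_one, hN, map_pow,
    show AdjoinRoot.root P = pb.gen from rfl, Algebra.PowerBasis.norm_gen_eq_coeff_zero_minpoly,
    show minpoly F pb.gen = P from by
      rw [show pb.gen = AdjoinRoot.root P from rfl, AdjoinRoot.minpoly_root hmon.ne_zero]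
      simp [hmon.leadingCoeff]]
  congr 1
  rw [show pb.dim = 2 from hdeg, hP]
  simp

section Eigen

variable {F : Type*} [Field F] [Finite F] {ι : Type} [Fintype ι] [DecidableEq ι] {g : Matrix ι ι F} {s : F}

/-- The determinant of an element with two eigenvalues `±s`. -/
theorem det_of_eigen (h2 : (2 : F) ≠ 0) (hg2 : ∀ v, g *ᵥ (g *ᵥ v) = (s * s) • v) (hs : s ≠ 0) :
    finrank F (End.eigenspace (Matrix.toLin' g) s) + finrank F (End.eigenspace (Matrix.toLin' g) (-s)) = Fintype.card ι ∧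
      g.det = s ^ finrank F (End.eigenspace (Matrix.toLin' g) s) *
        (-s) ^ finrank F (End.eigenspace (Matrix.toLin' g) (-s)) := by
  classical
  obtain ⟨W, hW⟩ : ∃ W, W = End.eigenspace (Matrix.toLin' g) s := ⟨_, rfl⟩
  obtain ⟨W', hW'⟩ : ∃ W', W' = End.eigenspace (Matrix.toLin' g) (-s) := ⟨_, rfl⟩
  rw [← hW, ← hW']
  have hne : s ≠ -s := fun h => hs ((mul_eq_zero.1 (show 2 * s = 0 by linear_combination h)).resolve_left h2)
  have hc : IsCompl W W' := ⟨by
    rw [Submodule.disjoint_def]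
    intro v hv hv'
    rw [hW, End.mem_eigenspace_iff] at hv
    rw [hW', End.mem_eigenspace_iff] at hv'
    rw [hv] at hv'
    exact (smul_eq_zero.1 (show (s - -s) • v = 0 by rw [sub_smul, hv', sub_self])).resolve_left (sub_ne_zero.2 hne),
    codisjoint_iff.2 (hW ▸ hW' ▸ eigen_split h2 hg2 rfl hs)⟩
  obtain ⟨e, he⟩ : ∃ e, e = Submodule.prodEquivOfIsCompl W W' hc := ⟨_, rfl⟩
  refine ⟨by rw [Submodule.finrank_add_eq_of_isCompl hc, Module.finrank_fintype_fun_eq_card], ?_⟩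
  have hconj : Matrix.toLin' g = (e : W × W' →ₗ[F] ι → F) ∘ₗ
      (((s • LinearMap.id : W →ₗ[F] W).prodMap ((-s) • LinearMap.id : W' →ₗ[F] W')) ∘ₗ
        (e.symm : (ι → F) →ₗ[F] W × W')) := by
    refine LinearMap.ext fun v => ?_
    obtain ⟨⟨x, y⟩, rfl⟩ := e.surjective v
    have hx : (x : ι → F) ∈ End.eigenspace (Matrix.toLin' g) s := le_of_eq hW x.2
    have hy : (y : ι → F) ∈ End.eigenspace (Matrix.toLin' g) (-s) := le_of_eq hW' y.2
    simp only [LinearMap.comp_apply, LinearEquiv.coe_coe, LinearEquiv.symm_apply_apply]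
    rw [he, Submodule.coe_prodEquivOfIsCompl', Submodule.coe_prodEquivOfIsCompl', map_add,
      End.mem_eigenspace_iff.1 hx, End.mem_eigenspace_iff.1 hy]
    rfl
  rw [← LinearMap.det_toLin' g, hconj, LinearMap.det_conj, LinearMap.det_prodMap,
    LinearMap.det_smul, LinearMap.det_smul, LinearMap.det_id, LinearMap.det_id, mul_one, mul_one]

end Eigen

variable {F : Type*} [Field F] [Fintype F] {ι : Type} [Fintype ι] [DecidableEq ι] {Q : QuadraticForm F (ι → F)} {N : ℕ}

/-- No totally singular subspace of half the dimension. -/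
def NoHalf (Q : QuadraticForm F (ι → F)) (N : ℕ) : Prop :=
  ∀ U : Submodule F (ι → F), (∀ u ∈ U, Q u = 0) → finrank F U < N

/-- A root of a scalar of negative sign has multiplier equal to the scalar. -/
theorem root_data (h2 : (2 : F) ≠ 0) (hcard : Fintype.card ι = 2 * N) (hN : NoHalf Q N) {g : Matrix ι ι F} {c μ : F}
    (hc : c ≠ 0) (hg : ∀ v, Q (g *ᵥ v) = c * Q v) (hg2 : ∀ v, g *ᵥ (g *ᵥ v) = μ • v) (hdet : g.det ≠ c ^ N)
    (hv₀ : ∃ v, Q v ≠ 0) :
    μ = c ∧ (IsSquare c ∨ Odd N) := by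
  have hd : ∀ ν : F, ¬ IsSquare ν → μ = ν → g.det = (-ν) ^ N := fun ν hν e => by
    rw [← LinearMap.det_toLin' g]
    refine det_of_sq_nonsquare hν _ (fun v => ?_) ((Module.finrank_fintype_fun_eq_card F).trans hcard)
    rw [Matrix.toLin'_apply, Matrix.toLin'_apply, hg2, e]
  obtain ⟨v₀, hv₀⟩ := hv₀
  have hcμ : μ = c ∨ μ = -c := by
    have h1 := hg (g *ᵥ v₀)
    rw [hg2, hg, QuadraticMap.map_smul, smul_eq_mul] at h1
    have h3 : (μ - c) * (μ + c) = 0 := mul_right_cancel₀ hv₀ (by linear_combination h1)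
    rcases mul_eq_zero.1 h3 with h | h
    · exact Or.inl (sub_eq_zero.1 h)
    · exact Or.inr (eq_neg_of_add_eq_zero_left h)
  rcases hcμ with hμ | hμ
  · refine ⟨hμ, or_iff_not_imp_left.2 fun hs => ?_⟩
    by_contra ho
    exact hdet ((hd c hs hμ).trans ((Nat.not_odd_iff_even.1 ho).neg_pow c))
  exfalso
  by_cases hneg : IsSquare (-c)
  · obtain ⟨a, ha⟩ := hneg
    have ha0 : a ≠ 0 := fun e => neg_ne_zero.2 hc (by rw [ha, e, mul_zero])
    have hμa : μ = a * a := hμ.trans ha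
    have hts : ∀ b : F, μ = b * b → ∀ u ∈ End.eigenspace (Matrix.toLin' g) b, Q u = 0 := by
      intro b hb u hu
      have hgu : g *ᵥ u = b • u := by
        have := End.mem_eigenspace_iff.1 hu
        rwa [Matrix.toLin'_apply] at this
      have h1 := hg u
      rw [hgu, QuadraticMap.map_smul, smul_eq_mul, ← hb, hμ] at h1
      exact (mul_eq_zero.1 (show (2 * c) * Q u = 0 by linear_combination -h1)).resolve_left (mul_ne_zero h2 hc)
    have h1 := (det_of_eigen h2 (fun v => hμa ▸ hg2 v) ha0).1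
    have h3 := hN _ (hts a hμa)
    have h4 := hN _ (hts (-a) (by rw [hμa]; ring))
    omega
  · exact hdet ((hd _ hneg hμ).trans (by rw [neg_neg]))

/-- The eigenspace of odd dimension. -/
theorem eigen_odd (h2 : (2 : F) ≠ 0) (hcard : Fintype.card ι = 2 * N) {g : Matrix ι ι F} {c s : F} (hs : s ≠ 0)
    (hcs : c = s * s) (hg2 : ∀ v, g *ᵥ (g *ᵥ v) = c • v) (hdet : g.det ≠ c ^ N) :
    Odd (finrank F (End.eigenspace (Matrix.toLin' g) (-s))) ∧
      finrank F (End.eigenspace (Matrix.toLin' g) s) + finrank F (End.eigenspace (Matrix.toLin' g) (-s)) = 2 * N := by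
  obtain ⟨h1, h3⟩ := det_of_eigen h2 (fun v => hcs ▸ hg2 v) hs
  refine ⟨Nat.not_even_iff_odd.1 fun he => hdet ?_, h1.trans hcard⟩
  rw [h3, he.neg_pow, ← pow_add, h1, hcard, pow_mul, pow_two, ← hcs]

/-- A vector of non-zero value orthogonal to its image. -/
theorem exists_plane_gen (h2 : (2 : F) ≠ 0) (hQ : PND Q) (h5 : 5 ≤ Fintype.card ι) {e f e' f' : ι → F}
    (he : Q e = 0) (he' : Q e' = 0) (hf' : Q f' = 0) (hef : polar Q e f = 1) (hee' : polar Q e e' = 0)
    (hef' : polar Q e f' = 0) (hef'' : polar Q e' f' = 1)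
    {g : Matrix ι ι F} {c : F}
    (hc : ¬ IsSquare c) (hg : ∀ v, Q (g *ᵥ v) = c * Q v) (hg2 : ∀ v, g *ᵥ (g *ᵥ v) = c • v) :
    ∃ x, Q x ≠ 0 ∧ polar Q x (g *ᵥ x) = 0 := by
  have hc0 : c ≠ 0 := fun e => hc (e ▸ IsSquare.zero)
  have hadj : ∀ x y, polar Q (g *ᵥ x) y = polar Q x (g *ᵥ y) := fun x y =>
    mul_left_cancel₀ hc0 (polar_adj hg hg2 x y)
  obtain ⟨v, hv, hvr⟩ : ∃ v, Q v = 0 ∧ polar Q v (g *ᵥ v) ≠ 0 := by
    by_contra hne
    push Not at hne
    have hcross : ∀ p, Q p = 0 → polar Q e p = 0 → polar Q (g *ᵥ e) p = 0 := by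
      intro p hp hep
      have h1 : Q (e + p) = 0 := by rw [map_two, he, hp, hep]; ring
      have h3 := hne _ h1
      rw [Matrix.mulVec_add, polar_add_left, polar_add_right, polar_add_right, hne e he, hne p hp, ← hadj e p,
        polar_comm Q p (g *ᵥ e)] at h3
      exact (mul_eq_zero.1 (show 2 * polar Q (g *ᵥ e) p = 0 by linear_combination h3)).resolve_left h2
    have hperp : ∀ y, polar Q e y = 0 → polar Q (g *ᵥ e) y = 0 := by
      intro y hy
      obtain ⟨α, hα⟩ : ∃ α, α + polar Q y f' ≠ 0 := by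
        by_cases h : polar Q y f' = 0
        · exact ⟨1, by rw [h, add_zero]; exact one_ne_zero⟩
        · exact ⟨0, by rwa [zero_add]⟩
      obtain ⟨β, hβ⟩ : ∃ β, β = -(Q y + α * polar Q y e') / (α + polar Q y f') := ⟨_, rfl⟩
      have hβ' : β * (α + polar Q y f') = -(Q y + α * polar Q y e') := by rw [hβ, div_mul_cancel₀ _ hα]
      have h := hcross (y + (α • e' + β • f')) (by
          rw [map_two, map_two, QuadraticMap.map_smul, QuadraticMap.map_smul, he', hf']
          simp only [polar_add_right, polar_smul_left, polar_smul_right, smul_eq_mul, hef'']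
          linear_combination hβ')
        (by rw [polar_add_right, polar_add_right, polar_smul_right, polar_smul_right, hy, hee', hef']; simp)
      rw [polar_add_right, polar_add_right, polar_smul_right, polar_smul_right, hcross e' he' hee', hcross f' hf' hef'] at h
      simpa using h
    obtain ⟨r, hr⟩ : ∃ r, r = polar Q (g *ᵥ e) f := ⟨_, rfl⟩
    have heig : g *ᵥ e = r • e := by
      refine sub_eq_zero.1 (hQ _ fun w => ?_)
      have h1 := hperp (w - polar Q e w • f) (by rw [polar_sub_right, polar_smul_right, hef, smul_eq_mul]; ring)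
      rw [polar_sub_right, polar_smul_right, ← hr, smul_eq_mul] at h1
      rw [polar_comm, polar_sub_right, polar_smul_right, polar_comm Q w (g *ᵥ e), polar_comm Q w e, smul_eq_mul]
      linear_combination h1
    have h1 := hg2 e
    rw [heig, Matrix.mulVec_smul, heig, smul_smul] at h1
    have he0 : e ≠ 0 := fun h => one_ne_zero (α := F) (by rw [← hef, h, polar_zero_left])
    exact hc ⟨r, (smul_left_injective F he0 h1).symm⟩
  obtain ⟨W, hW⟩ : ∃ W : Submodule F (ι → F),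
      W = LinearMap.ker (Q.polarBilin v) ⊓ LinearMap.ker (Q.polarBilin (g *ᵥ v)) := ⟨_, rfl⟩
  have hWd : Fintype.card ι ≤ finrank F W + 2 := by
    have hk : ∀ φ : (ι → F) →ₗ[F] F, Fintype.card ι ≤ finrank F (LinearMap.ker φ) + 1 := fun φ => by
      have h1 := LinearMap.finrank_range_add_finrank_ker φ
      have h3 : finrank F (LinearMap.range φ) ≤ 1 := (Submodule.finrank_le _).trans_eq (finrank_self F)
      simp [Module.finrank_fintype_fun_eq_card] at h1
      omega
    have h1 := Submodule.finrank_sup_add_finrank_inf_eq (LinearMap.ker (Q.polarBilin v))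
      (LinearMap.ker (Q.polarBilin (g *ᵥ v)))
    have h3 := hk (Q.polarBilin v)
    have h4 := hk (Q.polarBilin (g *ᵥ v))
    have h5 := (LinearMap.ker (Q.polarBilin v) ⊔ LinearMap.ker (Q.polarBilin (g *ᵥ v))).finrank_le
    simp [Module.finrank_fintype_fun_eq_card] at h5
    rw [← hW] at h1
    omega
  obtain ⟨w, hwW, hw⟩ : ∃ w ∈ W, Q w ≠ 0 := by
    by_contra hne
    push Not at hne
    have h1 := Submodule.finrank_mono (Witt.le_orth Q hne)
    rw [LinearMap.BilinForm.finrank_orthogonal (nondeg hQ)] at h1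
    simp [Module.finrank_fintype_fun_eq_card] at h1
    omega
  rw [hW] at hwW
  have hw1 : polar Q v w = 0 := LinearMap.mem_ker.1 hwW.1
  have hw2 : polar Q (g *ᵥ v) w = 0 := LinearMap.mem_ker.1 hwW.2
  obtain ⟨r, hr⟩ : ∃ r, r = polar Q v (g *ᵥ v) := ⟨_, rfl⟩
  have hr0 : r ≠ 0 := hr ▸ hvr
  have hqgv : Q (g *ᵥ v) = 0 := by rw [hg, hv, mul_zero]
  have hval : ∀ α β : F,
      Q (α • v + β • (g *ᵥ v) + w) = α * β * r + Q w ∧
        polar Q (α • v + β • (g *ᵥ v) + w) (g *ᵥ (α • v + β • (g *ᵥ v) + w)) =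
          α ^ 2 * r + c * β ^ 2 * r + polar Q w (g *ᵥ w) := by
    intro α β
    have hvv : polar Q v v = 0 := by rw [polar_self_two, hv, mul_zero]
    have hgg : polar Q (g *ᵥ v) (g *ᵥ v) = 0 := by rw [polar_self_two, hqgv, mul_zero]
    constructor
    · rw [map_two, map_two, QuadraticMap.map_smul, QuadraticMap.map_smul, polar_add_left, polar_smul_left, polar_smul_left,
        polar_smul_right, polar_smul_left, hv, hqgv, hw1, hw2, ← hr]
      simp only [smul_eq_mul]
      ring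
    · have e1 : polar Q v (g *ᵥ w) = 0 := by rw [← hadj, hw2]
      have e2 : polar Q (g *ᵥ v) (g *ᵥ w) = 0 := by rw [polar_gg hg, hw1, mul_zero]
      have e3 : polar Q (g *ᵥ v) v = r := by rw [polar_comm, ← hr]
      have e4 : polar Q w v = 0 := by rw [polar_comm, hw1]
      have e5 : polar Q w (g *ᵥ v) = 0 := by rw [polar_comm, hw2]
      simp only [Matrix.mulVec_add, Matrix.mulVec_smul, hg2, polar_add_left, polar_add_right, polar_smul_left,
        polar_smul_right, smul_eq_mul, hvv, hgg, hw1, hw2, e1, e2, e3, e4, e5, ← hr]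
      ring
  obtain ⟨α, β, hab⟩ := exists_rep h2 hr0 (mul_ne_zero hc0 hr0) (-polar Q w (g *ᵥ w))
  by_cases h0 : Q (α • v + β • (g *ᵥ v) + w) = 0
  · refine ⟨α • v + (-β) • (g *ᵥ v) + w, fun h1 => hw ?_, ?_⟩
    · rw [(hval _ _).1] at h0 h1
      exact (mul_eq_zero.1 (show 2 * Q w = 0 by linear_combination h0 + h1)).resolve_left h2
    · rw [(hval _ _).2]; linear_combination hab
  · exact ⟨_, h0, by rw [(hval _ _).2]; linear_combination hab⟩

/-- An even word of non-square class commuting with a root of a scalar. -/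
theorem exists_commuting_gen (h2 : (2 : F) ≠ 0) (hQ : PND Q) (hcard : Fintype.card ι = 2 * N) (h3 : 3 ≤ N)
    (hN : NoHalf Q N) {e f e' f' : ι → F}
    (he : Q e = 0) (he' : Q e' = 0) (hf' : Q f' = 0) (hef : polar Q e f = 1) (hee' : polar Q e e' = 0)
    (hef' : polar Q e f' = 0) (hef'' : polar Q e' f' = 1) {g : Matrix ι ι F} {c μ : F} (hc : c ≠ 0)
    (hg : ∀ v, Q (g *ᵥ v) = c * Q v) (hg2 : ∀ v, g *ᵥ (g *ᵥ v) = μ • v) (hdet : g.det ≠ c ^ N) :
    ∃ x y, Q x ≠ 0 ∧ Q y ≠ 0 ∧ ¬ IsSquare (Q x * Q y) ∧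
      ∀ w, g *ᵥ (prodRf Q [x, y]).1 w = (prodRf Q [x, y]).1 (g *ᵥ w) := by
  obtain ⟨hμ, -⟩ := root_data h2 hcard hN hc hg hg2 hdet (exists_nonsing' hQ (by omega))
  by_cases hsq : IsSquare c
  · obtain ⟨a, ha⟩ := hsq
    have ha0 : a ≠ 0 := fun e => hc (by rw [ha, e, mul_zero])
    have hμa : μ = a * a := hμ.trans ha
    obtain ⟨ν, hν⟩ : ∃ ν : F, ¬ IsSquare ν := FiniteField.exists_nonsquare fun h => h2 (by
      haveI := ringChar.of_eq h
      exact CharTwo.two_eq_zero)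
    have hν0 : ν ≠ 0 := fun e => hν (e ▸ IsSquare.zero)
    obtain ⟨b, hb, hb0, hd⟩ : ∃ b, μ = b * b ∧ b ≠ 0 ∧ 2 ≤ finrank F (End.eigenspace (Matrix.toLin' g) b) := by
      have h1 := (det_of_eigen h2 (fun v => hμa ▸ hg2 v) ha0).1
      by_cases h : 2 ≤ finrank F (End.eigenspace (Matrix.toLin' g) a)
      · exact ⟨a, hμa, ha0, h⟩
      · exact ⟨-a, by rw [hμa]; ring, neg_ne_zero.2 ha0, by omega⟩
    obtain ⟨x, hx, hx0, hxs⟩ := eigen_class h2 hQ hg hg2 hμ hc hb hb0 hd (one_ne_zero (α := F))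
    obtain ⟨y, hy, hy0, hys⟩ := eigen_class h2 hQ hg hg2 hμ hc hb hb0 hd hν0
    refine ⟨x, y, hx0, hy0, fun h => hν ?_, fun w => ?_⟩
    · rw [one_mul] at hxs
      exact (isSquare_mul_iff (((isSquare_iff_mul h2 hx0 hy0).1 h).1 hxs) hy0).1 hys
    · show g *ᵥ refl Q x (refl Q y w) = refl Q x (refl Q y (g *ᵥ w))
      rw [eigen_commutes hg hg2 hμ hc hx, eigen_commutes hg hg2 hμ hc hy]
  · obtain ⟨x, hx, hxg⟩ := exists_plane_gen h2 hQ (by omega) he he' hf' hef hee' hef' hef'' hsq hg (fun v => hμ ▸ hg2 v)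
    refine ⟨x, g *ᵥ x, hx, by rw [hg]; exact mul_ne_zero hc hx, ?_, plane_commutes hg hg2 hc hx hxg⟩
    rw [hg, show Q x * (c * Q x) = c * (Q x * Q x) by ring, isSquare_mul_iff (IsSquare.mul_self _) (mul_ne_zero hx hx)]
    exact hsq

/-- A similitude preserving a non-degenerate subspace of odd dimension has square multiplier. -/
theorem isSquare_of_odd_subspace (W : Submodule F (ι → F)) (hW : Odd (finrank F W))
    (hnd : ∀ x ∈ W, (∀ y ∈ W, polar Q x y = 0) → x = 0) (H : (ι → F) →ₗ[F] ι → F) (hH : ∀ x ∈ W, H x ∈ W) {μ : F}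
    (hμ0 : μ ≠ 0) (hμ : ∀ v, Q (H v) = μ * Q v) : IsSquare μ := by
  classical
  obtain ⟨β, hβ⟩ : ∃ β : LinearMap.BilinForm F W, β = LinearMap.BilinForm.restrict Q.polarBilin W := ⟨_, rfl⟩
  let bs := Module.finBasis F W
  let H' : W →ₗ[F] W := H.restrict hH
  have hcomp : β.compl₁₂ H' H' = μ • β := LinearMap.ext fun x => LinearMap.ext fun y => by
    rw [hβ]
    show polar Q (H x.1) (H y.1) = μ * polar Q x.1 y.1
    simp only [QuadraticMap.polar, ← map_add, hμ]
    ring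
  have hM := congrArg (LinearMap.toMatrix₂ bs bs) hcomp
  rw [LinearMap.toMatrix₂_compl₁₂ bs bs bs bs, map_smul] at hM
  have h := congrArg Matrix.det hM
  rw [Matrix.det_mul, Matrix.det_mul, Matrix.det_transpose, Matrix.det_smul, Fintype.card_fin] at h
  have hnd' : (LinearMap.toMatrix₂ bs bs β).det ≠ 0 := by
    rw [← LinearMap.separatingLeft_iff_det_ne_zero bs]
    intro x hx
    refine Subtype.ext (hnd x x.2 fun y hy => ?_)
    have := hx ⟨y, hy⟩
    rwa [hβ] at this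
  have h' : IsSquare (μ ^ finrank F W) := ⟨(LinearMap.toMatrix bs bs H').det, mul_right_cancel₀ hnd' (by
    linear_combination -h)⟩
  obtain ⟨k, hk⟩ := hW
  rw [hk, pow_succ'] at h'
  exact (isSquare_mul_iff ((even_two_mul k).isSquare_pow μ) (pow_ne_zero _ hμ0)).1 h'

/-- In half-even dimension only square multipliers commute with a root of negative sign. -/
theorem square_of_commute (h2 : (2 : F) ≠ 0) (hQ : PND Q) (hcard : Fintype.card ι = 2 * N) (h3 : 3 ≤ N)
    (hev : Even N) (hN : NoHalf Q N) {g h : Matrix ι ι F} {c μ d z : F} (hc : c ≠ 0) (hd : d ≠ 0)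
    (hg : ∀ v, Q (g *ᵥ v) = c * Q v) (hg2 : ∀ v, g *ᵥ (g *ᵥ v) = μ • v) (hdet : g.det ≠ c ^ N)
    (hh : ∀ v, Q (h *ᵥ v) = d * Q v) (hcomm : ∀ v, h *ᵥ (g *ᵥ v) = z • g *ᵥ (h *ᵥ v)) : IsSquare d := by
  obtain ⟨v₀, hv₀⟩ := exists_nonsing' hQ (by omega)
  obtain ⟨hμ, hsq⟩ := root_data h2 hcard hN hc hg hg2 hdet ⟨v₀, hv₀⟩
  obtain ⟨s, hs⟩ := hsq.resolve_right (Nat.not_odd_iff_even.2 hev)
  have hs0 : s ≠ 0 := fun e => hc (by rw [hs, e, mul_zero])
  obtain ⟨hodd, hsum⟩ := eigen_odd h2 hcard hs0 hs (fun v => hμ ▸ hg2 v) hdet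
  have hinj : Function.Injective (Matrix.toLin' h) := (injective_iff_map_eq_zero _).2 fun v hv => hQ v fun w => by
    rw [Matrix.toLin'_apply] at hv
    have := polar_gg hh v w
    rw [hv, polar_zero_left] at this
    exact (mul_eq_zero.1 this.symm).resolve_left hd
  have hz : z * z = 1 := by
    have h1 := hcomm (g *ᵥ v₀)
    rw [hcomm v₀, Matrix.mulVec_smul, hg2, hg2, smul_smul, Matrix.mulVec_smul, smul_smul] at h1
    have h0 : h *ᵥ v₀ ≠ 0 := fun e => hv₀ (by
      have := hh v₀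
      rw [e, QuadraticMap.map_zero] at this
      exact (mul_eq_zero.1 this.symm).resolve_left hd)
    have h4 := smul_left_injective F h0 h1
    rw [hμ] at h4
    exact mul_right_cancel₀ hc (by linear_combination -h4)
  have hmove : ∀ a v, v ∈ End.eigenspace (Matrix.toLin' g) a →
      h *ᵥ v ∈ End.eigenspace (Matrix.toLin' g) (z * a) := fun a v hv => by
    rw [End.mem_eigenspace_iff, Matrix.toLin'_apply] at hv ⊢
    have h1 := hcomm v
    rw [hv, Matrix.mulVec_smul] at h1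
    rw [mul_smul, h1, smul_smul, hz, one_smul]
  rcases mul_self_eq_one_iff.1 hz with rfl | rfl
  · refine isSquare_of_odd_subspace _ hodd (fun x hx hxy => ?_) (Matrix.toLin' h)
      (fun x hx => by simpa using hmove _ x hx) hd (fun v => by simpa using hh v)
    refine hQ x fun w => ?_
    obtain ⟨p, hp, r, hr, rfl⟩ := Submodule.mem_sup.1
      ((eigen_split h2 hg2 (hμ.trans hs) hs0).symm ▸ Submodule.mem_top (x := w))
    rw [polar_add_right, hxy r hr, add_zero]
    rw [End.mem_eigenspace_iff, Matrix.toLin'_apply] at hx hp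
    have h4 := polar_adj hg hg2 x p
    rw [hμ, hx, hp, polar_smul_left, polar_smul_right, smul_eq_mul, smul_eq_mul, hs] at h4
    exact (mul_eq_zero.1 (show (2 * s * (s * s)) * polar Q x p = 0 by linear_combination -h4)).resolve_left
      (mul_ne_zero (mul_ne_zero h2 hs0) (mul_ne_zero hs0 hs0))
  · exfalso
    have hle : ∀ a, finrank F (End.eigenspace (Matrix.toLin' g) a) ≤ finrank F (End.eigenspace (Matrix.toLin' g) (-a)) := by
      intro a
      rw [(Submodule.equivMapOfInjective _ hinj _).finrank_eq]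
      refine Submodule.finrank_mono ?_
      rintro _ ⟨v, hv, rfl⟩
      simpa using hmove a v hv
    have h4 := hle s
    have h5 := hle (-s)
    rw [neg_neg] at h5
    obtain ⟨k, hk⟩ := hev
    obtain ⟨r, hr⟩ := hodd
    omega

set_option maxHeartbeats 1000000 in
/-- The statement for the form as a quadratic map. -/
theorem split_neg (S : SimSetup Q N) (hneg : NegMem Q)
    (g : ↥(GO ⇑Q)) (hgd : S.delta g ≠ 1) (hsq : rho ⇑Q g * rho ⇑Q g = 1)
    (hword : ∀ μ : F, (∀ v, (g : GL ι F).1 *ᵥ ((g : GL ι F).1 *ᵥ v) = μ • v) → ∃ x y, Q x ≠ 0 ∧ Q y ≠ 0 ∧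
      ¬ IsSquare (Q x * Q y) ∧ ∀ w, (g : GL ι F).1 *ᵥ (prodRf Q [x, y]).1 w = (prodRf Q [x, y]).1 ((g : GL ι F).1 *ᵥ w)) :
    Cfsg.splitClassCount (S.delta.ker.map (rho ⇑Q)) (Cfsg.Inn (Cfsg.POmega F ⇑Q))
      (rho ⇑Q g) = 2 := by
  haveI : (Cfsg.Inn (Cfsg.POmega F ⇑Q)).Normal := Cfsg.innNormal _
  have hk : g * g ∈ (rho ⇑Q).ker := by rw [MonoidHom.mem_ker, map_mul]; exact hsq
  rw [S.hker] at hk
  obtain ⟨μ, hμ⟩ := (Cfsg.Geo.mem_scalars_iff _).1 hk
  have hg2 : ∀ v, (g : GL ι F).1 *ᵥ ((g : GL ι F).1 *ᵥ v) = (μ : F) • v := fun v => by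
    have h := congrArg (fun M => M *ᵥ v) hμ
    simp only [Subgroup.coe_subtype, Subgroup.coe_mul, Units.val_mul, ← Matrix.mulVec_mulVec, Matrix.smul_mulVec,
      Matrix.one_mulVec] at h
    exact h
  obtain ⟨x, y, hx, hy, hxy, hcom⟩ := hword _ hg2
  obtain ⟨h₀, hh₀⟩ := exists_word_mat (Q := Q) rfl [x, y]
  have hne : ∀ v ∈ [x, y], Q v ≠ 0 := by simp [hx, hy]
  have hcomm : rho ⇑Q (incl ⇑Q h₀) * rho ⇑Q g =
      rho ⇑Q g * rho ⇑Q (incl ⇑Q h₀) := by
    rw [← map_mul, ← map_mul]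
    congr 1
    refine Subtype.ext (Units.ext (Matrix.ext_of_mulVec_single fun i => ?_))
    show (h₀.1.1 * (g : GL ι F).1) *ᵥ _ = ((g : GL ι F).1 * h₀.1.1) *ᵥ _
    rw [← Matrix.mulVec_mulVec, ← Matrix.mulVec_mulVec, hh₀, hh₀, hcom]
  have hh₀d : S.delta (incl ⇑Q h₀) = 1 := (S.delta_incl h₀ [x, y] hne hh₀).2 ⟨1, rfl⟩
  -- the sign of the multiplier on the inner-diagonal group
  obtain ⟨φ, hφ, hφk⟩ := exists_quot_hom (rho ⇑Q) S.delta.ker (specialSub ⇑Q)
    (S.multSign.comp S.delta.ker.subtype) (fun z => by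
      rcases Int.units_eq_one_or z with rfl | rfl
      · exact ⟨1, map_one _⟩
      · obtain ⟨D, hD, hDd⟩ := S.exists_D
        exact ⟨⟨D, MonoidHom.mem_ker.2 hDd⟩,
          (Int.units_eq_one_or _).resolve_left fun e => hD ((S.multSign_eq_one D).1 e)⟩)
    (fun x => by
      rw [S.rho_mem_special]
      exact ⟨fun e => ⟨e, MonoidHom.mem_ker.1 x.2⟩, fun e => e.1⟩)
  have hle : Cfsg.Inn (Cfsg.POmega F ⇑Q) ≤ S.delta.ker.map (rho ⇑Q) := by
    rw [inn_eq]
    refine Subgroup.map_mono fun z hz => MonoidHom.mem_ker.2 ?_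
    exact ((S.mem_special z).1 (S.omega_le_special hz)).2
  rw [split_eq_card φ hφ ?_ hle]
  · simp
  rintro ⟨_, g', hg', rfl⟩
  have hg'd : S.delta g' = 1 := MonoidHom.mem_ker.1 hg'
  constructor
  · intro h1
    have h1' : (⟨rho ⇑Q g', g', hg', rfl⟩ : ↥(S.delta.ker.map (rho ⇑Q))) ∈ φ.ker := h1
    rw [hφk, Subgroup.mem_subgroupOf] at h1'
    obtain ⟨s, hs, he⟩ := h1'
    obtain ⟨s1, s2⟩ := (S.mem_special s).1 hs
    obtain ⟨k, rfl⟩ : ∃ k, s = incl ⇑Q k := ⟨⟨(s : GL ι F), fun v _ => by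
        show Q ((s : GL ι F).1 *ᵥ v) = Q v
        rw [mult_spec, s1, Units.val_one, one_mul]⟩, rfl⟩
    obtain ⟨vs, hvs, hM⟩ := exists_list_mat rfl S.pnd S.gen k
    have hev := (S.delta_incl k vs hvs hM).1 s2
    change ∃ k' ∈ _, k'⁻¹ * rho ⇑Q g' * _ = _ * (k'⁻¹ * rho ⇑Q g')
    change rho ⇑Q (incl ⇑Q k) = rho ⇑Q g' at he
    rw [← he, inn_eq]
    by_cases hsv : IsSquare (vs.map fun v => Q v).prod
    · exact ⟨_, ⟨_, ⟨k, (mem_omega rfl S.pnd k vs hvs hM).2 ⟨hev, hsv⟩, rfl⟩, rfl⟩, by simp⟩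
    · obtain ⟨h₁, hh₁⟩ := exists_word_mat (Q := Q) rfl [y, x]
      refine ⟨rho ⇑Q (incl ⇑Q (k * h₁)), ⟨_, ⟨k * h₁, ?_, rfl⟩, rfl⟩, ?_⟩
      · refine (mem_omega rfl S.pnd (k * h₁) (vs ++ [y, x])
          (fun v hv => (List.mem_append.1 hv).elim (hvs v) (by simp only [List.mem_cons, List.not_mem_nil, or_false]; rintro (rfl | rfl) <;> assumption))
          fun v => ?_).2 ⟨?_, ?_⟩
        · rw [Subgroup.coe_mul, Units.val_mul, ← Matrix.mulVec_mulVec, hh₁, hM, prodRf_append]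
          rfl
        · rw [List.length_append]; exact hev.add ⟨1, rfl⟩
        · simp only [List.map_append, List.prod_append, List.map_cons, List.map_nil, List.prod_cons, List.prod_nil, mul_one]
          rw [isSquare_iff_mul S.h2 (values_ne hvs) (mul_ne_zero hy hx), mul_comm]
          exact iff_of_false hsv hxy
      · have hinv : h₁ = h₀⁻¹ := by
          refine Subtype.ext (Units.ext (Matrix.ext_of_mulVec_single fun i => ?_))
          rw [hh₁]
          have e : (prodRf Q [y, x]).1 (Pi.single i 1) = (prodRf Q [x, y]).1.symm (Pi.single i 1) := by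
            rw [show [y, x] = [x, y].reverse from rfl, prodRf_reverse]; rfl
          rw [e]
          apply (prodRf Q [x, y]).1.injective
          rw [LinearEquiv.apply_symm_apply, ← hh₀, Matrix.mulVec_mulVec, ← Units.val_mul, ← Subgroup.coe_mul,
            mul_inv_cancel, Subgroup.coe_one, Units.val_one, Matrix.one_mulVec]
        rw [hinv, map_mul, map_mul, map_inv, map_inv, _root_.mul_inv_rev, inv_inv]
        simpa only [mul_assoc, inv_mul_cancel_left, inv_mul_cancel, mul_one] using hcomm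
  · rintro ⟨k, hk', hkc⟩
    change k⁻¹ * rho ⇑Q g' * _ = _ * (k⁻¹ * rho ⇑Q g') at hkc
    rw [inn_eq] at hk'
    obtain ⟨s, hs, rfl⟩ := hk'
    obtain ⟨s1, s2⟩ := (S.mem_special s).1 (S.omega_le_special hs)
    rw [← map_inv, ← map_mul] at hkc
    have h1 := S.commute_sign hneg g (s⁻¹ * g') hgd (by rw [map_mul, map_inv, s2, hg'd, inv_one, one_mul]) hkc
    have h3 : S.multSign g' = 1 := by
      rwa [map_mul, map_inv, (S.multSign_eq_one s).2 (by rw [s1]; exact IsSquare.one), inv_one, one_mul] at h1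
    have h4 : (⟨rho ⇑Q g', g', hg', rfl⟩ : ↥(S.delta.ker.map (rho ⇑Q))) ∈ φ.ker := by
      rw [hφk, Subgroup.mem_subgroupOf]
      exact (S.rho_mem_special g').2 ⟨h3, hg'd⟩
    exact h4


/-- Without `-1` in `Ω` and with only square multipliers in the centraliser the class splits in two. -/
theorem split_noneg (S : SimSetup Q N) (hneg : ¬ NegMem Q) (g : ↥(GO ⇑Q))
    (hcent : ∀ g' : ↥(GO ⇑Q), rho ⇑Q g' * rho ⇑Q g = rho ⇑Q g * rho ⇑Q g' → S.multSign g' = 1) :
    Cfsg.splitClassCount (S.delta.ker.map (rho ⇑Q)) (Cfsg.Inn (Cfsg.POmega F ⇑Q)) (rho ⇑Q g) = 2 := by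
  haveI : (Cfsg.Inn (Cfsg.POmega F ⇑Q)).Normal := Cfsg.innNormal _
  obtain ⟨φ, hφ, hφk⟩ := exists_quot_hom (rho ⇑Q) S.delta.ker (specialSub ⇑Q)
    (S.multSign.comp S.delta.ker.subtype) (fun z => by
      rcases Int.units_eq_one_or z with rfl | rfl
      · exact ⟨1, map_one _⟩
      · obtain ⟨D, hD, hDd⟩ := S.exists_D
        exact ⟨⟨D, MonoidHom.mem_ker.2 hDd⟩,
          (Int.units_eq_one_or _).resolve_left fun e => hD ((S.multSign_eq_one D).1 e)⟩)
    (fun x => by
      rw [S.rho_mem_special]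
      exact ⟨fun e => ⟨e, MonoidHom.mem_ker.1 x.2⟩, fun e => e.1⟩)
  have hle : Cfsg.Inn (Cfsg.POmega F ⇑Q) ≤ S.delta.ker.map (rho ⇑Q) := by
    rw [inn_eq]
    refine Subgroup.map_mono fun z hz => MonoidHom.mem_ker.2 ?_
    exact ((S.mem_special z).1 (S.omega_le_special hz)).2
  rw [split_eq_card φ hφ ?_ hle]
  · simp
  intro h
  rw [← MonoidHom.mem_ker, hφk, Subgroup.mem_subgroupOf]
  constructor
  · intro h1
    exact ⟨h.1, inn_eq (q := ⇑Q) ▸ (S.special_eq_inn hneg ▸ h1), by simp⟩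
  · rintro ⟨k, hk, hc⟩
    rw [inn_eq] at hk
    obtain ⟨s, hs, rfl⟩ := hk
    obtain ⟨g', hg', he⟩ := h.2
    obtain ⟨s1, s2⟩ := (S.mem_special s).1 (S.omega_le_special hs)
    rw [← he, ← map_inv, ← map_mul] at hc
    have h1 := hcent _ hc
    rw [map_mul, map_inv, (S.multSign_eq_one s).2 (by rw [s1]; exact IsSquare.one), inv_one, one_mul] at h1
    rw [← he]
    exact (S.rho_mem_special g').2 ⟨h1, MonoidHom.mem_ker.1 hg'⟩

end Cfsg.Agent.Small.Orth
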