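import Mathlib

/-!
# Small quotient groups

Homomorphisms out of dihedral groups, and the groups of order four generated by a central involution
and one more element.
-/

set_option autoImplicit false

namespace Cfsg.Agent.Small.Orth

/-- `s R^k s = R^(-k)`. -/
theorem dih_conj {G : Type*} [Group G] {R s : G} (hs : s * s = 1) (hc : s * R * s = R⁻¹) (k : ℕ) :
    s * R ^ k * s = (R ^ k)⁻¹ := by
  induction k with
  | zero => simp [hs]
  | succ k ih =>
    have e : s * R ^ (k + 1) * s = s * R * s * (s * R ^ k * s) := by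
      rw [show s * R * s * (s * R ^ k * s) = s * R * (s * s) * R ^ k * s by group, hs, mul_one, pow_succ']
      group
    rw [e, hc, ih, pow_succ, mul_inv_rev]

/-- A homomorphism out of the dihedral group. -/
theorem exists_dihHom {G : Type*} [Group G] {n : ℕ} [NeZero n] (R s : G) (hR : R ^ n = 1) (hs : s * s = 1)
    (hc : s * R * s = R⁻¹) :
    ∃ f : DihedralGroup n →* G, (∀ i : ZMod n, f (DihedralGroup.r i) = R ^ i.val) ∧
      ∀ i : ZMod n, f (DihedralGroup.sr i) = s * R ^ i.val := by
  have hadd : ∀ i j : ZMod n, R ^ (i + j).val = R ^ i.val * R ^ j.val := fun i j => by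
    rw [ZMod.val_add, ← pow_eq_pow_mod _ hR, pow_add]
  have hsub : ∀ i j : ZMod n, R ^ (j - i).val = R ^ j.val * (R ^ i.val)⁻¹ := fun i j => by
    rw [eq_mul_inv_iff_mul_eq, ← hadd, sub_add_cancel]
  have hswap : ∀ i : ZMod n, s * R ^ i.val = (R ^ i.val)⁻¹ * s := fun i => by
    rw [← dih_conj hs hc i.val, mul_assoc (s * R ^ i.val), hs, mul_one]
  have hcomm : ∀ i j : ZMod n, (R ^ i.val)⁻¹ * R ^ j.val = R ^ j.val * (R ^ i.val)⁻¹ := fun i j =>
    ((Commute.pow_pow_self R i.val j.val).inv_left).eq
  refine ⟨MonoidHom.mk' (fun x => match x with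
    | DihedralGroup.r i => R ^ i.val
    | DihedralGroup.sr i => s * R ^ i.val) ?_, fun i => rfl, fun i => rfl⟩
  rintro (i | i) (j | j)
  · rw [DihedralGroup.r_mul_r]; exact hadd i j
  · rw [DihedralGroup.r_mul_sr]
    show s * R ^ (j - i).val = R ^ i.val * (s * R ^ j.val)
    have h1 : R ^ i.val * s = s * (R ^ i.val)⁻¹ := by
      rw [← dih_conj hs hc i.val, ← mul_assoc s (s * R ^ i.val) s, ← mul_assoc s s, hs, one_mul]
    rw [← mul_assoc (R ^ i.val), h1, mul_assoc, hcomm, ← hsub]
  · rw [DihedralGroup.sr_mul_r]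
    show s * R ^ (i + j).val = s * R ^ i.val * R ^ j.val
    rw [hadd, mul_assoc]
  · rw [DihedralGroup.sr_mul_sr]
    show R ^ (j - i).val = s * R ^ i.val * (s * R ^ j.val)
    rw [hswap i, mul_assoc, ← mul_assoc s s, hs, one_mul, hcomm, ← hsub]

/-- A normal subgroup of the dihedral group of order eight avoiding the central involution is trivial. -/
theorem dihedral_four_faithful {G : Type*} [Group G] (f : DihedralGroup 4 →* G) (h : f (DihedralGroup.r 2) ≠ 1) :
    Function.Injective f := by
  have key : ∀ x : DihedralGroup 4, x ≠ 1 → x = DihedralGroup.r 2 ∨ x * x = DihedralGroup.r 2 ∨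
      ∃ y, x * (y * x⁻¹ * y⁻¹) = DihedralGroup.r 2 := by
    decide
  rw [injective_iff_map_eq_one]
  intro x hx
  by_contra hx1
  rcases key x hx1 with h1 | h1 | ⟨y, h1⟩
  · exact h (by rw [← h1, hx])
  · exact h (by rw [← h1, map_mul, hx, one_mul])
  · exact h (by rw [← h1, map_mul, map_mul, map_mul, map_inv, map_inv, hx]; group)

/-- Four elements generated by a central involution `z` and an element `d` with `d * d ∈ {1, z}`. -/
theorem order_four {G : Type*} [Group G] (z d : G) (hz : z * z = 1) (hz1 : z ≠ 1) (hd1 : d ≠ 1) (hdz : d ≠ z)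
    (hall : ∀ x : G, x = 1 ∨ x = z ∨ x = d ∨ x = z * d) :
    (d * d = z → Nonempty (G ≃* Multiplicative (ZMod 4))) ∧
      (d * d = 1 → Nonempty (G ≃* Multiplicative (ZMod 2 × ZMod 2))) := by
  classical
  have hne : z * d ≠ 1 ∧ z * d ≠ z ∧ z * d ≠ d := by
    refine ⟨fun h => hdz ?_, fun h => hd1 (mul_eq_left.1 h), fun h => hz1 (mul_eq_right.1 h)⟩
    rw [← one_mul d, ← hz, mul_assoc, h, mul_one]
  have hcard : Nat.card G = 4 := by
    rw [Nat.card_congr (Equiv.subtypeUnivEquiv (α := G) (p := fun x => x ∈ ({1, z, d, z * d} : Finset G))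
      fun x => by simpa using hall x).symm, Nat.card_eq_fintype_card, Fintype.card_coe]
    rw [Finset.card_insert_of_notMem, Finset.card_insert_of_notMem, Finset.card_pair hne.2.2.symm] <;>
      simp [hz1.symm, hd1.symm, hdz.symm, hne.1.symm, hne.2.1.symm]
  haveI : Finite G := Nat.finite_of_card_ne_zero (by omega)
  refine ⟨fun hdd => ?_, fun hdd => ?_⟩
  · haveI : IsCyclic G := isCyclic_of_orderOf_eq_card d (by
      rw [hcard]
      refine orderOf_eq_prime_pow (p := 2) (n := 1) ?_ ?_
      · rw [pow_one, pow_two, hdd]; exact hz1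
      · rw [show (2 : ℕ) ^ (1 + 1) = 2 * 2 from rfl, pow_mul, pow_two d, hdd, pow_two, hz])
    exact ⟨mulEquivOfCyclicCardEq (by simp [hcard])⟩
  · have hzd : d * z = z * d := by
      rcases hall (d * z) with h | h | h | h
      · exact absurd (mul_left_cancel (h.trans hdd.symm) : z = d) hdz.symm
      · exact absurd (mul_eq_right.1 h) hd1
      · exact absurd (mul_eq_left.1 h) hz1
      · exact h
    have hsq : ∀ x : G, x ^ 2 = 1 := fun x => by
      rw [pow_two]
      rcases hall x with rfl | rfl | rfl | rfl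
      · exact mul_one 1
      · exact hz
      · exact hdd
      · rw [mul_assoc, ← mul_assoc d z, hzd, mul_assoc z d d, hdd, mul_one, hz]
    haveI : IsKleinFour G :=
      { card_four := hcard
        exponent_two := by
          refine (Nat.dvd_prime Nat.prime_two).1 (Monoid.exponent_dvd_of_forall_pow_eq_one hsq) |>.resolve_left fun h => ?_
          rw [Monoid.exp_eq_one_iff] at h
          exact hz1 (h.elim z 1) }
    haveI : IsKleinFour (Multiplicative (ZMod 2 × ZMod 2)) := inferInstance
    exact IsKleinFour.nonempty_mulEquiv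

end Cfsg.Agent.Small.Orth
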