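import Cfsg.Agent.Lib.Small.Orth.SimAut
import Cfsg.Agent.Lib.Small.Orth.SmallQuot

/-!
# The quotients between `Inn`, the special part, and the similitude part of `Aut PΩ`

Even dimension, odd characteristic.
-/

set_option autoImplicit false
set_option linter.unusedSectionVars false

namespace Cfsg.Agent.Small.Orth

open Matrix QuadraticMap Cfsg.Agent.Classical Cfsg.Agent.Classical.OCount Cfsg.Agent.Classical.ORefl
  Cfsg.Agent.Classical.OOmega

/-- A quotient of an image is described on the source. -/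
theorem exists_quot_hom {G A B : Type*} [Group G] [Group A] [Group B] (ρ : G →* A) (T S : Subgroup G) (ψ : T →* B)
    (hψ : Function.Surjective ψ) (hker : ∀ x : T, ψ x = 1 ↔ ρ x ∈ S.map ρ) :
    ∃ φ : ↥(T.map ρ) →* B, Function.Surjective φ ∧ φ.ker = (S.map ρ).subgroupOf (T.map ρ) := by
  let r : T →* ↥(T.map ρ) :=
    (ρ.comp T.subtype).codRestrict (T.map ρ) fun x => Subgroup.mem_map_of_mem ρ x.2
  have hr : Function.Surjective r := fun y => by
    obtain ⟨y, x, hx, rfl⟩ := y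
    exact ⟨⟨x, hx⟩, rfl⟩
  have hk : r.ker ≤ ψ.ker := fun x hx => by
    have h1 : ρ (x : G) = 1 := congrArg Subtype.val (MonoidHom.mem_ker.1 hx)
    exact MonoidHom.mem_ker.2 ((hker x).2 (h1 ▸ one_mem _))
  refine ⟨r.liftOfSurjective hr ⟨ψ, hk⟩, ?_, ?_⟩
  · intro b
    obtain ⟨x, rfl⟩ := hψ b
    exact ⟨r x, MonoidHom.liftOfRightInverse_comp_apply r _ _ _ x⟩
  · ext y
    obtain ⟨x, rfl⟩ := hr y
    rw [MonoidHom.mem_ker, Subgroup.mem_subgroupOf]
    rw [show r.liftOfSurjective hr ⟨ψ, hk⟩ (r x) = ψ x from MonoidHom.liftOfRightInverse_comp_apply r _ _ _ x]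
    exact hker x

variable {F : Type*} [Field F] [Finite F] {ι : Type} [Fintype ι] [DecidableEq ι]
  {Q : QuadraticForm F (ι → F)} {N : ℕ}

/-- The hypotheses on the form. -/
structure SimSetup (Q : QuadraticForm F (ι → F)) (N : ℕ) : Prop where
  h2 : (2 : F) ≠ 0
  pnd : PND Q
  hcard : Fintype.card ι = 2 * N
  hN : 1 ≤ N
  hker : (rho ⇑Q).ker = scalarSub ⇑Q
  hD : ∀ c : Fˣ, ∃ D : ↥(GO ⇑Q), (∀ v, Q ((D : GL ι F).1 *ᵥ v) = (c : F) * Q v) ∧
    (D : GL ι F).1.det = (c : F) ^ N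

theorem SimSetup.two_le (S : SimSetup Q N) : 2 ≤ Module.finrank F (ι → F) := by
  rw [Module.finrank_fintype_fun_eq_card, S.hcard]; have := S.hN; omega

theorem SimSetup.exists_nz (S : SimSetup Q N) : ∃ v, Q v ≠ 0 :=
  exists_nonsing' S.pnd (by rw [S.hcard]; have := S.hN; omega)

theorem SimSetup.gen (S : SimSetup Q N) : Nat.card F ≠ 2 ∨ Fintype.card ι ≠ 4 := Or.inl (card_field_ne_two S.h2)

/-- The multiplier of a similitude. -/
noncomputable def mult (g : ↥(GO ⇑Q)) : Fˣ := g.2.choose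

theorem mult_spec (g : ↥(GO ⇑Q)) (v : ι → F) : Q ((g : GL ι F).1 *ᵥ v) = (mult g : F) * Q v := g.2.choose_spec v

theorem SimSetup.mult_eq (S : SimSetup Q N) (g : ↥(GO ⇑Q)) {c : F} (h : ∀ v, Q ((g : GL ι F).1 *ᵥ v) = c * Q v) :
    (mult g : F) = c := by
  obtain ⟨v, hv⟩ := S.exists_nz
  exact mul_right_cancel₀ hv ((mult_spec g v).symm.trans (h v))

theorem SimSetup.mult_mul (S : SimSetup Q N) (g h : ↥(GO ⇑Q)) : mult (g * h) = mult g * mult h := by
  refine Units.ext (S.mult_eq _ fun v => ?_)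
  rw [Subgroup.coe_mul, Units.val_mul, ← Matrix.mulVec_mulVec, mult_spec, mult_spec, Units.val_mul, mul_assoc]

/-- The multiplier as a homomorphism. -/
noncomputable def SimSetup.multHom (S : SimSetup Q N) : ↥(GO ⇑Q) →* Fˣ := MonoidHom.mk' mult S.mult_mul

/-- The determinant of a similitude. -/
theorem SimSetup.det_pm (S : SimSetup Q N) (g : ↥(GO ⇑Q)) :
    (g : GL ι F).1.det = (mult g : F) ^ N ∨ (g : GL ι F).1.det = -(mult g : F) ^ N := by
  obtain ⟨B, hB⟩ : ∃ B, B = LinearMap.toMatrix₂' F (QuadraticMap.polarBilin Q) := ⟨_, rfl⟩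
  have hB0 : B.det ≠ 0 := by
    rw [← Matrix.nondegenerate_iff_det_ne_zero, hB, LinearMap.nondegenerate_toMatrix₂'_iff]
    exact nondeg S.pnd
  have hcomp : (g : GL ι F).1ᵀ * B * (g : GL ι F).1 = (mult g : F) • B := by
    rw [hB, LinearMap.mul_toMatrix₂'_mul, ← map_smul]
    congr 1
    refine LinearMap.ext₂ fun x y => ?_
    simp only [Matrix.transpose_transpose, LinearMap.compl₁₂_apply, Matrix.toLin'_apply,
      QuadraticMap.polarBilin_apply_apply, LinearMap.smul_apply, smul_eq_mul, QuadraticMap.polar,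
      ← Matrix.mulVec_add, mult_spec]
    ring
  have h := congrArg Matrix.det hcomp
  rw [Matrix.det_mul, Matrix.det_mul, Matrix.det_transpose, Matrix.det_smul, S.hcard] at h
  have h' : ((g : GL ι F).1.det - (mult g : F) ^ N) * ((g : GL ι F).1.det + (mult g : F) ^ N) = 0 :=
    (mul_eq_zero.1 (show B.det * (((g : GL ι F).1.det - (mult g : F) ^ N) * ((g : GL ι F).1.det + (mult g : F) ^ N)) = 0 by
      rw [two_mul, pow_add] at h; linear_combination h)).resolve_left hB0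
  rcases mul_eq_zero.1 h' with e | e
  · exact Or.inl (sub_eq_zero.1 e)
  · exact Or.inr (eq_neg_of_add_eq_zero_left e)

theorem SimSetup.neg_ne_one (S : SimSetup Q N) : (-1 : F) ≠ 1 := fun e => S.h2 (by linear_combination -e)

open scoped _root_.Classical in
/-- Whether `det = μ^N`. -/
noncomputable def SimSetup.delta (S : SimSetup Q N) : ↥(GO ⇑Q) →* ℤˣ :=
  MonoidHom.mk' (fun g => if (g : GL ι F).1.det = (mult g : F) ^ N then 1 else -1) fun g h => by
    have hne : ∀ k : ↥(GO ⇑Q), (mult k : F) ^ N ≠ 0 := fun k => pow_ne_zero _ (Units.ne_zero _)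
    have hnn : ∀ k : ↥(GO ⇑Q), -((mult k : F) ^ N) ≠ (mult k : F) ^ N := fun k e =>
      hne k ((mul_eq_zero.1 (show (2 : F) * (mult k : F) ^ N = 0 by linear_combination -e)).resolve_left S.h2)
    rw [S.mult_mul, Units.val_mul, mul_pow, Subgroup.coe_mul, Units.val_mul, Matrix.det_mul]
    rcases S.det_pm g with e | e <;> rcases S.det_pm h with e' | e' <;> rw [e, e']
    · rw [if_pos rfl, if_pos rfl, if_pos rfl, one_mul]
    · rw [if_pos rfl, if_neg (hnn h), if_neg, one_mul]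
      intro c
      exact hnn h (mul_left_cancel₀ (hne g) c)
    · rw [if_neg (hnn g), if_pos rfl, if_neg, mul_one]
      intro c
      exact hnn g (mul_right_cancel₀ (hne h) c)
    · rw [if_neg (hnn g), if_neg (hnn h), neg_mul_neg, if_pos rfl]; rfl

theorem SimSetup.delta_eq_one (S : SimSetup Q N) (g : ↥(GO ⇑Q)) :
    S.delta g = 1 ↔ (g : GL ι F).1.det = (mult g : F) ^ N := by
  classical
  show (if (g : GL ι F).1.det = (mult g : F) ^ N then (1 : ℤˣ) else -1) = 1 ↔ _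
  split_ifs with h <;> simp [h]

open scoped _root_.Classical in
/-- The quadratic character. -/
noncomputable def SimSetup.sqSign (S : SimSetup Q N) : Fˣ →* ℤˣ :=
  MonoidHom.mk' (fun c => if IsSquare (c : F) then 1 else -1) fun a b => by
    rw [Units.val_mul]
    simp only [isSquare_iff_mul S.h2 (Units.ne_zero a) (Units.ne_zero b)]
    split_ifs <;> first | rfl | tauto

theorem SimSetup.sqSign_eq_one (S : SimSetup Q N) (c : Fˣ) : S.sqSign c = 1 ↔ IsSquare (c : F) := by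
  classical
  show (if IsSquare (c : F) then (1 : ℤˣ) else -1) = 1 ↔ _
  split_ifs with h <;> simp [h]

/-- The square class of the multiplier. -/
noncomputable def SimSetup.multSign (S : SimSetup Q N) : ↥(GO ⇑Q) →* ℤˣ := S.sqSign.comp S.multHom

theorem SimSetup.multSign_eq_one (S : SimSetup Q N) (g : ↥(GO ⇑Q)) : S.multSign g = 1 ↔ IsSquare (mult g : F) :=
  S.sqSign_eq_one (mult g)

/-- A scalar as a similitude. -/
noncomputable def scalarG (Q : QuadraticForm F (ι → F)) (c : Fˣ) : ↥(GO ⇑Q) :=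
  ⟨Units.map (Matrix.scalar ι : F →+* Matrix ι ι F).toMonoidHom c, c * c, fun v => by
    show Q (Matrix.scalar ι (c : F) *ᵥ v) = _
    rw [Matrix.scalar_apply, ← Matrix.smul_one_eq_diagonal, Matrix.smul_mulVec, Matrix.one_mulVec,
      QuadraticMap.map_smul]
    rfl⟩

theorem scalarG_mulVec (c : Fˣ) (v : ι → F) : (scalarG Q c : GL ι F).1 *ᵥ v = (c : F) • v := by
  show Matrix.scalar ι (c : F) *ᵥ v = _
  rw [Matrix.scalar_apply, ← Matrix.smul_one_eq_diagonal, Matrix.smul_mulVec, Matrix.one_mulVec]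

theorem scalarG_mem (c : Fˣ) : scalarG Q c ∈ scalarSub ⇑Q :=
  (Cfsg.Geo.mem_scalars_iff _).2 ⟨c, by
    show Matrix.scalar ι (c : F) = _
    rw [Matrix.scalar_apply, Matrix.smul_one_eq_diagonal]⟩

theorem SimSetup.delta_scalar (S : SimSetup Q N) (c : Fˣ) :
    mult (scalarG Q c) = c * c ∧ S.delta (scalarG Q c) = 1 := by
  have h : mult (scalarG Q c) = c * c := Units.ext (S.mult_eq _ fun v => by
    rw [scalarG_mulVec, QuadraticMap.map_smul, Units.val_mul]; rfl)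
  refine ⟨h, (S.delta_eq_one _).2 ?_⟩
  rw [h]
  show (Matrix.scalar ι (c : F)).det = _
  rw [Matrix.scalar_apply, Matrix.det_diagonal, Finset.prod_const, Finset.card_univ, S.hcard, Units.val_mul,
    ← pow_two, ← pow_mul]

theorem SimSetup.mult_incl (S : SimSetup Q N) (h : ↥(Cfsg.isometryGroup F ⇑Q)) : mult (incl ⇑Q h) = 1 :=
  Units.ext (S.mult_eq _ fun v => by rw [Units.val_one, one_mul]; exact h.2 v v)

theorem SimSetup.delta_incl (S : SimSetup Q N) (h : ↥(Cfsg.isometryGroup F ⇑Q)) (vs : List (ι → F))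
    (hvs : ∀ v ∈ vs, Q v ≠ 0) (hM : ∀ x, h.1.1 *ᵥ x = (prodRf Q vs).1 x) :
    S.delta (incl ⇑Q h) = 1 ↔ Even vs.length := by
  rw [S.delta_eq_one, S.mult_incl, Units.val_one, one_pow,
    show ((incl ⇑Q h : ↥(GO ⇑Q)) : GL ι F).1 = h.1.1 from rfl, det_word vs hvs hM]
  refine ⟨fun he => ?_, fun he => he.neg_one_pow⟩
  by_contra hc
  rw [(Nat.not_even_iff_odd.1 hc).neg_one_pow] at he
  exact S.neg_ne_one he

/-- A similitude with square multiplier is a scalar times an isometry. -/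
theorem SimSetup.decomp (S : SimSetup Q N) (g : ↥(GO ⇑Q)) (h : IsSquare (mult g : F)) :
    ∃ (a : Fˣ) (k : ↥(Cfsg.isometryGroup F ⇑Q)), g = scalarG Q a * incl ⇑Q k := by
  obtain ⟨a, ha⟩ := h
  have ha0 : a ≠ 0 := fun e => Units.ne_zero (mult g) (by rw [ha, e, mul_zero])
  refine ⟨Units.mk0 a ha0, ⟨((scalarG Q (Units.mk0 a ha0))⁻¹ * g : ↥(GO ⇑Q)), fun v _ => ?_⟩, ?_⟩
  · show Q ((((scalarG Q (Units.mk0 a ha0))⁻¹ * g : ↥(GO ⇑Q)) : GL ι F).1 *ᵥ v) = Q v
    rw [mult_spec, S.mult_mul, show mult (scalarG Q (Units.mk0 a ha0))⁻¹ = (mult (scalarG Q (Units.mk0 a ha0)))⁻¹ from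
      map_inv S.multHom _, (S.delta_scalar _).1]
    simp [ha]
    field_simp
  · exact (mul_inv_cancel_left _ _).symm

/-- `-1` lies in `Ω`. -/
def NegMem (Q : QuadraticForm F (ι → F)) : Prop :=
  ∃ g : ↥(Cfsg.isometryGroup F ⇑Q), g ∈ Cfsg.Omega F ⇑Q ∧ (g.1.1 : Matrix ι ι F) = -1

/-- When an isometry acts as an inner automorphism. -/
theorem SimSetup.rho_incl_mem (S : SimSetup Q N) (h : ↥(Cfsg.isometryGroup F ⇑Q)) :
    rho ⇑Q (incl ⇑Q h) ∈ (omegaSub ⇑Q).map (rho ⇑Q) ↔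
      h ∈ Cfsg.Omega F ⇑Q ∨ ∃ s ∈ Cfsg.Omega F ⇑Q, h.1.1 = -(s.1.1) := by
  constructor
  · rintro ⟨_, ⟨s, hs, rfl⟩, he⟩
    have hk : incl ⇑Q h * (incl ⇑Q s)⁻¹ ∈ (rho ⇑Q).ker := by
      rw [MonoidHom.mem_ker, map_mul, map_inv, he, mul_inv_cancel]
    rw [S.hker, ← map_inv, ← map_mul] at hk
    obtain ⟨c, hc⟩ := (Cfsg.Geo.mem_scalars_iff _).1 hk
    have hc' : (h * s⁻¹).1.1 = (c : F) • (1 : Matrix ι ι F) := hc
    obtain ⟨v, hv⟩ := S.exists_nz
    have hcc : ((c : F) * (c : F)) = 1 := by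
      have h1 : Q ((h * s⁻¹).1.1 *ᵥ v) = Q v := (h * s⁻¹).2 v v
      rw [hc', Matrix.smul_mulVec, Matrix.one_mulVec, QuadraticMap.map_smul] at h1
      exact mul_right_cancel₀ hv (h1.trans (one_mul _).symm)
    have heq : h.1.1 = (c : F) • s.1.1 := by
      calc h.1.1 = (h * s⁻¹).1.1 * s.1.1 := by
            rw [← Units.val_mul, ← Subgroup.coe_mul, inv_mul_cancel_right]
        _ = (c : F) • s.1.1 := by rw [hc', Matrix.smul_mul, Matrix.one_mul]
    rcases mul_self_eq_one_iff.1 hcc with hc1 | hc1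
    · exact Or.inl (by rwa [show h = s from Subtype.ext (Units.ext (by rw [heq, hc1, one_smul]))])
    · exact Or.inr ⟨s, hs, by rw [heq, hc1, neg_one_smul]⟩
  · rintro (h1 | ⟨s, hs, h1⟩)
    · exact ⟨_, ⟨h, h1, rfl⟩, rfl⟩
    · refine ⟨_, ⟨s, hs, rfl⟩, ?_⟩
      have e : incl ⇑Q h = scalarG Q (-1) * incl ⇑Q s := Subtype.ext (Units.ext (by
        show h.1.1 = (scalarG Q (-1) : GL ι F).1 * s.1.1
        rw [h1]
        exact Matrix.ext_of_mulVec_single fun i => by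
          rw [← Matrix.mulVec_mulVec, scalarG_mulVec, Matrix.neg_mulVec, Units.val_neg, Units.val_one, neg_one_smul]))
      rw [e, map_mul, MonoidHom.mem_ker.1 (scalarSub_le_ker (scalarG_mem (-1))), one_mul]

theorem rho_incl_mem_of_neg (S : SimSetup Q N) (hneg : NegMem Q) (h : ↥(Cfsg.isometryGroup F ⇑Q)) :
    rho ⇑Q (incl ⇑Q h) ∈ (omegaSub ⇑Q).map (rho ⇑Q) ↔ h ∈ Cfsg.Omega F ⇑Q := by
  rw [S.rho_incl_mem]
  refine ⟨fun hh => hh.elim id ?_, Or.inl⟩
  rintro ⟨s, hs, h1⟩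
  obtain ⟨g, hg, hg1⟩ := hneg
  rw [show h = g * s from Subtype.ext (Units.ext (by
    rw [Subgroup.coe_mul, Units.val_mul, hg1, neg_one_mul, h1]))]
  exact mul_mem hg hs

theorem SimSetup.mem_special (S : SimSetup Q N) (g : ↥(GO ⇑Q)) :
    g ∈ specialSub ⇑Q ↔ mult g = 1 ∧ S.delta g = 1 := by
  constructor
  · rintro ⟨h1, h3⟩
    have hm : mult g = 1 := Units.ext (S.mult_eq g fun v => by rw [Units.val_one, one_mul]; exact h1 v v)
    refine ⟨hm, (S.delta_eq_one g).2 ?_⟩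
    rw [hm, Units.val_one, one_pow]
    exact congrArg Units.val (MonoidHom.mem_ker.1 h3)
  · rintro ⟨h1, h3⟩
    refine ⟨fun v _ => ?_, MonoidHom.mem_ker.2 (Units.ext ?_)⟩
    · show Q ((g : GL ι F).1 *ᵥ v) = Q v
      rw [mult_spec, h1, Units.val_one, one_mul]
    · show (g : GL ι F).1.det = 1
      rw [(S.delta_eq_one g).1 h3, h1, Units.val_one, one_pow]

/-- The image of the similitudes modulo the special isometries. -/
theorem SimSetup.rho_mem_special (S : SimSetup Q N) (g : ↥(GO ⇑Q)) :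
    rho ⇑Q g ∈ (specialSub ⇑Q).map (rho ⇑Q) ↔ S.multSign g = 1 ∧ S.delta g = 1 := by
  constructor
  · rintro ⟨x, hx, he⟩
    have hk : g * x⁻¹ ∈ (rho ⇑Q).ker := by rw [MonoidHom.mem_ker, map_mul, map_inv, he, mul_inv_cancel]
    rw [S.hker] at hk
    obtain ⟨c, hc⟩ := (Cfsg.Geo.mem_scalars_iff _).1 hk
    have e : g = scalarG Q c * x := by
      have : g * x⁻¹ = scalarG Q c := Subtype.ext (Units.ext (hc.trans (by
        show _ = Matrix.scalar ι (c : F)
        rw [Matrix.scalar_apply, Matrix.smul_one_eq_diagonal])))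
      rw [← this, inv_mul_cancel_right]
    obtain ⟨x1, x2⟩ := (S.mem_special x).1 hx
    obtain ⟨c1, c2⟩ := S.delta_scalar c
    refine ⟨(S.multSign_eq_one g).2 ?_, by rw [e, map_mul, c2, x2, one_mul]⟩
    rw [e, S.mult_mul, c1, x1, mul_one, Units.val_mul]
    exact IsSquare.mul_self _
  · rintro ⟨h1, h3⟩
    obtain ⟨a, k, e⟩ := S.decomp g ((S.multSign_eq_one g).1 h1)
    refine ⟨incl ⇑Q k, (S.mem_special _).2 ⟨S.mult_incl k, ?_⟩, ?_⟩
    · have h4 := congrArg S.delta e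
      rw [map_mul, (S.delta_scalar a).2, one_mul, h3] at h4
      exact h4.symm
    · rw [e, map_mul, MonoidHom.mem_ker.1 (scalarSub_le_ker (scalarG_mem a)), one_mul]

theorem SimSetup.exists_nonsquare (S : SimSetup Q N) : ∃ ν : Fˣ, ¬ IsSquare (ν : F) := by
  haveI := Fintype.ofFinite F
  obtain ⟨ν, hν⟩ := FiniteField.exists_nonsquare (F := F) fun h => S.h2 (by
    haveI := ringChar.of_eq h
    exact CharTwo.two_eq_zero)
  exact ⟨Units.mk0 ν fun h => hν (h ▸ IsSquare.zero), hν⟩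

/-- A reflection. -/
theorem SimSetup.exists_refl (S : SimSetup Q N) {c : F} (hc : c ≠ 0) :
    ∃ (r : ↥(Cfsg.isometryGroup F ⇑Q)) (u : ι → F), Q u = c ∧ ∀ x, r.1.1 *ᵥ x = (prodRf Q [u]).1 x := by
  obtain ⟨u, hu⟩ := exists_value S.h2 S.pnd S.two_le c
  obtain ⟨r, hr⟩ := exists_word_mat (Q := Q) rfl [u]
  exact ⟨r, u, hu, hr⟩

/-- The similitudes modulo the special isometries form a four-group. -/
theorem SimSetup.pgo_pso (S : SimSetup Q N) :
    ∃ φ : ↥(Cfsg.pgoAut F ⇑Q) →* Multiplicative (ZMod 2 × ZMod 2), Function.Surjective φ ∧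
      φ.ker = (Cfsg.psoAut F ⇑Q).subgroupOf (Cfsg.pgoAut F ⇑Q) := by
  obtain ⟨e⟩ : Nonempty (ℤˣ × ℤˣ ≃* Multiplicative (ZMod 2 × ZMod 2)) := by
    have hz : ∀ x : ℤˣ × ℤˣ, x = 1 ∨ x = (-1, 1) ∨ x = (1, -1) ∨ x = (-1, 1) * (1, -1) := by decide
    exact (order_four ((-1, 1) : ℤˣ × ℤˣ) (1, -1) (by decide) (by decide) (by decide) (by decide) hz).2 (by decide)
  obtain ⟨ν, hν⟩ := S.exists_nonsquare
  obtain ⟨D, hD1, hD2⟩ := S.hD ν
  have hDm : mult D = ν := Units.ext (S.mult_eq D hD1)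
  obtain ⟨r, u, hu, hr⟩ := S.exists_refl one_ne_zero
  have hrd : S.delta (incl ⇑Q r) = -1 := (Int.units_eq_one_or _).resolve_left fun h => by
    simpa using (S.delta_incl r [u] (by simp [hu]) hr).1 h
  have hsurj : Function.Surjective (S.multSign.prod S.delta) := by
    rintro ⟨a, b⟩
    have e1 : S.multSign D = -1 := (Int.units_eq_one_or _).resolve_left fun h =>
      hν (hDm ▸ (S.multSign_eq_one D).1 h)
    have e2 : S.delta D = 1 := (S.delta_eq_one D).2 (by rw [hD2, hDm])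
    have e3 : S.multSign (incl ⇑Q r) = 1 := (S.multSign_eq_one _).2 (by rw [S.mult_incl]; exact IsSquare.one)
    rcases Int.units_eq_one_or a with rfl | rfl <;> rcases Int.units_eq_one_or b with rfl | rfl
    · exact ⟨1, map_one _⟩
    · exact ⟨incl ⇑Q r, Prod.ext e3 hrd⟩
    · exact ⟨D, Prod.ext e1 e2⟩
    · exact ⟨D * incl ⇑Q r, Prod.ext (show S.multSign (D * incl ⇑Q r) = -1 by rw [map_mul, e1, e3, mul_one])
        (show S.delta (D * incl ⇑Q r) = -1 by rw [map_mul, e2, hrd, one_mul])⟩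
  have h := exists_quot_hom (rho ⇑Q) ⊤ (specialSub ⇑Q)
    ((e.toMonoidHom.comp (S.multSign.prod S.delta)).comp (⊤ : Subgroup ↥(GO ⇑Q)).subtype)
    (fun b => by
      obtain ⟨g, hg⟩ := hsurj (e.symm b)
      exact ⟨⟨g, Subgroup.mem_top g⟩, by
        show e (S.multSign.prod S.delta g) = b
        rw [hg, e.apply_symm_apply]⟩)
    (fun x => by
      rw [S.rho_mem_special]
      show e (S.multSign.prod S.delta x.1) = 1 ↔ _
      rw [EmbeddingLike.map_eq_one_iff]
      exact Prod.ext_iff)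
  rw [← MonoidHom.range_eq_map] at h
  rw [pgoAut_eq, psoAut_eq]
  exact h

/-- Without `-1` in `Ω` the special isometries act as inner automorphisms. -/
theorem SimSetup.special_eq_inn (S : SimSetup Q N) (hneg : ¬ NegMem Q) :
    (specialSub ⇑Q).map (rho ⇑Q) = (omegaSub ⇑Q).map (rho ⇑Q) := by
  refine le_antisymm ?_ (Subgroup.map_mono ?_)
  · rintro _ ⟨g, hg, rfl⟩
    obtain ⟨g1, g2⟩ := (S.mem_special g).1 hg
    set h : ↥(Cfsg.isometryGroup F ⇑Q) := ⟨(g : GL ι F), fun v _ => by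
      show Q ((g : GL ι F).1 *ᵥ v) = Q v
      rw [mult_spec, g1, Units.val_one, one_mul]⟩
    have hg' : g = incl ⇑Q h := rfl
    rw [hg'] at g2 ⊢
    rw [S.rho_incl_mem]
    obtain ⟨vs, hvs, hM⟩ := exists_list_mat rfl S.pnd S.gen h
    have hev := (S.delta_incl h vs hvs hM).1 g2
    by_cases hsq : IsSquare (vs.map fun v => Q v).prod
    · exact Or.inl ((mem_omega rfl S.pnd h vs hvs hM).2 ⟨hev, hsq⟩)
    refine Or.inr ?_
    set n : ↥(Cfsg.isometryGroup F ⇑Q) := toMat Q (negI Q)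
    have hn : n.1.1 = -1 := negI_toMat Q
    obtain ⟨ws, hws, hN⟩ := exists_list_mat rfl S.pnd S.gen n
    have hwe : Even ws.length := by
      have h1 := det_word ws hws hN
      rw [hn, Matrix.det_neg, Matrix.det_one, mul_one, S.hcard, pow_mul, neg_one_sq, one_pow] at h1
      by_contra hc
      rw [(Nat.not_even_iff_odd.1 hc).neg_one_pow] at h1
      exact S.neg_ne_one h1.symm
    have hwn : ¬ IsSquare (ws.map fun v => Q v).prod := fun hs =>
      hneg ⟨n, (mem_omega rfl S.pnd n ws hws hN).2 ⟨hwe, hs⟩, hn⟩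
    refine ⟨h * n, (mem_omega rfl S.pnd (h * n) (vs ++ ws)
      (fun v hv => (List.mem_append.1 hv).elim (hvs v) (hws v)) fun x => ?_).2 ⟨?_, ?_⟩, ?_⟩
    · rw [Subgroup.coe_mul, Units.val_mul, ← Matrix.mulVec_mulVec, hN, hM, prodRf_append]
      rfl
    · rw [List.length_append]; exact hev.add hwe
    · rw [List.map_append, List.prod_append, isSquare_iff_mul S.h2 (values_ne hvs) (values_ne hws)]
      exact iff_of_false hsq hwn
    · rw [Subgroup.coe_mul, Units.val_mul, hn, mul_neg_one, neg_neg]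
  · rintro _ ⟨s, hs, rfl⟩
    obtain ⟨vs, hvs, hM⟩ := exists_list_mat rfl S.pnd S.gen s
    exact (S.mem_special _).2 ⟨S.mult_incl s,
      (S.delta_incl s vs hvs hM).2 ((mem_omega rfl S.pnd s vs hvs hM).1 hs).1⟩

/-- The index of the inner automorphisms in the special part. -/
theorem SimSetup.inn_pso (S : SimSetup Q N) :
    (¬ NegMem Q → (Cfsg.Inn (Cfsg.POmega F ⇑Q)).relIndex (Cfsg.psoAut F ⇑Q) = 1) ∧
      (NegMem Q → (Cfsg.Inn (Cfsg.POmega F ⇑Q)).relIndex (Cfsg.psoAut F ⇑Q) = 2) := by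
  rw [psoAut_eq, inn_eq]
  refine ⟨fun hneg => by rw [S.special_eq_inn hneg, Subgroup.relIndex_self], fun hneg => ?_⟩
  obtain ⟨ν, hν⟩ := S.exists_nonsquare
  obtain ⟨u, hu⟩ := exists_value S.h2 S.pnd S.two_le 1
  obtain ⟨w, hw⟩ := exists_value S.h2 S.pnd S.two_le (ν : F)
  have hu0 : Q u ≠ 0 := hu ▸ one_ne_zero
  have hw0 : Q w ≠ 0 := hw ▸ Units.ne_zero ν
  obtain ⟨a, ha⟩ := exists_word_mat (Q := Q) rfl [u, w]
  have haS : incl ⇑Q a ∈ specialSub ⇑Q := (S.mem_special _).2 ⟨S.mult_incl a,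
    (S.delta_incl a [u, w] (by simp [hu0, hw0]) ha).2 ⟨1, rfl⟩⟩
  rw [Subgroup.relIndex, Subgroup.index_eq_two_iff]
  refine ⟨⟨rho ⇑Q (incl ⇑Q a), Subgroup.mem_map_of_mem _ haS⟩, fun b => ?_⟩
  obtain ⟨_, g, hg, rfl⟩ := b
  obtain ⟨g1, g2⟩ := (S.mem_special g).1 hg
  obtain ⟨h, rfl⟩ : ∃ h, g = incl ⇑Q h := ⟨⟨(g : GL ι F), fun v _ => by
      show Q ((g : GL ι F).1 *ᵥ v) = Q v
      rw [mult_spec, g1, Units.val_one, one_mul]⟩, rfl⟩
  obtain ⟨vs, hvs, hM⟩ := exists_list_mat rfl S.pnd S.gen h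
  have hev := (S.delta_incl h vs hvs hM).1 g2
  rw [xor_iff_iff_not, Subgroup.mem_subgroupOf, Subgroup.mem_subgroupOf, Subgroup.coe_mul, ← map_mul, ← map_mul,
    rho_incl_mem_of_neg S hneg, rho_incl_mem_of_neg S hneg, mem_omega rfl S.pnd h vs hvs hM,
    mem_omega rfl S.pnd (h * a) (vs ++ [u, w])
      (fun v hv => (List.mem_append.1 hv).elim (hvs v) (by simp only [List.mem_cons, List.not_mem_nil, or_false]; rintro (rfl | rfl) <;> assumption))
      (fun x => by rw [Subgroup.coe_mul, Units.val_mul, ← Matrix.mulVec_mulVec, ha, hM, prodRf_append]; rfl)]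
  have hev2 : Even (vs ++ [u, w]).length := by rw [List.length_append]; exact hev.add ⟨1, rfl⟩
  simp only [hev, hev2, true_and, List.map_append, List.prod_append, List.map_cons, List.map_nil, List.prod_cons,
    List.prod_nil, mul_one, hu, hw, one_mul]
  rw [isSquare_iff_mul S.h2 (values_ne hvs) (Units.ne_zero ν)]
  simp [hν]

end Cfsg.Agent.Small.Orth
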