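import Cfsg.Agent.Lib.Small.Orth.Bridge

/-!
# Orthogonal sums
-/

set_option autoImplicit false
set_option linter.unusedSectionVars false

namespace Cfsg.Agent.Small.Orth

open Module QuadraticMap Matrix Cfsg.Agent.Classical Cfsg.Agent.Classical.OCount Cfsg.Agent.Classical.ORefl
  Cfsg.Agent.Classical.OOmega

variable {F : Type*} [Field F] {ι κ : Type} [Fintype ι] [DecidableEq ι] [Fintype κ] [DecidableEq κ]
  (Q₁ : QuadraticForm F (ι → F)) (Q₂ : QuadraticForm F (κ → F))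

/-- The orthogonal sum. -/
noncomputable def sumForm : QuadraticForm F (ι ⊕ κ → F) :=
  QuadraticMap.comp Q₁ (LinearMap.funLeft F F Sum.inl) + QuadraticMap.comp Q₂ (LinearMap.funLeft F F Sum.inr)

theorem coe_sumForm : ⇑(sumForm Q₁ Q₂) = fun v : ι ⊕ κ → F => Q₁ (v ∘ Sum.inl) + Q₂ (v ∘ Sum.inr) :=
  funext fun _ => rfl

theorem sumForm_polar (x y : ι ⊕ κ → F) : polar (sumForm Q₁ Q₂) x y =
    polar Q₁ (x ∘ Sum.inl) (y ∘ Sum.inl) + polar Q₂ (x ∘ Sum.inr) (y ∘ Sum.inr) := by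
  have e : ∀ z : ι ⊕ κ → F, sumForm Q₁ Q₂ z = Q₁ (z ∘ Sum.inl) + Q₂ (z ∘ Sum.inr) := fun z => rfl
  simp only [polar, e]
  rw [show (x + y) ∘ Sum.inl = x ∘ Sum.inl + y ∘ Sum.inl from rfl,
    show (x + y) ∘ Sum.inr = x ∘ Sum.inr + y ∘ Sum.inr from rfl]
  ring

theorem sumForm_pnd (h₁ : PND Q₁) (h₂ : PND Q₂) : PND (sumForm Q₁ Q₂) := fun x hx => by
  have e1 := h₁ (x ∘ Sum.inl) fun w => by
    have := hx (Sum.elim w 0)
    rwa [sumForm_polar, Sum.elim_comp_inl, Sum.elim_comp_inr, polar_zero_right, add_zero] at this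
  have e2 := h₂ (x ∘ Sum.inr) fun w => by
    have := hx (Sum.elim 0 w)
    rwa [sumForm_polar, Sum.elim_comp_inl, Sum.elim_comp_inr, polar_zero_right, zero_add] at this
  funext i
  rcases i with i | i
  exacts [congrFun e1 i, congrFun e2 i]

theorem sumForm_inl (v : ι → F) : sumForm Q₁ Q₂ (Sum.elim v 0) = Q₁ v := by
  rw [coe_sumForm]; simp

/-- A word of the first summand, extended. -/
theorem prodRf_inl (vs : List (ι → F)) (x : ι ⊕ κ → F) :
    (prodRf (sumForm Q₁ Q₂) (vs.map fun v => (Sum.elim v 0 : ι ⊕ κ → F))).1 x =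
      Sum.elim ((prodRf Q₁ vs).1 (x ∘ Sum.inl)) (x ∘ Sum.inr) := by
  induction vs with
  | nil => simp [prodRf_nil]
  | cons v vs ih =>
    rw [List.map_cons, prodRf_cons, prodRf_cons]
    change refl (sumForm Q₁ Q₂) (Sum.elim v 0)
      ((prodRf (sumForm Q₁ Q₂) (vs.map fun v => (Sum.elim v 0 : ι ⊕ κ → F))).1 x) =
      Sum.elim (refl Q₁ v ((prodRf Q₁ vs).1 (x ∘ Sum.inl))) (x ∘ Sum.inr)
    rw [ih, refl_apply, refl_apply, sumForm_inl, sumForm_polar, Sum.elim_comp_inl, Sum.elim_comp_inr,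
      Sum.elim_comp_inl, Sum.elim_comp_inr, polar_zero_left, add_zero]
    funext i
    rcases i with i | i <;> simp

end Cfsg.Agent.Small.Orth
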